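import Cfsg.Agent.TwoTransTwo.Main
import Cfsg.Agent.Perm.BurnsidePrime
import Cfsg.Agent.S3360

/-!
Transitive linear groups in dimension `n` over `GF(2)` with `2 ^ n - 1` prime.
-/

set_option autoImplicit false
set_option linter.unusedSectionVars false

namespace CfsgLib.TwoTransTwo

open MulAction Module

variable {V : Type*} [AddCommGroup V] [Module (ZMod 2) V] [Finite V]

theorem card_ringAut_semilinear {F : Type*} [Field F] [Finite F] {n : ℕ}
    (hF : Nat.card F = 2 ^ n) (hn : n ≠ 0) {K : Type*} [Group K] [Finite K] (s : K → (F ≃+* F))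
    (hs : Function.Injective s) (hmul : ∀ a b x, s (a * b) x = s a (s b x)) : Nat.card K ∣ n := by
  haveI := Fintype.ofFinite F
  haveI : CharP F 2 := by
    obtain ⟨m, hp, hc⟩ := FiniteField.card F (ringChar F)
    rw [← Nat.card_eq_fintype_card, hF] at hc
    have h2 : (2 : ℕ) = ringChar F := by
      have h1 : (2 : ℕ) ∣ (ringChar F) ^ (m : ℕ) := hc ▸ dvd_pow_self 2 hn
      exact (Nat.prime_dvd_prime_iff_eq Nat.prime_two hp).1 (Nat.prime_two.dvd_of_dvd_pow h1)
    exact h2 ▸ ringChar.charP F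
  haveI := Fact.mk Nat.prime_two
  let _ : Algebra (ZMod 2) F := ZMod.algebra F 2
  have hfr : finrank (ZMod 2) F = n := by
    have := Module.natCard_eq_pow_finrank (K := ZMod 2) (V := F)
    rw [hF, Nat.card_zmod] at this
    exact (Nat.pow_right_injective le_rfl this).symm
  have hcomm : ∀ (σ : F ≃+* F) (r : ZMod 2), σ (algebraMap (ZMod 2) F r) = algebraMap _ _ r :=
    fun σ r => RingHom.congr_fun
      (RingHom.ext_zmod ((σ : F →+* F).comp (algebraMap (ZMod 2) F)) (algebraMap _ _)) r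
  let φ : K →* (F ≃ₐ[ZMod 2] F) := MonoidHom.mk'
    (fun a => AlgEquiv.ofRingEquiv (f := s a) (hcomm (s a)))
    (fun a b => AlgEquiv.ext fun x => hmul a b x)
  have hφ : Function.Injective φ := fun a b e =>
    hs (RingEquiv.ext fun x => AlgEquiv.congr_fun e x)
  rw [← hfr, ← IsGalois.card_aut_eq_finrank (ZMod 2) F]
  exact Subgroup.card_dvd_of_injective φ hφ

/-- The solvable transitive groups: their order is `p` or `n p` and the Sylow subgroup is
normal. -/
theorem solvable_case {n : ℕ} (hn : finrank (ZMod 2) V = n) (hp : (2 ^ n - 1).Prime)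
    (H : Subgroup (V ≃ₗ[ZMod 2] V)) (ht : ∀ v w : V, v ≠ 0 → w ≠ 0 → ∃ h ∈ H, h v = w)
    (hsol : Group.IsSolvable H) :
    (IsCyclic H ∧ Nat.card H = 2 ^ n - 1) ∨
      (Nat.card H = n * (2 ^ n - 1) ∧ ∃ C : Subgroup (V ≃ₗ[ZMod 2] V), C ≤ H ∧
        (C.subgroupOf H).Normal ∧ IsCyclic C ∧ Nat.card C = 2 ^ n - 1) := by
  haveI := Fact.mk Nat.prime_two
  haveI := Fact.mk hp
  have hn0 : 2 ≤ n := by
    rcases n with _ | _ | n
    · exact absurd hp (by norm_num)
    · exact absurd hp (by norm_num)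
    · omega
  haveI : Nontrivial V := Module.nontrivial_of_finrank_pos (R := ZMod 2) (by omega)
  have hV : Nat.card V = 2 ^ n := by rw [card_space, hn]
  rcases Cfsg.Agent.S3360.result 2 (G := H) hsol H.subtype H.subtype_injective
    (fun v w hv hw => by obtain ⟨h, hh, e⟩ := ht v w hv hw; exact ⟨⟨h, hh⟩, e⟩) with
    ⟨F, iF, iF', e, he⟩ | hex
  swap
  · have h2 : 2 ∣ 2 ^ n := dvd_pow_self 2 (by omega)
    rw [hV] at hex
    simp only [Set.mem_insert_iff, Set.mem_singleton_iff] at hex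
    rcases hex with h | h | h | h | h | h <;> rw [h] at h2 <;> omega
  set v₀ := e.symm 1 with hv₀
  have hv₀0 : v₀ ≠ 0 := fun h => one_ne_zero (α := F) (by
    have := congrArg e h
    rwa [hv₀, e.apply_symm_apply, map_zero] at this)
  set K := stabilizer H v₀ with hK
  have hindex : K.index = 2 ^ n - 1 := by
    rw [MulAction.index_stabilizer, show orbit H v₀ = {v | v ≠ 0} from ?_, Pairing.ncard_ne_zero, hn]
    ext v
    refine ⟨?_, fun hv => ?_⟩
    · rintro ⟨g, rfl⟩ h
      exact hv₀0 ((smul_eq_zero_iff_eq g).1 h)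
    · obtain ⟨h, hh, e⟩ := ht v₀ v hv₀0 hv
      exact ⟨⟨h, hh⟩, e⟩
  choose a σ hσ using he
  have hone : ∀ g ∈ K, a g = 1 := fun g hg => by
    have h1 := hσ g v₀
    rw [show (H.subtype g) v₀ = v₀ from hg, hv₀, e.apply_symm_apply, map_one, mul_one] at h1
    exact h1.symm
  have hcardK : Nat.card K ∣ n := by
    refine card_ringAut_semilinear (F := F) (by rw [← Nat.card_congr e.toEquiv, hV]) (by omega)
      (fun g : K => σ g) (fun g g' he' => ?_) (fun g g' x => ?_)
    · refine Subtype.ext (Subtype.ext (LinearEquiv.ext fun v => e.injective ?_))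
      show e (H.subtype (g : H) v) = e (H.subtype (g' : H) v)
      rw [hσ, hσ, hone _ g.2, hone _ g'.2, show σ (g : H) = σ (g' : H) from he']
    · have h : ∀ (g : K) (v : V), e (H.subtype (g : H) v) = σ (g : H) (e v) := fun g v => by
        rw [hσ, hone _ g.2, one_mul]
      obtain ⟨v, rfl⟩ := e.surjective x
      rw [← h, ← h, ← h]
      rfl
  have hlt : n < 2 ^ n - 1 := by
    have : ∀ m, 2 ≤ m → m + 1 < 2 ^ m := fun m hm => by
      induction m, hm using Nat.le_induction with
      | base => norm_num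
      | succ m _ ih => rw [pow_succ]; omega
    have := this n hn0
    omega
  have hnprime : n.Prime := (Nat.prime_of_pow_sub_one_prime (by omega) hp).2
  have hcard : Nat.card H = Nat.card K * (2 ^ n - 1) := by rw [← hindex, K.card_mul_index]
  rcases (Nat.dvd_prime hnprime).1 hcardK with h1 | h1
  · rw [h1, one_mul] at hcard
    exact Or.inl ⟨isCyclic_of_prime_card hcard, hcard⟩
  · rw [h1] at hcard
    refine Or.inr ⟨hcard, ?_⟩
    obtain ⟨P⟩ := (inferInstance : Nonempty (Sylow (2 ^ n - 1) H))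
    have hPcard : Nat.card P = 2 ^ n - 1 := by
      rw [P.card_eq_multiplicity, hcard, Nat.factorization_mul (by omega) hp.ne_zero,
        Finsupp.add_apply, hp.factorization_self,
        Nat.factorization_eq_zero_of_not_dvd (fun h => absurd (Nat.le_of_dvd (by omega) h)
          (not_le.2 hlt)), zero_add, pow_one]
    have hidx : (P : Subgroup H).index = n := by
      have := (P : Subgroup H).card_mul_index
      rw [hPcard, hcard, mul_comm n] at this
      exact Nat.eq_of_mul_eq_mul_left hp.pos this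
    have hone' : Nat.card (Sylow (2 ^ n - 1) H) = 1 := by
      have h2 := card_sylow_modEq_one (2 ^ n - 1) H
      have h3 : Nat.card (Sylow (2 ^ n - 1) H) ≤ n :=
        (Nat.le_of_dvd (by rw [hidx]; omega) P.card_dvd_index).trans hidx.le
      have h4 : Nat.card (Sylow (2 ^ n - 1) H) % (2 ^ n - 1) = 1 % (2 ^ n - 1) := h2
      rw [Nat.mod_eq_of_lt (by omega), Nat.mod_eq_of_lt (by omega)] at h4
      exact h4
    haveI : Subsingleton (Sylow (2 ^ n - 1) H) := (Nat.card_eq_one_iff_unique.1 hone').1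
    haveI hnormal : (P : Subgroup H).Normal := P.normal_of_subsingleton
    have hC : Nat.card ((P : Subgroup H).map H.subtype) = 2 ^ n - 1 := by
      rw [Subgroup.card_map_of_injective H.subtype_injective]; exact hPcard
    refine ⟨_, Subgroup.map_subtype_le _, ?_, isCyclic_of_prime_card hC, hC⟩
    rw [Subgroup.subgroupOf, Subgroup.comap_map_eq_self_of_injective H.subtype_injective]
    exact hnormal

/-- Transitive groups in dimension `n` with `2 ^ n - 1` prime. -/
theorem mersenne {n : ℕ} (hn : finrank (ZMod 2) V = n) (hp : (2 ^ n - 1).Prime)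
    (H : Subgroup (V ≃ₗ[ZMod 2] V)) (ht : ∀ v w : V, v ≠ 0 → w ≠ 0 → ∃ h ∈ H, h v = w) :
    (IsCyclic H ∧ Nat.card H = 2 ^ n - 1) ∨
      (Nat.card H = n * (2 ^ n - 1) ∧ ∃ C : Subgroup (V ≃ₗ[ZMod 2] V), C ≤ H ∧
        (C.subgroupOf H).Normal ∧ IsCyclic C ∧ Nat.card C = 2 ^ n - 1) ∨ H = ⊤ := by
  classical
  haveI := Fact.mk hp
  let _ : MulAction H {v : V // v ≠ 0} :=
    { smul := fun g v => ⟨g • (v : V), (smul_ne_zero_iff_ne g).2 v.2⟩
      one_smul := fun v => Subtype.ext (one_smul H (v : V))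
      mul_smul := fun g g' v => Subtype.ext (mul_smul g g' (v : V)) }
  let ρ : H →* Equiv.Perm {v : V // v ≠ 0} := MulAction.toPermHom H _
  have hinj : Function.Injective ρ := fun g g' e => Subtype.ext (LinearEquiv.ext fun v => by
    by_cases hv : v = 0
    · rw [hv, map_zero, map_zero]
    · exact congrArg Subtype.val (Equiv.congr_fun e ⟨v, hv⟩))
  let _ := Fintype.ofFinite {v : V // v ≠ 0}
  have hα : Fintype.card {v : V // v ≠ 0} = 2 ^ n - 1 := by
    rw [← Nat.card_eq_fintype_card, ← hn, ← Pairing.ncard_ne_zero (V := V), ← Nat.card_coe_set_eq]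
    rfl
  haveI : IsPretransitive ρ.range {v : V // v ≠ 0} := ⟨fun x y => by
    obtain ⟨h, hh, e⟩ := ht x y x.2 y.2
    exact ⟨⟨ρ ⟨h, hh⟩, ⟨_, rfl⟩⟩, Subtype.ext e⟩⟩
  have hsolv : Group.IsSolvable ρ.range → Group.IsSolvable H := fun hs => by
    haveI := hs
    exact Group.isSolvable_of_isSolvable_injective (f := (MonoidHom.ofInjective hinj).toMonoidHom)
      (MonoidHom.ofInjective hinj).injective
  rcases CfsgLib.Perm.PrimeDegree.burnside hα ρ.range with hs | h2
  · exact (solvable_case hn hp H ht (hsolv hs)).imp id Or.inl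
  by_cases hn3 : n < 3
  · refine (solvable_case hn hp H ht (hsolv ?_)).imp id Or.inl
    refine CfsgLib.Perm.PrimeDegree.isSolvable_of_card_le_three hα ?_ _
    interval_cases n <;> norm_num
  · refine Or.inr (Or.inr (eq_top_of_transvections H fun u φ hu hφ h0 => ?_))
    have hT : (natPairing H).TwoTrans := by
      refine ⟨fun v w hv hw => ?_, fun v x y hv hx hxv hy hyv => ?_⟩
      · obtain ⟨h, hh, e⟩ := ht v w hv hw
        exact ⟨⟨h, hh⟩, e⟩
      · obtain ⟨⟨_, g, rfl⟩, h1, h3⟩ := (is_two_pretransitive_iff (α := {v : V // v ≠ 0})).1 h2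
          (show (⟨v, hv⟩ : {v : V // v ≠ 0}) ≠ ⟨x, hx⟩ from
            fun e => hxv (congrArg Subtype.val e).symm)
          (show (⟨v, hv⟩ : {v : V // v ≠ 0}) ≠ ⟨y, hy⟩ from
            fun e => hyv (congrArg Subtype.val e).symm)
        exact ⟨g, congrArg Subtype.val h1, congrArg Subtype.val h3⟩
    rcases Pairing.hasTransvection_or hT (natPairing_faithful H) (by omega) with ht' | ⟨h4, -⟩
    · exact hT.all_transvections (by omega) ht' hu hφ h0
    · have hnp := (Nat.prime_of_pow_sub_one_prime (by omega) hp).2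
      rw [hn] at h4
      rw [h4] at hnp
      exact absurd hnp (by norm_num)

/-- The converse. -/
theorem mersenne_converse {n : ℕ} (hn : finrank (ZMod 2) V = n) (hp : (2 ^ n - 1).Prime)
    (H : Subgroup (V ≃ₗ[ZMod 2] V))
    (h : (IsCyclic H ∧ Nat.card H = 2 ^ n - 1) ∨
      (Nat.card H = n * (2 ^ n - 1) ∧ ∃ C : Subgroup (V ≃ₗ[ZMod 2] V), C ≤ H ∧
        (C.subgroupOf H).Normal ∧ IsCyclic C ∧ Nat.card C = 2 ^ n - 1) ∨ H = ⊤) :
    ∀ v w : V, v ≠ 0 → w ≠ 0 → ∃ g ∈ H, g v = w := by
  have key : ∀ C : Subgroup (V ≃ₗ[ZMod 2] V), C ≤ H → Nat.card C = 2 ^ n - 1 →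
      ∀ v w : V, v ≠ 0 → w ≠ 0 → ∃ g ∈ H, g v = w := by
    intro C hle hC v w hv hw
    obtain ⟨x, hx, hx1⟩ : ∃ x : V, x ≠ 0 ∧ orbit C x ≠ {x} := by
      by_contra hc
      simp only [not_exists, not_and, not_not] at hc
      have hall : ∀ g : C, g = 1 := fun g => Subtype.ext (LinearEquiv.ext fun y => by
        by_cases hy : y = 0
        · rw [hy, map_zero, map_zero]
        · have : g • y ∈ orbit C y := mem_orbit _ _
          rw [hc y hy] at this
          exact this)
      have h1 : Nat.card C = 1 := Nat.card_eq_one_iff_unique.2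
        ⟨⟨fun a b => (hall a).trans (hall b).symm⟩, ⟨1⟩⟩
      rw [hC] at h1
      exact hp.ne_one h1
    have hfull : orbit C x = {y | y ≠ 0} := by
      refine Set.eq_of_subset_of_ncard_le ?_ ?_ (Set.toFinite _)
      · rintro _ ⟨g, rfl⟩
        exact (smul_ne_zero_iff_ne g).2 hx
      · rw [Pairing.ncard_ne_zero, hn]
        have h1 : (orbit C x).ncard ∣ 2 ^ n - 1 := by
          rw [← MulAction.index_stabilizer, ← hC]; exact Subgroup.index_dvd_card _
        rcases (Nat.dvd_prime hp).1 h1 with e | e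
        · obtain ⟨y, hy⟩ := Set.ncard_eq_one.1 e
          have hxy : x = y := by simpa [hy] using mem_orbit_self (M := C) x
          exact absurd (hxy ▸ hy) hx1
        · exact e.ge
    obtain ⟨g, hg⟩ : v ∈ orbit C x := by rw [hfull]; exact hv
    obtain ⟨g', hg'⟩ : w ∈ orbit C x := by rw [hfull]; exact hw
    refine ⟨(g' : V ≃ₗ[ZMod 2] V) * (g : V ≃ₗ[ZMod 2] V)⁻¹, hle (C.mul_mem g'.2 (C.inv_mem g.2)), ?_⟩
    rw [← hg, ← hg']
    show (g' : V ≃ₗ[ZMod 2] V) ((g : V ≃ₗ[ZMod 2] V).symm ((g : V ≃ₗ[ZMod 2] V) x)) = _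
    rw [LinearEquiv.symm_apply_apply]
    rfl
  rcases h with ⟨-, h⟩ | ⟨-, C, hle, -, -, hC⟩ | h
  · exact key H le_rfl h
  · exact key C hle hC
  · intro v w hv hw
    subst h
    by_cases hvw : v = w
    · exact ⟨1, trivial, hvw⟩
    have hv' : v ∉ line (v + w) := by
      rw [mem_line, not_or]
      exact ⟨hv, fun e => hw (add_eq_left.1 e.symm)⟩
    obtain ⟨φ, hφ, hφ1⟩ := (natPairing (⊤ : Subgroup (V ≃ₗ[ZMod 2] V))).exists_form_ne_zero hv'
    have h0 : φ (v + w) = 0 := hφ _ (Submodule.mem_span_singleton_self _)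
    refine ⟨LinearEquiv.transvection (f := φ) (v := v + w) h0, trivial, ?_⟩
    have hφ1' : φ v = 1 := hφ1
    simp only [LinearEquiv.transvection.coe_toLinearMap, LinearEquiv.transvection.apply]
    rw [hφ1', one_smul, ← add_assoc, add_self, zero_add]

end CfsgLib.TwoTransTwo
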