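import Cfsg.Agent.TwoTransTwo.Orbits

/-!
# Antiflag transitive groups over GF(2)

A group transitive on the pairs of a vector and a functional with value one.  For a nonzero vector
`w` the subspace `S w` is the complement of the large orbit of the stabilizer of `w`.
-/

set_option autoImplicit false
set_option linter.unusedSectionVars false

namespace CfsgLib.TwoTransTwo

open MulAction Module

variable {G : Type*} [Group G] [Finite G] {V V' : Type*} [AddCommGroup V] [Module (ZMod 2) V]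
  [AddCommGroup V'] [Module (ZMod 2) V'] [DistribMulAction G V] [DistribMulAction G V']
  [Finite V] [Finite V']

namespace Pairing

variable (D : Pairing G V V')

/-- Transitivity on antiflags. -/
def AFT : Prop :=
  ∀ v φ v' φ', D.form v φ = 1 → D.form v' φ' = 1 → ∃ g : G, g • v = v' ∧ g • φ = φ'

/-- A vector and a functional fixed by a common Sylow 2-subgroup. -/
def Flag (_D : Pairing G V V') (w : V) (κ : V') : Prop :=
  w ≠ 0 ∧ κ ≠ 0 ∧ ∃ U : Subgroup G, IsSyl U ∧ (∀ g ∈ U, g • w = w) ∧ ∀ g ∈ U, g • κ = κ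

/-- The complement of the large orbit of the stabilizer of a vector. -/
def S (w : V) : Submodule (ZMod 2) V := D.perp {κ | D.Flag w κ}

/-- The dimension of the subspaces `S w`. -/
noncomputable def rk : ℕ := sInf {m | ∃ w : V, w ≠ 0 ∧ finrank (ZMod 2) (D.S w) = m}

/-- The span of the vectors `z` with `S z` in the kernel of a functional. -/
def L (κ : V') : Submodule (ZMod 2) V :=
  Submodule.span (ZMod 2) {z | z ≠ 0 ∧ D.S z ≤ D.perp {κ}}

variable {D}

theorem AFT.flip (hA : D.AFT) : D.flip.AFT := fun φ v φ' v' h h' => by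
  obtain ⟨g, hg, hg'⟩ := hA v φ v' φ' h h'
  exact ⟨g, hg', hg⟩

theorem Flag.flip {w : V} {κ : V'} (h : D.Flag w κ) : D.flip.Flag κ w := by
  obtain ⟨hw, hκ, U, hU, h1, h2⟩ := h
  exact ⟨hκ, hw, U, hU, h2, h1⟩

theorem flag_flip_iff {w : V} {κ : V'} : D.flip.Flag κ w ↔ D.Flag w κ :=
  ⟨fun h => h.flip, fun h => h.flip⟩

theorem Flag.smul {w : V} {κ : V'} (h : D.Flag w κ) (g : G) : D.Flag (g • w) (g • κ) := by
  obtain ⟨hw, hκ, U, hU, h1, h2⟩ := h
  refine ⟨(smul_ne_zero_iff_ne g).2 hw, (smul_ne_zero_iff_ne g).2 hκ, _, hU.conj_map g, ?_, ?_⟩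
  · rintro _ ⟨u, hu, rfl⟩
    simp [MulAut.conj_apply, mul_smul, h1 u hu]
  · rintro _ ⟨u, hu, rfl⟩
    simp [MulAut.conj_apply, mul_smul, h2 u hu]

theorem mem_S {w x : V} : x ∈ D.S w ↔ ∀ κ, D.Flag w κ → D.form x κ = 0 := Iff.rfl

theorem smul_mem_S (g : G) {w x : V} (h : x ∈ D.S w) : g • x ∈ D.S (g • w) := by
  intro κ hκ
  rw [D.form_smul_left]
  exact h _ (by simpa using hκ.smul g⁻¹)

theorem smul_mem_S_iff (g : G) {w x : V} : g • x ∈ D.S (g • w) ↔ x ∈ D.S w :=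
  ⟨fun h => by simpa using smul_mem_S g⁻¹ h, smul_mem_S g⟩

theorem AFT.trans (hA : D.AFT) {v v' : V} (hv : v ≠ 0) (hv' : v' ≠ 0) :
    ∃ g : G, g • v = v' := by
  obtain ⟨φ, hφ⟩ := D.exists_form_eq_one hv
  obtain ⟨φ', hφ'⟩ := D.exists_form_eq_one hv'
  obtain ⟨g, hg, -⟩ := hA v φ v' φ' hφ hφ'
  exact ⟨g, hg⟩

theorem AFT.orbit_eq (hA : D.AFT) {w : V} (hw : w ≠ 0) : orbit G w = {v | v ≠ 0} := by
  ext v
  constructor
  · rintro ⟨g, rfl⟩
    exact (smul_ne_zero_iff_ne g).2 hw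
  · intro hv
    exact hA.trans hw hv

theorem ncard_ne_zero : {v : V | v ≠ 0}.ncard = 2 ^ finrank (ZMod 2) V - 1 := by
  rw [show {v : V | v ≠ 0} = Set.univ \ {0} by ext; simp,
    Set.ncard_diff (Set.subset_univ _), Set.ncard_singleton, ncard_univ_space]

theorem AFT.odd_index (hA : D.AFT) {w : V} (hw : w ≠ 0) : Odd (stabilizer G w).index := by
  rw [MulAction.index_stabilizer, hA.orbit_eq hw, ncard_ne_zero]
  have h1 : 1 ≤ finrank (ZMod 2) V := by
    by_contra h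
    obtain ⟨φ, hφ⟩ := D.exists_form_eq_one hw
    have h0 : Nat.card V = 1 := by rw [card_space, show finrank (ZMod 2) V = 0 by omega, pow_zero]
    exact hw ((Nat.card_eq_one_iff_unique.1 h0).1.elim w 0)
  obtain ⟨m, hm⟩ := Nat.exists_eq_succ_of_ne_zero (show finrank (ZMod 2) V ≠ 0 by omega)
  refine ⟨2 ^ m - 1, ?_⟩
  rw [hm, pow_succ]
  have : 1 ≤ 2 ^ m := Nat.one_le_two_pow
  omega

/-- A Sylow 2-subgroup fixing a vector is transitive on the functionals with value one there. -/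
theorem AFT.sylow_trans (hA : D.AFT) {U : Subgroup G} (hU : IsSyl U) {w : V} (hw : w ≠ 0)
    (hfix : ∀ g ∈ U, g • w = w) {φ φ' : V'} (h : D.form w φ = 1) (h' : D.form w φ' = 1) :
    ∃ g ∈ U, g • φ = φ' := by
  have hle : U ≤ stabilizer G w := hfix
  have ho : orbit (stabilizer G w) φ = {ψ | D.flip.form ψ w = 1} := by
    ext ψ
    constructor
    · rintro ⟨⟨g, hg⟩, rfl⟩
      show D.form w (g • φ) = 1
      rw [← mem_stabilizer_iff.1 hg, D.smul_form, h]
    · intro hψ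
      obtain ⟨g, hg, hg'⟩ := hA w φ w ψ h hψ
      exact ⟨⟨g, hg⟩, hg'⟩
  have := (hU.subgroupOf hle).orbit_eq φ (a := finrank (ZMod 2) V' - 1)
    (by rw [ho]; exact D.flip.ncard_form_eq_one hw)
  have hmem : φ' ∈ orbit (U.subgroupOf (stabilizer G w)) φ := by
    rw [this, ho]; exact h'
  obtain ⟨⟨⟨g, hg⟩, hgU⟩, hgφ⟩ := hmem
  exact ⟨g, hgU, hgφ⟩

/-- A Sylow 2-subgroup fixing a functional is transitive on the vectors with value one there. -/
theorem AFT.sylow_trans' (hA : D.AFT) {U : Subgroup G} (hU : IsSyl U) {κ : V'} (hκ : κ ≠ 0)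
    (hfix : ∀ g ∈ U, g • κ = κ) {v v' : V} (h : D.form v κ = 1) (h' : D.form v' κ = 1) :
    ∃ g ∈ U, g • v = v' :=
  hA.flip.sylow_trans hU hκ hfix h h'

theorem AFT.form_eq_zero (hA : D.AFT) (hd : 2 ≤ finrank (ZMod 2) V) {w : V} {κ : V'}
    (h : D.Flag w κ) : D.form w κ = 0 := by
  obtain ⟨hw, -, U, hU, h1, h2⟩ := h
  refine (zmod_two_cases _).resolve_right fun h0 => ?_
  obtain ⟨φ, hφ, hne⟩ := Set.exists_ne_of_one_lt_ncard
    (show 1 < {φ | D.flip.form φ w = 1}.ncard by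
      rw [D.flip.ncard_form_eq_one hw, ← D.finrank_eq]
      exact Nat.one_lt_two_pow (by omega)) κ
  obtain ⟨g, hg, hgφ⟩ := hA.sylow_trans hU hw h1 h0 hφ
  exact hne (by rw [← hgφ, h2 g hg])

/-- A Sylow 2-subgroup fixes only one nonzero vector. -/
theorem AFT.fixed_unique (hA : D.AFT) {U : Subgroup G} (hU : IsSyl U) {w x : V} (hw : w ≠ 0)
    (hx : x ≠ 0) (h1 : ∀ g ∈ U, g • w = w) (h2 : ∀ g ∈ U, g • x = x) : x = w := by
  obtain ⟨φ₀, hφ₀⟩ := D.exists_form_eq_one hw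
  have hc : ∀ φ, D.form w φ = 1 → D.form x φ = D.form x φ₀ := fun φ hφ => by
    obtain ⟨g, hg, rfl⟩ := hA.sylow_trans hU hw h1 hφ₀ hφ
    conv_lhs => rw [← h2 g hg]
    rw [D.smul_form]
  have hall : ∀ φ, D.form x φ = D.form w φ * D.form x φ₀ := fun φ => by
    rcases zmod_two_cases (D.form w φ) with h | h
    · rw [h, zero_mul]
      have := hc (φ + φ₀) (by simp [h, hφ₀])
      simpa using this
    · rw [h, one_mul, hc φ h]
  rcases zmod_two_cases (D.form x φ₀) with h | h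
  · exact absurd (D.left_sep x fun φ => by rw [hall, h, mul_zero]) hx
  · refine sub_eq_zero.1 (D.left_sep _ fun φ => ?_)
    rw [map_sub, LinearMap.sub_apply, hall, h, mul_one, sub_self]

theorem AFT.exists_flag (hA : D.AFT) (hd : 1 ≤ finrank (ZMod 2) V) {w : V} (hw : w ≠ 0) :
    ∃ κ, D.Flag w κ := by
  obtain ⟨U, hle, hU⟩ := exists_isSyl (hA.odd_index hw)
  obtain ⟨κ, hκ, hfix⟩ := exists_fixed (V := V') hU.1 (by rw [← D.finrank_eq]; exact hd)
  exact ⟨κ, hw, hκ, U, hU, fun g hg => hle hg, hfix⟩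

theorem AFT.exists_flag' (hA : D.AFT) (hd : 1 ≤ finrank (ZMod 2) V) {κ : V'} (hκ : κ ≠ 0) :
    ∃ w, D.Flag w κ := by
  obtain ⟨w, h⟩ := hA.flip.exists_flag (by rw [← D.finrank_eq]; exact hd) hκ
  exact ⟨w, h.flip⟩

/-- The functionals forming flags with a vector are conjugate under its stabilizer. -/
theorem AFT.flag_conj (hA : D.AFT) {w : V} {κ κ' : V'} (h : D.Flag w κ) (h' : D.Flag w κ') :
    ∃ g : G, g • w = w ∧ g • κ = κ' := by
  obtain ⟨hw, hκ, U, hU, h1, h2⟩ := h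
  obtain ⟨-, hκ', U', hU', h1', h2'⟩ := h'
  have hle : U ≤ stabilizer G w := h1
  have hle' : U' ≤ stabilizer G w := h1'
  obtain ⟨g, hg⟩ := (hU'.subgroupOf hle').conj (hU.subgroupOf hle)
  refine ⟨(g : G)⁻¹, inv_smul_eq_iff.2 g.2.symm, ?_⟩
  refine hA.flip.fixed_unique hU' hκ' ((smul_ne_zero_iff_ne _).2 hκ) h2' fun u hu => ?_
  have h3 : (g : G) * u * (g : G)⁻¹ ∈ U := hg ⟨u, hle' hu⟩ hu
  have h4 := h2 _ h3
  rw [mul_smul, mul_smul] at h4
  exact eq_inv_smul_iff.2 h4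

theorem AFT.self_mem_S (hA : D.AFT) (hd : 2 ≤ finrank (ZMod 2) V) (w : V) : w ∈ D.S w :=
  fun _ hκ => hA.form_eq_zero hd hκ

/-- The stabilizer of a vector is transitive off `S w`. -/
theorem AFT.trans_off (hA : D.AFT) {w x y : V} (hx : x ∉ D.S w) (hy : y ∉ D.S w) :
    ∃ g : G, g • w = w ∧ g • x = y := by
  rw [mem_S] at hx hy
  push Not at hx hy
  obtain ⟨κ, hκ, hxκ⟩ := hx
  obtain ⟨κ', hκ', hyκ⟩ := hy
  have hx1 : D.form x κ = 1 := (zmod_two_cases _).resolve_left hxκ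
  have hy1 : D.form y κ' = 1 := (zmod_two_cases _).resolve_left hyκ
  obtain ⟨g, hgw, hgκ⟩ := hA.flag_conj hκ hκ'
  obtain ⟨-, hκ'0, U, hU, h1, h2⟩ := hκ'
  obtain ⟨u, hu, hux⟩ := hA.sylow_trans' hU hκ'0 h2
    (v := g • x) (v' := y) (by rw [← hgκ, D.smul_form, hx1]) hy1
  exact ⟨u * g, by rw [mul_smul, hgw, h1 u hu], by rw [mul_smul, hux]⟩

theorem AFT.finrank_S (hA : D.AFT) {w : V} (hw : w ≠ 0) :
    finrank (ZMod 2) (D.S w) = D.rk := by
  have hconst : ∀ {a b : V}, a ≠ 0 → b ≠ 0 →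
      finrank (ZMod 2) (D.S a) ≤ finrank (ZMod 2) (D.S b) := by
    intro a b ha hb
    obtain ⟨g, rfl⟩ := hA.trans ha hb
    exact LinearMap.finrank_le_finrank_of_injective
      (f := (actLin g).restrict (p := D.S a) (q := D.S (g • a)) fun x hx => smul_mem_S g hx)
      fun x y hxy => Subtype.ext (MulAction.injective g (congrArg Subtype.val hxy))
  obtain ⟨w', hw', h'⟩ := Nat.sInf_mem (s := {m | ∃ w : V, w ≠ 0 ∧ finrank (ZMod 2) (D.S w) = m})
    ⟨_, w, hw, rfl⟩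
  rw [Pairing.rk, ← h']
  exact le_antisymm (hconst hw hw') (hconst hw' hw)

theorem AFT.one_le_rk (hA : D.AFT) (hd : 2 ≤ finrank (ZMod 2) V) : 1 ≤ D.rk := by
  obtain ⟨w, -, hw⟩ := exists_ne_zero (M := (⊤ : Submodule (ZMod 2) V))
    (by rw [finrank_top]; omega)
  rw [← hA.finrank_S hw, ← finrank_line hw]
  exact Submodule.finrank_mono ((Submodule.span_singleton_le_iff_mem _ _).2 (hA.self_mem_S hd w))

theorem AFT.rk_lt (hA : D.AFT) (hd : 1 ≤ finrank (ZMod 2) V) :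
    D.rk < finrank (ZMod 2) V := by
  obtain ⟨w, -, hw⟩ := exists_ne_zero (M := (⊤ : Submodule (ZMod 2) V))
    (by rw [finrank_top]; omega)
  obtain ⟨κ, hκ⟩ := hA.exists_flag hd hw
  rw [← hA.finrank_S hw, ← D.finrank_perp_singleton hκ.2.1]
  exact Nat.lt_succ_of_le (Submodule.finrank_mono (D.perp_anti (Set.singleton_subset_iff.2 hκ)))

/-- Being in `S` is symmetric. -/
theorem AFT.mem_S_symm (hA : D.AFT) (hd : 2 ≤ finrank (ZMod 2) V) {w x : V} (hx : x ≠ 0)
    (h : x ∈ D.S w) : w ∈ D.S x := by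
  by_cases hw : w = 0
  · rw [hw]; exact zero_mem _
  by_contra hc
  -- otherwise every non-adjacent pair would be adjacent the other way round
  have key : ∀ a b : V, a ≠ 0 → b ∉ D.S a → a ∈ D.S b := by
    intro a b ha hb
    obtain ⟨g, hg⟩ := hA.trans hx ha
    have hc' : g • w ∉ D.S a := by rw [← hg, smul_mem_S_iff]; exact hc
    obtain ⟨g', hga, hgb⟩ := hA.trans_off hc' hb
    have h2 := smul_mem_S g' (smul_mem_S g h)
    rwa [hg, hga, hgb] at h2
  classical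
  let _ := Fintype.ofFinite V
  let s : Finset V := Finset.univ.filter (· ≠ 0)
  have hs : s.card = 2 ^ finrank (ZMod 2) V - 1 := by
    rw [← ncard_ne_zero, ← Set.ncard_coe_finset]; simp [s]
  have h1 : ∀ a ∈ s, (Finset.bipartiteAbove (fun a b => b ∉ D.S a) s a).card =
      2 ^ finrank (ZMod 2) V - 2 ^ D.rk := by
    intro a ha
    rw [← hA.finrank_S (by simpa [s] using ha : a ≠ 0), ← ncard_compl_submodule,
      ← Set.ncard_coe_finset]
    congr 1
    ext b
    simp only [Finset.coe_bipartiteAbove, Set.mem_ofPred_eq, s, Finset.mem_filter,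
      Finset.mem_univ, true_and]
    exact ⟨fun h => h.2, fun h => ⟨fun e => h (e ▸ zero_mem _), h⟩⟩
  have h2 : ∀ b ∈ s, (Finset.bipartiteBelow (fun a b => b ∉ D.S a) s b).card ≤ 2 ^ D.rk - 1 := by
    intro b hb
    rw [← hA.finrank_S (by simpa [s] using hb : b ≠ 0), ← ncard_nonzero, ← Set.ncard_coe_finset]
    refine Set.ncard_le_ncard (fun a ha => ?_) (Set.toFinite _)
    simp only [Finset.coe_bipartiteBelow, Set.mem_ofPred_eq, s, Finset.mem_filter,
      Finset.mem_univ, true_and] at ha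
    exact ⟨key a b ha.1 ha.2, ha.1⟩
  have h3 := Finset.card_mul_le_card_mul _ (fun a ha => (h1 a ha).ge) h2
  have h4 := hA.rk_lt (by omega)
  have h6 : 2 ^ (D.rk + 1) ≤ 2 ^ finrank (ZMod 2) V := Nat.pow_le_pow_right two_pos h4
  rw [pow_succ] at h6
  have h7 : 1 ≤ 2 ^ D.rk := Nat.one_le_two_pow
  have h8 : 2 ^ D.rk - 1 < 2 ^ finrank (ZMod 2) V - 2 ^ D.rk := by omega
  have h9 : 0 < s.card := by rw [hs]; omega
  exact absurd h3 (not_le.2 (Nat.mul_lt_mul_of_pos_left h8 h9))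

theorem AFT.mem_S_comm (hA : D.AFT) (hd : 2 ≤ finrank (ZMod 2) V) {w x : V} (hw : w ≠ 0)
    (hx : x ≠ 0) : x ∈ D.S w ↔ w ∈ D.S x :=
  ⟨hA.mem_S_symm hd hx, hA.mem_S_symm hd hw⟩

/-- The vectors adjacent to two given ones are adjacent to their sum. -/
theorem AFT.inf_le_S_add (hA : D.AFT) (hd : 2 ≤ finrank (ZMod 2) V) {s t : V} (hs : s ≠ 0)
    (ht : t ≠ 0) (hst : s + t ≠ 0) : D.S s ⊓ D.S t ≤ D.S (s + t) := by
  rintro v ⟨h1, h2⟩
  by_cases hv : v = 0
  · rw [hv]; exact zero_mem _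
  exact hA.mem_S_symm hd hst
    (add_mem (hA.mem_S_symm hd hv h1) (hA.mem_S_symm hd hv h2))

theorem smul_le_perp (g : G) {z : V} {κ : V'} (h : D.S z ≤ D.perp {κ}) :
    D.S (g • z) ≤ D.perp {g • κ} := by
  intro x hx
  rw [D.mem_perp_singleton, D.form_smul_right]
  have : g⁻¹ • x ∈ D.S z := by
    rw [← smul_mem_S_iff g, smul_inv_smul]; exact hx
  exact D.mem_perp_singleton.1 (h this)

theorem S_le_of_flag {w : V} {κ : V'} (h : D.Flag w κ) : D.S w ≤ D.perp {κ} :=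
  D.perp_anti (Set.singleton_subset_iff.2 h)

/-- A vector with `S` outside a hyperplane has a long orbit. -/
theorem AFT.orbit_bound (hA : D.AFT) {U : Subgroup G} (hU : IsSyl U) {κ : V'} (hκ : κ ≠ 0)
    (hfix : ∀ g ∈ U, g • κ = κ) {x : V} (hx : x ≠ 0) (h : ¬ D.S x ≤ D.perp {κ}) :
    2 ^ (finrank (ZMod 2) V - 1) ≤ (orbit U x).ncard * 2 ^ (D.rk - 1) := by
  classical
  let _ := Fintype.ofFinite V
  obtain ⟨y₀, hy₀, hy₀κ⟩ := SetLike.not_le_iff_exists.1 h
  have hy1 : D.form y₀ κ = 1 :=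
    (zmod_two_cases _).resolve_left fun e => hy₀κ (D.mem_perp_singleton.2 e)
  let o : Finset V := (orbit U x).toFinset
  have hsub : Finset.univ.filter (fun y => D.form y κ = 1) ⊆
      o.biUnion fun z => Finset.univ.filter fun y => y ∈ D.S z ∧ D.form y κ = 1 := by
    intro y hy
    simp only [Finset.mem_filter, Finset.mem_univ, true_and] at hy
    obtain ⟨g, hg, rfl⟩ := hA.sylow_trans' hU hκ hfix hy1 hy
    simp only [Finset.mem_biUnion, Finset.mem_filter, Finset.mem_univ, true_and]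
    exact ⟨g • x, Set.mem_toFinset.2 ⟨⟨g, hg⟩, rfl⟩, smul_mem_S g hy₀, hy⟩
  have hone : ∀ z ∈ o, (Finset.univ.filter fun y => y ∈ D.S z ∧ D.form y κ = 1).card ≤
      2 ^ (D.rk - 1) := by
    intro z hz
    obtain ⟨u, rfl⟩ := Set.mem_toFinset.1 hz
    have hz0 : (u : G) • x ≠ 0 := (smul_ne_zero_iff_ne _).2 hx
    set S := D.S ((u : G) • x) with hS
    have hSd : finrank (ZMod 2) S = D.rk := hA.finrank_S hz0
    have hinf : D.rk ≤ finrank (ZMod 2) (S ⊓ D.perp {κ} : Submodule (ZMod 2) V) + 1 := by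
      have h1 := Submodule.finrank_sup_add_finrank_inf_eq S (D.perp {κ})
      have h2 := Submodule.finrank_le (S ⊔ D.perp {κ})
      have h3 := D.finrank_perp_singleton hκ
      omega
    rw [← Set.ncard_coe_finset]
    calc _ ≤ ((S : Set V) \ ((S ⊓ D.perp {κ} : Submodule (ZMod 2) V) : Set V)).ncard := by
            refine Set.ncard_le_ncard (fun y hy => ?_) (Set.toFinite _)
            simp only [Finset.coe_filter, Finset.mem_univ, true_and, Set.mem_ofPred_eq] at hy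
            exact ⟨hy.1, fun h' => by simp [D.mem_perp_singleton.1 h'.2] at hy⟩
      _ = 2 ^ D.rk - 2 ^ finrank (ZMod 2) (S ⊓ D.perp {κ} : Submodule (ZMod 2) V) := by
            rw [Set.ncard_diff (fun y hy => hy.1), ncard_submodule, ncard_submodule, hSd]
      _ ≤ _ := by
            have hk : 1 ≤ D.rk := by
              rcases Nat.eq_zero_or_pos D.rk with h0 | h0
              · rw [h0] at hSd
                have hy0 : y₀ = 0 := by
                  have := hA.finrank_S hx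
                  rw [h0, Submodule.finrank_eq_zero] at this
                  rw [this] at hy₀
                  exact (Submodule.mem_bot _).1 hy₀
                rw [hy0] at hy1; simp at hy1
              · exact h0
            have h4 : 2 ^ (D.rk - 1) ≤
                2 ^ finrank (ZMod 2) (S ⊓ D.perp {κ} : Submodule (ZMod 2) V) :=
              Nat.pow_le_pow_right two_pos (by omega)
            have h5 : 2 ^ D.rk = 2 * 2 ^ (D.rk - 1) := by
              conv_lhs => rw [show D.rk = (D.rk - 1) + 1 by omega, pow_succ]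
              ring
            omega
  calc 2 ^ (finrank (ZMod 2) V - 1) = (Finset.univ.filter (fun y => D.form y κ = 1)).card := by
        rw [← D.ncard_form_eq_one hκ, ← Set.ncard_coe_finset]; simp
    _ ≤ _ := Finset.card_le_card hsub
    _ ≤ o.card * 2 ^ (D.rk - 1) := Finset.card_biUnion_le_card_mul _ _ _ hone
    _ = _ := by rw [← Set.ncard_eq_toFinset_card']

/-- In an invariant set of fewer than `2 ^ (d - k)` vectors every `S` is in the hyperplane. -/
theorem AFT.S_le_of_small (hA : D.AFT) (hd : 2 ≤ finrank (ZMod 2) V) {U : Subgroup G}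
    (hU : IsSyl U) {κ : V'} (hκ : κ ≠ 0) (hfix : ∀ g ∈ U, g • κ = κ) {N : Submodule (ZMod 2) V}
    (hN : ∀ g ∈ U, ∀ v ∈ N, g • v ∈ N) (hNd : finrank (ZMod 2) N + D.rk ≤ finrank (ZMod 2) V)
    {x : V} (hx : x ∈ N) (hx0 : x ≠ 0) : D.S x ≤ D.perp {κ} := by
  by_contra h
  have h1 := hA.orbit_bound hU hκ hfix hx0 h
  have h2 : (orbit U x).ncard ≤ 2 ^ finrank (ZMod 2) N - 1 := by
    rw [← ncard_nonzero]
    refine Set.ncard_le_ncard ?_ (Set.toFinite _)
    rintro _ ⟨u, rfl⟩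
    exact ⟨hN u u.2 x hx, (smul_ne_zero_iff_ne (u : G)).2 hx0⟩
  have h3 : (2 ^ finrank (ZMod 2) N - 1) * 2 ^ (D.rk - 1) <
      2 ^ (finrank (ZMod 2) V - 1) := by
    calc _ < 2 ^ finrank (ZMod 2) N * 2 ^ (D.rk - 1) :=
          Nat.mul_lt_mul_of_pos_right (Nat.sub_lt (Nat.two_pow_pos _) one_pos) (Nat.two_pow_pos _)
      _ = 2 ^ (finrank (ZMod 2) N + (D.rk - 1)) := (pow_add _ _ _).symm
      _ ≤ _ := Nat.pow_le_pow_right two_pos (by have := hA.one_le_rk hd; omega)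
  exact absurd (h1.trans (Nat.mul_le_mul_right _ h2)) (not_le.2 h3)

theorem AFT.ncard_Lset (hA : D.AFT) (hd : 2 ≤ finrank (ZMod 2) V) {κ : V'} (hκ : κ ≠ 0) :
    {z | z ≠ 0 ∧ D.S z ≤ D.perp {κ}}.ncard =
      2 ^ (finrank (ZMod 2) V - D.rk) - 1 := by
  classical
  let _ := Fintype.ofFinite V
  let _ := Fintype.ofFinite V'
  let s : Finset V := Finset.univ.filter (· ≠ 0)
  let t : Finset V' := Finset.univ.filter (· ≠ 0)
  let r : V → V' → Prop := fun z κ => D.S z ≤ D.perp {κ}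
  have hb : ∀ κ' ∈ t, (Finset.bipartiteBelow r s κ').card =
      {z | z ≠ 0 ∧ D.S z ≤ D.perp {κ}}.ncard := by
    intro κ' hκ'
    obtain ⟨g, rfl⟩ := hA.flip.trans hκ (by simpa [t] using hκ' : κ' ≠ 0)
    rw [← Set.ncard_image_of_injective _ (MulAction.injective g), ← Set.ncard_coe_finset]
    congr 1
    ext z
    simp only [Finset.coe_bipartiteBelow, Set.mem_ofPred_eq, s, Finset.mem_filter, Finset.mem_univ,
      true_and, Set.mem_image, r]
    constructor
    · rintro ⟨hz, h⟩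
      refine ⟨g⁻¹ • z, ⟨(smul_ne_zero_iff_ne _).2 hz, ?_⟩, smul_inv_smul _ _⟩
      simpa using smul_le_perp g⁻¹ h
    · rintro ⟨y, ⟨hy, h⟩, rfl⟩
      exact ⟨(smul_ne_zero_iff_ne _).2 hy, smul_le_perp g h⟩
  have ha : ∀ z ∈ s, (Finset.bipartiteAbove r t z).card =
      2 ^ (finrank (ZMod 2) V - D.rk) - 1 := by
    intro z hz
    have hd' : finrank (ZMod 2) (D.flip.perp (D.S z : Set V)) = finrank (ZMod 2) V - D.rk := by
      have h1 := D.flip.finrank_perp (D.S z)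
      rw [hA.finrank_S (by simpa [s] using hz : z ≠ 0), ← D.finrank_eq] at h1
      omega
    rw [← hd', ← ncard_nonzero, ← Set.ncard_coe_finset]
    congr 1
    ext φ
    simp only [Finset.coe_bipartiteAbove, Set.mem_ofPred_eq, t, Finset.mem_filter, Finset.mem_univ,
      true_and, r, Set.mem_diff, Set.mem_singleton_iff, SetLike.mem_coe]
    constructor
    · exact fun h => ⟨fun v hv => D.mem_perp_singleton.1 (h.2 hv), h.1⟩
    · exact fun h => ⟨h.2, fun v hv => D.mem_perp_singleton.2 (h.1 v hv)⟩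
  have h := Finset.card_mul_eq_card_mul r ha hb
  have hst : s.card = t.card := by
    have h1 : s.card = 2 ^ finrank (ZMod 2) V - 1 := by
      rw [← ncard_ne_zero, ← Set.ncard_coe_finset]; simp [s]
    have h2 : t.card = 2 ^ finrank (ZMod 2) V' - 1 := by
      rw [← ncard_ne_zero, ← Set.ncard_coe_finset]; simp [t]
    rw [h1, h2, D.finrank_eq]
  rw [hst] at h
  exact (Nat.eq_of_mul_eq_mul_left (Finset.card_pos.2 ⟨κ, by simp [t, hκ]⟩) h).symm

/-- The vectors `z` with `S z` inside a hyperplane form a subspace, invariant under its stabilizer,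
of dimension `d - k`. -/
theorem AFT.L_spec (hA : D.AFT) (hd : 2 ≤ finrank (ZMod 2) V) {κ : V'} (hκ : κ ≠ 0) :
    finrank (ZMod 2) (D.L κ) + D.rk = finrank (ZMod 2) V ∧
      ∀ z, z ∈ D.L κ ↔ z = 0 ∨ D.S z ≤ D.perp {κ} := by
  obtain ⟨w, hw⟩ := hA.exists_flag' (by omega) hκ
  obtain ⟨-, -, U, hU, -, h2⟩ := hw
  have hk := hA.rk_lt (by omega)
  obtain ⟨N, hN, hNd⟩ := exists_invariant (V := V) hU.1 (finrank (ZMod 2) V - D.rk) (by omega)
  have hsub : (N : Set V) \ {0} ⊆ {z | z ≠ 0 ∧ D.S z ≤ D.perp {κ}} := fun x hx =>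
    ⟨hx.2, hA.S_le_of_small hd hU hκ h2 hN (by omega) hx.1 hx.2⟩
  have heq : (N : Set V) \ {0} = {z | z ≠ 0 ∧ D.S z ≤ D.perp {κ}} :=
    Set.eq_of_subset_of_ncard_le hsub
      (by rw [hA.ncard_Lset hd hκ, ncard_nonzero, hNd]) (Set.toFinite _)
  have hL : D.L κ = N := by
    rw [Pairing.L, ← heq]
    refine le_antisymm (Submodule.span_le.2 Set.diff_subset) fun x hx => ?_
    by_cases h0 : x = 0
    · rw [h0]; exact zero_mem _
    · exact Submodule.subset_span ⟨hx, h0⟩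
  refine ⟨by rw [hL, hNd]; omega, fun z => ?_⟩
  rw [hL]
  by_cases hz : z = 0
  · simp [hz]
  · simp only [hz, false_or]
    have := Set.ext_iff.1 heq z
    simp only [Set.mem_diff, SetLike.mem_coe, Set.mem_singleton_iff, hz, not_false_eq_true,
      and_true, Set.mem_ofPred_eq, ne_eq, true_and] at this
    exact this

theorem AFT.mem_L (hA : D.AFT) (hd : 2 ≤ finrank (ZMod 2) V) {κ : V'} (hκ : κ ≠ 0) {z : V} :
    z ∈ D.L κ ↔ z = 0 ∨ D.S z ≤ D.perp {κ} := (hA.L_spec hd hκ).2 z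

theorem AFT.finrank_L (hA : D.AFT) (hd : 2 ≤ finrank (ZMod 2) V) {κ : V'} (hκ : κ ≠ 0) :
    finrank (ZMod 2) (D.L κ) + D.rk = finrank (ZMod 2) V := (hA.L_spec hd hκ).1

theorem AFT.flag_mem_L (hA : D.AFT) (hd : 2 ≤ finrank (ZMod 2) V) {w : V} {κ : V'}
    (h : D.Flag w κ) : w ∈ D.L κ :=
  (hA.mem_L hd h.2.1).2 (Or.inr (S_le_of_flag h))

theorem AFT.smul_mem_L (hA : D.AFT) (hd : 2 ≤ finrank (ZMod 2) V) (g : G) {κ : V'} (hκ : κ ≠ 0)
    {z : V} (h : z ∈ D.L κ) : g • z ∈ D.L (g • κ) := by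
  rw [hA.mem_L hd hκ] at h
  rw [hA.mem_L hd ((smul_ne_zero_iff_ne g).2 hκ)]
  exact h.imp (fun e => by rw [e, smul_zero]) (smul_le_perp g)

theorem rk_le_flip {W W' : Type*} [AddCommGroup W] [Module (ZMod 2) W] [AddCommGroup W']
    [Module (ZMod 2) W'] [DistribMulAction G W] [DistribMulAction G W'] [Finite W] [Finite W']
    {E : Pairing G W W'} (hE : E.AFT) (hd : 2 ≤ finrank (ZMod 2) W) : E.rk ≤ E.flip.rk := by
  obtain ⟨κ, -, hκ⟩ := exists_ne_zero (M := (⊤ : Submodule (ZMod 2) W'))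
    (by rw [finrank_top, ← E.finrank_eq]; omega)
  rw [← hE.flip.finrank_S hκ]
  have h1 := E.flip.finrank_perp (E.L κ)
  rw [← E.finrank_eq] at h1
  have h2 := hE.finrank_L hd hκ
  have h3 : E.flip.perp (E.L κ : Set W) ≤ E.flip.S κ :=
    E.flip.perp_anti fun z hz => hE.flag_mem_L hd (flag_flip_iff.1 (show E.flip.Flag κ z from hz))
  have := Submodule.finrank_mono h3
  omega

/-- The dual group has the same parameter. -/
theorem AFT.rk_flip (hA : D.AFT) (hd : 2 ≤ finrank (ZMod 2) V) : D.flip.rk = D.rk :=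
  le_antisymm (rk_le_flip hA.flip (by rw [← D.finrank_eq]; exact hd)) (rk_le_flip hA hd)

/-- In the small case the subspaces `S` form a spread. -/
theorem AFT.S_eq_of_small (hA : D.AFT) (hd : 2 ≤ finrank (ZMod 2) V)
    (hk : 2 * D.rk ≤ finrank (ZMod 2) V) {w x : V} (hw : w ≠ 0) (hx : x ∈ D.S w) (hx0 : x ≠ 0) :
    D.S x = D.S w := by
  refine Submodule.eq_of_le_of_finrank_le (fun v hv κ hκ => ?_)
    (le_of_eq (by rw [hA.finrank_S hw, hA.finrank_S hx0]))
  obtain ⟨-, hκ0, U, hU, h1, h2⟩ := hκ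
  have hN : ∀ g ∈ U, ∀ v ∈ D.S w, g • v ∈ D.S w := fun g hg v hv => by
    have := smul_mem_S g hv
    rwa [h1 g hg] at this
  exact D.mem_perp_singleton.1
    (hA.S_le_of_small hd hU hκ0 h2 hN (by rw [hA.finrank_S hw]; omega) hx hx0 hv)

/-- In the large case `L κ` lies in `S w` for a flag. -/
theorem AFT.L_le_S_of_flag (hA : D.AFT) (hd : 2 ≤ finrank (ZMod 2) V)
    (hk : finrank (ZMod 2) V ≤ 2 * D.rk) {w : V} {κ : V'} (h : D.Flag w κ) :
    D.L κ ≤ D.S w := by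
  obtain ⟨hw, hκ, U, hU, h1, h2⟩ := h
  have hS : ∀ g ∈ U, ∀ v ∈ D.S w, g • v ∈ D.S w := fun g hg v hv => by
    have := smul_mem_S g hv
    rwa [h1 g hg] at this
  have hL := hA.finrank_L hd hκ
  obtain ⟨N, hNle, hN, hNd⟩ := exists_invariant_le hU.1 (D.S w) hS
    (finrank (ZMod 2) (D.L κ)) (by rw [hA.finrank_S hw]; omega)
  have hNL : N ≤ D.L κ := fun x hx => by
    by_cases hx0 : x = 0
    · rw [hx0]; exact zero_mem _
    · exact (hA.mem_L hd hκ).2
        (Or.inr (hA.S_le_of_small hd hU hκ h2 hN (by omega) hx hx0))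
  rw [← Submodule.eq_of_le_of_finrank_le hNL hNd.ge]
  exact hNle

/-- A vector outside the hyperplane has `S` meeting `L κ` trivially. -/
theorem AFT.S_inf_L (hA : D.AFT) (hd : 2 ≤ finrank (ZMod 2) V) {κ : V'} (hκ : κ ≠ 0) {y : V}
    (hy : D.form y κ = 1) : D.S y ⊓ D.L κ = ⊥ := by
  rw [eq_bot_iff]
  rintro z ⟨h1, h2⟩
  rw [Submodule.mem_bot]
  by_contra hz
  have := D.mem_perp_singleton.1
    (((hA.mem_L hd hκ).1 h2).resolve_left hz (hA.mem_S_symm hd hz h1))
  rw [hy] at this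
  exact one_ne_zero this

/-- In the large case the `S` of non-adjacent vectors span. -/
theorem AFT.S_sup (hA : D.AFT) (hd : 2 ≤ finrank (ZMod 2) V)
    (hk : finrank (ZMod 2) V ≤ 2 * D.rk) {w y : V} (hw : w ≠ 0) (hy : y ∉ D.S w) :
    D.S w ⊔ D.S y = ⊤ := by
  obtain ⟨κ, hκ, hyκ⟩ : ∃ κ, D.Flag w κ ∧ D.form y κ ≠ 0 := by
    simpa [mem_S] using hy
  have hy1 : D.form y κ = 1 := (zmod_two_cases _).resolve_left hyκ
  have hy0 : y ≠ 0 := fun e => by simp [e] at hy1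
  have h1 := hA.S_inf_L hd hκ.2.1 hy1
  have h2 := hA.L_le_S_of_flag hd hk hκ
  have h3 : (D.S w ⊓ D.S y) ⊓ D.L κ = ⊥ := by
    rw [eq_bot_iff, ← h1]
    exact inf_le_inf_right _ inf_le_right
  have h4 := Submodule.finrank_sup_add_finrank_inf_eq (D.S w ⊓ D.S y) (D.L κ)
  rw [h3, finrank_bot, add_zero] at h4
  have h5 := Submodule.finrank_mono
    (sup_le (inf_le_left : D.S w ⊓ D.S y ≤ D.S w) h2)
  rw [hA.finrank_S hw] at h5
  have h6 := hA.finrank_L hd hκ.2.1
  have h7 := Submodule.finrank_sup_add_finrank_inf_eq (D.S w) (D.S y)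
  rw [hA.finrank_S hw, hA.finrank_S hy0] at h7
  have h8 := Submodule.finrank_le (D.S w ⊔ D.S y)
  apply Submodule.eq_top_of_finrank_eq
  omega

/-- In the large case any two members of `L κ` are adjacent. -/
theorem AFT.L_clique (hA : D.AFT) (hd : 2 ≤ finrank (ZMod 2) V)
    (hk : finrank (ZMod 2) V ≤ 2 * D.rk) {κ : V'} (hκ : κ ≠ 0) {s : V} (hs : s ∈ D.L κ)
    (hs0 : s ≠ 0) : D.L κ ≤ D.S s := by
  intro x hx
  by_contra hxs
  have hx0 : x ≠ 0 := fun e => hxs (e ▸ zero_mem _)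
  have h1 := ((hA.mem_L hd hκ).1 hs).resolve_left hs0
  have h2 := ((hA.mem_L hd hκ).1 hx).resolve_left hx0
  have h3 := Submodule.finrank_mono (sup_le h1 h2)
  rw [hA.S_sup hd hk hs0 hxs, finrank_top] at h3
  have := D.finrank_perp_singleton hκ
  omega

end Pairing

end CfsgLib.TwoTransTwo
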