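import Cfsg.Agent.TwoTransTwo.Spread

/-!
Blocks of a doubly transitive group in the spread case.
-/

set_option autoImplicit false
set_option linter.unusedSectionVars false

namespace CfsgLib.TwoTransTwo

open MulAction Module

universe u

namespace Pairing

variable {G : Type*} [Group G] [Finite G] {V : Type u} {V' : Type*} [AddCommGroup V]
  [Module (ZMod 2) V] [AddCommGroup V'] [Module (ZMod 2) V'] [DistribMulAction G V]
  [DistribMulAction G V'] [Finite V] [Finite V'] {D : Pairing G V V'}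

theorem X_eq_of_mem (h : D.TwoTrans) (hk : 2 * D.lrk + 1 ≤ finrank (ZMod 2) V) {P Q R : V}
    (hP : P ≠ 0) (hQ : Q ≠ 0) (hQP : Q ≠ P) (hR : R ≠ 0) (hRP : R ≠ P) (hmem : R ∈ D.X P Q)
    (hn : 4 ≤ finrank (ZMod 2) V) : D.X P R = D.X P Q := by
  have := (h.loc_aft (by omega) hP).S_eq_of_small (by rw [TwoTrans.finrank_loc hP]; omega)
    (by rw [rk_loc h (by omega) hP, TwoTrans.finrank_loc hP]; omega)
    (mk_ne_zero.2 ⟨hQ, hQP⟩) hmem (mk_ne_zero.2 ⟨hR, hRP⟩)
  exact congrArg (Submodule.comap (line P).mkQ) this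

theorem block_eq (h : D.TwoTrans) (hk : 2 * D.lrk + 1 ≤ finrank (ZMod 2) V) {P Q R R' : V}
    (hn : 4 ≤ finrank (ZMod 2) V) (hP : P ≠ 0) (hQ : Q ≠ 0) (hQP : Q ≠ P) (hR : R ≠ 0)
    (hR' : R' ≠ 0) (hne : R' ≠ R) (hm : R ∈ D.X P Q) (hm' : R' ∈ D.X P Q) :
    D.X R R' = D.X P Q := by
  by_cases hRP : R = P
  · subst hRP
    exact X_eq_of_mem h hk hP hQ hQP hR' hne hm' hn
  by_cases hR'P : R' = P
  · subst hR'P
    rw [X_swap h hn hP hR hRP]
    exact X_eq_of_mem h hk hP hQ hQP hR hRP hm hn
  have h1 : D.X R P = D.X P Q := by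
    rw [X_swap h hn hP hR hRP]; exact X_eq_of_mem h hk hP hQ hQP hR hRP hm hn
  rw [X_eq_of_mem h hk hR hP (Ne.symm hRP) hR' hne (h1 ▸ hm') hn, h1]

theorem spread_small (h : D.TwoTrans) (hn : 4 ≤ finrank (ZMod 2) V) (hk2 : 2 ≤ D.lrk) :
    finrank (ZMod 2) V ≠ 2 * D.lrk + 1 := by
  classical
  intro he
  have hk : 2 * D.lrk + 1 ≤ finrank (ZMod 2) V := by omega
  obtain ⟨P, -, hP⟩ := exists_ne_zero (M := (⊤ : Submodule (ZMod 2) V))
    (by rw [finrank_top]; omega)
  obtain ⟨Q, hQ, hQP⟩ := exists_off_line (by omega : 2 ≤ finrank (ZMod 2) V) hP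
  obtain ⟨R, hR⟩ := exists_not_mem (M := D.X P Q) (by
    rw [finrank_X h (by omega) hP hQ hQP]; omega)
  have hR0 : R ≠ 0 := fun e => hR (e ▸ zero_mem _)
  have hQR : R ≠ Q := fun e => hR (e ▸ other_mem_X h (by omega) hP)
  have hPY : P ∉ D.X Q R := fun hc => hR (by
    have h2 := block_eq h hk hn hQ hR0 hQR hP hQ hQP hc self_mem_X
    rw [h2]; exact other_mem_X h (by omega) hQ)
  have hY := finrank_X h (by omega) hQ hR0 hQR
  set E := D.loc P with hE
  have hEA := h.loc_aft (by omega) hP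
  let _ := Fintype.ofFinite V
  let _ := Fintype.ofFinite (V ⧸ line P)
  let s : Finset V := Finset.univ.filter fun y => y ∈ D.X Q R ∧ y ≠ 0
  let t : Finset (V ⧸ line P) := Finset.univ.filter fun x => x ≠ 0
  let r : V → V ⧸ line P → Prop := fun y x => x ∈ E.S (Submodule.Quotient.mk y)
  have hne : ∀ y ∈ s, (Submodule.Quotient.mk y : V ⧸ line P) ≠ 0 := fun y hy => by
    simp only [s, Finset.mem_filter, Finset.mem_univ, true_and] at hy
    exact mk_ne_zero.2 ⟨hy.2, fun e => hPY (e ▸ hy.1)⟩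
  have ha : ∀ y ∈ s, 2 ^ D.lrk - 1 ≤ (Finset.bipartiteAbove r t y).card := by
    intro y hy
    refine le_of_eq ?_
    rw [← rk_loc h (by omega) hP, ← hEA.finrank_S (hne y hy), ← ncard_nonzero,
      ← Set.ncard_coe_finset]
    congr 1
    ext x
    simp [t, r, E, and_comm]
  have hb : ∀ x ∈ t, (Finset.bipartiteBelow r s x).card ≤ 1 := by
    intro x hx
    simp only [t, Finset.mem_filter, Finset.mem_univ, true_and] at hx
    rw [Finset.card_le_one]
    intro a ha b hb
    simp only [Finset.mem_bipartiteBelow, r] at ha hb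
    by_contra hab
    have hsmall : 2 * E.rk ≤ finrank (ZMod 2) (V ⧸ line P) := by
      rw [hE, rk_loc h (by omega) hP, TwoTrans.finrank_loc hP]; omega
    have hd : 2 ≤ finrank (ZMod 2) (V ⧸ line P) := by rw [TwoTrans.finrank_loc hP]; omega
    have e1 := hEA.S_eq_of_small hd hsmall (hne a ha.1) ha.2 hx
    have e2 := hEA.S_eq_of_small hd hsmall (hne b hb.1) hb.2 hx
    have ha' := ha.1
    have hb' := hb.1
    simp only [s, Finset.mem_filter, Finset.mem_univ, true_and] at ha' hb'
    have haP : a ≠ P := fun e => hPY (e ▸ ha'.1)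
    have hbX : b ∈ D.X P a := by
      show Submodule.Quotient.mk b ∈ E.S (Submodule.Quotient.mk a)
      rw [← e1, e2]
      exact hEA.self_mem_S hd _
    have h1 := block_eq h hk hn hP ha'.2 haP ha'.2 hb'.2 (Ne.symm hab)
      (other_mem_X h (by omega) hP) hbX
    have h2 := block_eq h hk hn hQ hR0 hQR ha'.2 hb'.2 (Ne.symm hab) ha'.1 hb'.1
    exact hPY (by rw [← h2, h1]; exact self_mem_X)
  have hcount := Finset.card_mul_le_card_mul r ha hb
  have hs : s.card = 2 ^ (D.lrk + 1) - 1 := by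
    rw [← hY, ← ncard_nonzero, ← Set.ncard_coe_finset]; congr 1; ext y; simp [s]
  have ht : t.card = 2 ^ (2 * D.lrk) - 1 := by
    rw [show 2 * D.lrk = finrank (ZMod 2) (V ⧸ line P) by rw [TwoTrans.finrank_loc hP]; omega,
      ← ncard_ne_zero (V := V ⧸ line P), ← Set.ncard_coe_finset]
    simp [t]
  rw [hs, ht, mul_one] at hcount
  obtain ⟨q, hq⟩ : ∃ q, 2 ^ D.lrk = q + 1 := ⟨2 ^ D.lrk - 1, by have := Nat.two_pow_pos D.lrk; omega⟩
  have hq3 : 3 ≤ q := by
    have : 2 ^ 2 ≤ 2 ^ D.lrk := Nat.pow_le_pow_right two_pos hk2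
    omega
  rw [pow_succ, two_mul, pow_add, hq, Nat.add_sub_cancel, show (q + 1) * 2 - 1 = 2 * q + 1 by omega,
    show (q + 1) * (q + 1) - 1 = q * q + 2 * q by
      rw [show (q + 1) * (q + 1) = q * q + 2 * q + 1 by ring, Nat.add_sub_cancel]] at hcount
  nlinarith

/-- A block carries a transvection-like element. -/
theorem exists_localTransv (h : D.TwoTrans) (hn : 5 ≤ finrank (ZMod 2) V) (hk3 : 3 ≤ D.lrk)
    (hk : 2 * D.lrk + 1 ≤ finrank (ZMod 2) V)
    (hrec : ∀ (W : Type u) [AddCommGroup W] [Module (ZMod 2) W] [Finite W]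
      (M : Subgroup (W ≃ₗ[ZMod 2] W)), finrank (ZMod 2) W = D.lrk + 1 →
        (natPairing M).TwoTrans → (natPairing M).HasTransvection ∨ D.lrk + 1 = 4)
    {P Q : V} (hP : P ≠ 0) (hQ : Q ≠ 0) (hQP : Q ≠ P) :
    ∃ g : stabilizer G P, ∃ z,
      Spreadlike.LocalTransv (D.loc P) ((D.loc P).S (Submodule.Quotient.mk Q)) g z := by
  have hXd := finrank_X h (by omega) hP hQ hQP
  set X := D.X P Q with hX
  have hPX : P ∈ X := self_mem_X
  let H : Subgroup G :=
    { carrier := {g | X.map (actLin g) = X}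
      one_mem' := by
        show X.map (actLin (1 : G)) = X
        rw [show (actLin (1 : G) : V →ₗ[ZMod 2] V) = LinearMap.id from
          LinearMap.ext fun v => one_smul G v, Submodule.map_id]
      mul_mem' := fun {a b} ha hb => by
        show X.map (actLin (a * b)) = X
        rw [show (actLin (a * b) : V →ₗ[ZMod 2] V) = (actLin a).comp (actLin b) from
          LinearMap.ext fun v => mul_smul a b v, Submodule.map_comp, hb, ha]
      inv_mem' := fun {a} ha => by
        show X.map (actLin a⁻¹) = X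
        conv_lhs => rw [← (ha : X.map (actLin a) = X)]
        rw [← Submodule.map_comp, show (actLin a⁻¹).comp (actLin a) = LinearMap.id from
          LinearMap.ext fun v => inv_smul_smul a v, Submodule.map_id] }
  have hHmem : ∀ g : H, ∀ v ∈ X, (g : G) • v ∈ X := fun g v hv => by
    have h2 : actLin (g : G) v ∈ X.map (actLin (g : G)) := Submodule.mem_map_of_mem hv
    rw [(g.2 : X.map (actLin (g : G)) = X)] at h2
    exact h2
  let toAut : H →* (X ≃ₗ[ZMod 2] X) :=
    { toFun := fun g => LinearEquiv.ofLinear ((actLin (g : G)).restrict (hHmem g))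
        ((actLin ((g⁻¹ : H) : G)).restrict (hHmem g⁻¹))
        (LinearMap.ext fun v => Subtype.ext (smul_inv_smul (g : G) (v : V)))
        (LinearMap.ext fun v => Subtype.ext (inv_smul_smul (g : G) (v : V)))
      map_one' := LinearEquiv.ext fun v => Subtype.ext (one_smul G (v : V))
      map_mul' := fun a b => LinearEquiv.ext fun v => Subtype.ext (mul_smul (a : G) (b : G) (v : V)) }
  -- two points and their images determine the block
  have hmove : ∀ a b c d : X, a ≠ 0 → b ≠ 0 → b ≠ a → c ≠ 0 → d ≠ 0 → d ≠ c →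
      ∃ m : toAut.range, m • a = c ∧ m • b = d := by
    intro a b c d ha hb hba hc hd hdc
    have ha' : (a : V) ≠ 0 := fun e => ha (Subtype.ext e)
    have hb' : (b : V) ≠ 0 := fun e => hb (Subtype.ext e)
    have hc' : (c : V) ≠ 0 := fun e => hc (Subtype.ext e)
    have hd' : (d : V) ≠ 0 := fun e => hd (Subtype.ext e)
    have hba' : (b : V) ≠ a := fun e => hba (Subtype.ext e)
    have hdc' : (d : V) ≠ c := fun e => hdc (Subtype.ext e)
    obtain ⟨g, hg⟩ := h.1 _ _ ha' hc'
    obtain ⟨g', hg1, hg2⟩ := h.2 (c : V) (g • (b : V)) d hc' ((smul_ne_zero_iff_ne g).2 hb')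
      (fun e => hba' (MulAction.injective g (e.trans hg.symm))) hd' hdc'
    have hga : (g' * g) • (a : V) = c := by rw [mul_smul, hg, hg1]
    have hgb : (g' * g) • (b : V) = d := by rw [mul_smul, hg2]
    have hmem : g' * g ∈ H := by
      refine Submodule.eq_of_le_of_finrank_le ?_ (le_of_eq (LinearEquiv.finrank_eq
        (Submodule.equivMapOfInjective (actLin (g' * g)) (MulAction.injective (g' * g)) X)))
      rintro _ ⟨v, hv, rfl⟩
      have e1 : D.X (a : V) b = X :=
        block_eq h hk (by omega) hP hQ hQP ha' hb' hba' a.2 b.2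
      have h1 := smul_mem_X h (by omega) (g' * g) hb' hba' (e1.symm ▸ hv : v ∈ D.X (a : V) b)
      rw [hga, hgb, block_eq h hk (by omega) hP hQ hQP hc' hd' hdc' c.2 d.2] at h1
      exact h1
    exact ⟨⟨toAut ⟨g' * g, hmem⟩, ⟨_, rfl⟩⟩, Subtype.ext hga, Subtype.ext hgb⟩
  set N := natPairing toAut.range with hN
  have hNd : finrank (ZMod 2) X = D.lrk + 1 := hXd
  have hNT : N.TwoTrans := by
    refine ⟨fun v w hv hw => ?_, fun v x y hv hx hxv hy hyv => ?_⟩
    · obtain ⟨b, hb, hbv⟩ := exists_off_line (V := X) (by omega) hv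
      obtain ⟨d, hd, hdw⟩ := exists_off_line (V := X) (by omega) hw
      obtain ⟨m, hm, -⟩ := hmove v b w d hv hb hbv hw hd hdw
      exact ⟨m, hm⟩
    · exact hmove v x v y hv hx hxv hv hy hyv
  set P₁ : X := ⟨P, hPX⟩ with hP₁
  have hP₁0 : P₁ ≠ 0 := fun e => hP (congrArg Subtype.val e)
  -- it suffices to find a transvection-like element fixing the point
  suffices hfind : ∃ m : toAut.range, m • P₁ = P₁ ∧ ∃ u : X, u ≠ 0 ∧ u ≠ P₁ ∧
      (∀ x : X, m • x = x ∨ m • x = x + P₁ ∨ m • x = x + u ∨ m • x = x + u + P₁) ∧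
      ∃ x : X, m • x = x + u ∨ m • x = x + u + P₁ by
    obtain ⟨⟨_, g, rfl⟩, hm1, u, hu, huP, hall, x₀, hx₀⟩ := hfind
    have hgP : (g : G) • P = P := congrArg Subtype.val hm1
    have hmem : ∀ {v : V}, (Submodule.Quotient.mk v : V ⧸ line P) ∈
        (D.loc P).S (Submodule.Quotient.mk Q) → v ∈ X := fun hv => hv
    have hact : ∀ x : X, (g : G) • (x : V) = x ∨ (g : G) • (x : V) = x + P ∨
        (g : G) • (x : V) = x + u ∨ (g : G) • (x : V) = x + u + P := fun x => by
      rcases hall x with e | e | e | e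
      · exact Or.inl (congrArg Subtype.val e)
      · exact Or.inr (Or.inl (congrArg Subtype.val e))
      · exact Or.inr (Or.inr (Or.inl (congrArg Subtype.val e)))
      · exact Or.inr (Or.inr (Or.inr (congrArg Subtype.val e)))
    refine ⟨⟨(g : G), hgP⟩, Submodule.Quotient.mk (u : V), ?_, u.2,
      mk_ne_zero.2 ⟨fun e => hu (Subtype.ext e), fun e => huP (Subtype.ext e)⟩, ?_,
      Submodule.Quotient.mk (x₀ : V), x₀.2, ?_⟩
    · intro a ha
      induction a using Submodule.Quotient.induction_on with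
      | _ v => exact hHmem g v (hmem ha)
    · intro a ha
      induction a using Submodule.Quotient.induction_on with
      | _ v =>
        rcases hact ⟨v, hmem ha⟩ with e | e | e | e
        · exact Or.inl (mk_eq_mk.2 (Or.inl e))
        · exact Or.inl (mk_eq_mk.2 (Or.inr e))
        · exact Or.inr (mk_eq_mk.2 (Or.inl e))
        · exact Or.inr (mk_eq_mk.2 (Or.inr e))
    · rcases hx₀ with e | e
      · exact mk_eq_mk.2 (Or.inl (congrArg Subtype.val e))
      · exact mk_eq_mk.2 (Or.inr (congrArg Subtype.val e))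
  by_cases ht : N.HasTransvection
  · -- a transvection with centre off the point and axis through it
    obtain ⟨u, hu, huP⟩ := exists_off_line (V := X) (by omega) hP₁0
    obtain ⟨ψ, hψ, hψ0⟩ := exists_ne_zero (M := N.flip.perp (line P₁ ⊔ line u : Submodule _ X))
      (by
        have h1 := N.flip.finrank_perp (line P₁ ⊔ line u)
        have h2 := Submodule.finrank_add_le_finrank_add_finrank (line P₁) (line u)
        rw [finrank_line hP₁0, finrank_line hu] at h2
        rw [← N.finrank_eq] at h1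
        omega)
    obtain ⟨m, hm⟩ := hNT.all_transvections (by omega) ht hu hψ0
      (hψ u (Submodule.mem_sup_right (Submodule.mem_span_singleton_self u)))
    have hval : N.form P₁ ψ = 0 :=
      hψ P₁ (Submodule.mem_sup_left (Submodule.mem_span_singleton_self P₁))
    refine ⟨m, by rw [hm.2.2.2, hval, zero_smul, add_zero], u, hu, huP, fun x => ?_, ?_⟩
    · rcases zmod_two_cases (N.form x ψ) with e | e
      · exact Or.inl (by rw [hm.2.2.2, e, zero_smul, add_zero])
      · exact Or.inr (Or.inr (Or.inl (by rw [hm.2.2.2, e, one_smul])))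
    · obtain ⟨x, hx⟩ := N.flip.exists_form_eq_one hψ0
      exact ⟨x, Or.inl (by rw [hm.2.2.2, show N.form x ψ = 1 from hx, one_smul])⟩
  · -- in dimension four an involution of the stabilizer serves
    have h4 : D.lrk + 1 = 4 := (hrec X toAut.range hNd hNT).resolve_left ht
    have hf := TwoTrans.loc_faithful (natPairing_faithful _) ht hP₁0
    have hA := hNT.loc_aft (by omega) hP₁0
    have hd : finrank (ZMod 2) (X ⧸ line P₁) = 3 := by
      rw [TwoTrans.finrank_loc hP₁0]; omega
    haveI := Fact.mk Nat.prime_two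
    obtain ⟨m, hm⟩ := exists_prime_orderOf_dvd_card' 2 (hA.even_card (by omega))
    have hm1 : m ≠ 1 := fun e => by rw [e, orderOf_one] at hm; omega
    set f : (X ⧸ line P₁) →ₗ[ZMod 2] X ⧸ line P₁ := actLin m + LinearMap.id with hf'
    have hff : LinearMap.range f ≤ LinearMap.ker f := by
      rintro _ ⟨v, rfl⟩
      have hmm : m • m • v = v := by rw [← mul_smul, ← pow_two, orderOf_dvd_iff_pow_eq_one.1 (dvd_of_eq hm), one_smul]
      simp only [LinearMap.mem_ker, hf', LinearMap.add_apply, actLin_apply, LinearMap.id_coe, id_eq,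
        smul_add, hmm]
      rw [add_comm (m • v) v]
      exact add_self _
    obtain ⟨v, hv⟩ : ∃ v : X ⧸ line P₁, m • v ≠ v := by
      by_contra hc
      exact hm1 (hf m fun v => by_contra fun e => hc ⟨v, e⟩)
    have hfv : f v ≠ 0 := fun e => hv (add_eq_zero.1 e)
    have hr : LinearMap.range f = line (f v) := eq_line
      (by
        have h1 := Submodule.finrank_mono hff
        have h2 := LinearMap.finrank_range_add_finrank_ker f
        omega) ⟨v, rfl⟩ hfv
    obtain ⟨u, hu⟩ := Submodule.Quotient.mk_surjective _ (f v)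
    rw [← hu] at hfv hr
    have hcase : ∀ x : X, (f (Submodule.Quotient.mk x) = 0 →
        (m : toAut.range) • x = x ∨ (m : toAut.range) • x = x + P₁) ∧
        (f (Submodule.Quotient.mk x) = Submodule.Quotient.mk u →
        (m : toAut.range) • x = x + u ∨ (m : toAut.range) • x = x + u + P₁) := fun x =>
      ⟨fun e => mk_eq_mk.1 (add_eq_zero.1 e), fun e => mk_eq_mk.1 (by
        rw [Submodule.Quotient.mk_add, ← e, add_comm (Submodule.Quotient.mk x)]
        simp only [hf', LinearMap.add_apply, actLin_apply, LinearMap.id_coe, id_eq]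
        rw [add_assoc, add_self, add_zero]; rfl)⟩
    obtain ⟨x₀, hx₀⟩ := Submodule.Quotient.mk_surjective _ v
    refine ⟨(m : toAut.range), m.2, u, (mk_ne_zero.1 hfv).1, (mk_ne_zero.1 hfv).2, fun x => ?_,
      x₀, (hcase x₀).2 (by rw [hx₀, hu])⟩
    have hx : f (Submodule.Quotient.mk x) ∈ LinearMap.range f := ⟨_, rfl⟩
    rw [hr, mem_line] at hx
    rcases hx with e | e
    · rcases (hcase x).1 e with e' | e'
      · exact Or.inl e'
      · exact Or.inr (Or.inl e')
    · rcases (hcase x).2 e with e' | e'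
      · exact Or.inr (Or.inr (Or.inl e'))
      · exact Or.inr (Or.inr (Or.inr e'))

/-- The spread case with parameter at least three is impossible. -/
theorem no_spread (h : D.TwoTrans) (hn : 5 ≤ finrank (ZMod 2) V) (hk3 : 3 ≤ D.lrk)
    (hk : 2 * D.lrk + 1 ≤ finrank (ZMod 2) V)
    (hrec : ∀ (W : Type u) [AddCommGroup W] [Module (ZMod 2) W] [Finite W]
      (M : Subgroup (W ≃ₗ[ZMod 2] W)), finrank (ZMod 2) W = D.lrk + 1 →
        (natPairing M).TwoTrans → (natPairing M).HasTransvection ∨ D.lrk + 1 = 4) : False := by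
  have hne := spread_small h (by omega) (by omega)
  obtain ⟨P, -, hP⟩ := exists_ne_zero (M := (⊤ : Submodule (ZMod 2) V))
    (by rw [finrank_top]; omega)
  obtain ⟨Q, hQ, hQP⟩ := exists_off_line (by omega : 2 ≤ finrank (ZMod 2) V) hP
  obtain ⟨g, z, hg⟩ := exists_localTransv h hn hk3 hk hrec hP hQ hQP
  refine Spreadlike.absurd' (E := D.loc P) ⟨h.loc_aft (by omega) hP, ?_, ?_⟩
    ⟨_, mk_ne_zero.2 ⟨hQ, hQP⟩, rfl⟩ hg
  · rw [rk_loc h (by omega) hP, TwoTrans.finrank_loc hP]; omega
  · rw [rk_loc h (by omega) hP]; exact hk3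

end Pairing

end CfsgLib.TwoTransTwo
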