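import Cfsg.Agent.TwoTransTwo.Link

/-!
The double count behind the inequality between the two parameters in the non-spread case.
-/

set_option autoImplicit false
set_option linter.unusedSectionVars false

namespace CfsgLib.TwoTransTwo

open MulAction Module

variable {G : Type*} [Group G] [Finite G] {V V' : Type*} [AddCommGroup V] [Module (ZMod 2) V]
  [AddCommGroup V'] [Module (ZMod 2) V'] [DistribMulAction G V] [DistribMulAction G V']
  [Finite V] [Finite V']

theorem count_strict {a b w o r u : ℕ} (hw : w + b = 2 * a) (ho : o + r = a * b) (hu : u + b = r)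
    (hb : 4 ≤ b) (hr : 2 * r ≤ a) : o + u * (b - 1) < (b - 1) * w := by
  obtain ⟨c, rfl⟩ : ∃ c, b = c + 1 := ⟨b - 1, by omega⟩
  rw [Nat.add_sub_cancel]
  obtain ⟨e, rfl⟩ : ∃ e, a = 2 * r + e := ⟨a - 2 * r, by omega⟩
  have h1 : 3 ≤ c := by omega
  have hr1 : 1 ≤ r := by omega
  have e1 : (c * w : ℕ) + c * (c + 1) = c * (2 * (2 * r + e)) := by rw [← mul_add, hw]
  have e2 : u * c + (c + 1) * c = r * c := by rw [← add_mul, hu]
  nlinarith [Nat.mul_le_mul_left e h1, Nat.mul_le_mul_left r h1]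

theorem count_equal {a b w o u : ℕ} (hw : w + b = 2 * a) (ho : o + a = a * b) (hu : u + b = a)
    (hb : 1 ≤ b) : o + u * (b - 1) = (b - 1) * w := by
  obtain ⟨c, rfl⟩ : ∃ c, b = c + 1 := ⟨b - 1, by omega⟩
  rw [Nat.add_sub_cancel]
  have e1 : (c * w : ℕ) + c * (c + 1) = c * (2 * a) := by rw [← mul_add, hw]
  have e2 : u * c + (c + 1) * c = a * c := by rw [← add_mul, hu]
  nlinarith

namespace Pairing

/-- The common part of the subspaces of the members of `L φ`. -/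
def Common (E : Pairing G V V') (φ : V') (R : Submodule (ZMod 2) V) : Prop :=
  φ ≠ 0 ∧ finrank (ZMod 2) R + 1 = E.rk ∧ R ≤ E.perp {φ} ∧
    (∀ z ∈ E.L φ, z ≠ 0 → R ≤ E.S z) ∧
    ∀ x ∈ E.perp {φ}, x ∉ R → ∃ z ∈ E.L φ, z ≠ 0 ∧ x ∈ E.S z ∧
      ∀ z' ∈ E.L φ, z' ≠ 0 → x ∈ E.S z' → z' = z

variable {E : Pairing G V V'}

theorem AFT.L_le_perp (hA : E.AFT) (hd : 2 ≤ finrank (ZMod 2) V) {κ : V'} (hκ : κ ≠ 0) :
    E.L κ ≤ E.perp {κ} := fun z hz => by
  rcases (hA.mem_L hd hκ).1 hz with rfl | h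
  · exact zero_mem _
  · exact h (hA.self_mem_S hd z)

theorem AFT.L_le_core (hA : E.AFT) (hd : 2 ≤ finrank (ZMod 2) V) (hk : 2 ≤ E.rk) {κ : V'}
    (hκ : κ ≠ 0) {R : Submodule (ZMod 2) V} (hR : E.Core κ R)
    (hr : finrank (ZMod 2) R + 2 ≤ finrank (ZMod 2) V) : E.L κ ≤ R := by
  intro z hz
  by_contra hzR
  have hsub : (E.perp {κ} : Set V) \ R ⊆ (E.L κ : Set V) \ {0} := by
    rintro y ⟨hy, hyR⟩
    obtain ⟨g, hg, rfl⟩ := hR.2 z y (hA.L_le_perp hd hκ hz) hzR hy hyR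
    exact ⟨hg ▸ hA.smul_mem_L hd g hκ hz, fun e => hyR (by rw [show g • z = 0 from e]; exact zero_mem _)⟩
  have h1 := Set.ncard_le_ncard hsub (Set.toFinite _)
  rw [ncard_nonzero, Set.ncard_diff hR.1, ncard_submodule, ncard_submodule] at h1
  have h2 := hA.finrank_L hd hκ
  have h3 := E.finrank_perp_singleton hκ
  have h5 : 2 ^ (finrank (ZMod 2) R + 1) ≤ 2 ^ finrank (ZMod 2) (E.perp {κ}) :=
    Nat.pow_le_pow_right two_pos (by omega)
  have h6 : 2 ^ (finrank (ZMod 2) (E.L κ) + 1) ≤ 2 ^ finrank (ZMod 2) (E.perp {κ}) :=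
    Nat.pow_le_pow_right two_pos (by omega)
  rw [pow_succ] at h5 h6
  have := Nat.two_pow_pos (finrank (ZMod 2) (E.L κ))
  omega

theorem AFT.exists_common (hA : E.AFT) (hlo : finrank (ZMod 2) V < 2 * E.rk)
    (hhi : E.rk + 2 ≤ finrank (ZMod 2) V) {κ : V'} (hκ : κ ≠ 0) {R : Submodule (ZMod 2) V}
    (hR : E.Core κ R) (hr : finrank (ZMod 2) R < E.rk) :
    E.Common κ R := by
  classical
  have hd : 2 ≤ finrank (ZMod 2) V := by omega
  let _ := Fintype.ofFinite V
  have hLR := hA.L_le_core hd (by omega) hκ hR (by omega)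
  have hLd := hA.finrank_L hd hκ
  have hPd := E.finrank_perp_singleton hκ
  have hS : ∀ z ∈ E.L κ, z ≠ 0 → E.S z ≤ E.perp {κ} := fun z hz hz0 =>
    ((hA.mem_L hd hκ).1 hz).resolve_left hz0
  set c := finrank (ZMod 2) (E.L κ) with hc
  set r := finrank (ZMod 2) R with hr'
  let s : Finset V := Finset.univ.filter fun z => z ∈ E.L κ ∧ z ≠ 0
  let O : Finset V := Finset.univ.filter fun x => x ∈ E.perp {κ} ∧ x ∉ R
  let U : Finset V := Finset.univ.filter fun x => x ∈ R ∧ x ∉ E.L κ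
  let N : V → ℕ := fun x => (s.filter fun z => x ∈ E.S z).card
  have hs : s.card = 2 ^ c - 1 := by
    rw [← ncard_nonzero, ← Set.ncard_coe_finset]
    congr 1
    ext z
    simp [s]
  have hO : O.card + 2 ^ r = 2 ^ (E.rk - 1) * 2 ^ c := by
    have h1 : O.card = ((E.perp {κ} : Set V) \ R).ncard := by
      rw [← Set.ncard_coe_finset]; congr 1; ext x; simp [O]
    have h4 : finrank (ZMod 2) (E.perp {κ}) = E.rk - 1 + c := by omega
    have h5 : 2 ^ r ≤ 2 ^ finrank (ZMod 2) (E.perp {κ}) := Nat.pow_le_pow_right two_pos (by omega)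
    rw [h1, Set.ncard_diff hR.1, ncard_submodule, ncard_submodule, ← hr', Nat.sub_add_cancel h5,
      h4, pow_add]
  have hU : U.card + 2 ^ c = 2 ^ r := by
    have h1 : U.card = ((R : Set V) \ E.L κ).ncard := by
      rw [← Set.ncard_coe_finset]; congr 1; ext x; simp [U]
    rw [h1, Set.ncard_diff hLR, ncard_submodule, ncard_submodule, ← hr', ← hc,
      Nat.sub_add_cancel (Nat.pow_le_pow_right two_pos (Submodule.finrank_mono hLR))]
  obtain ⟨m, hm⟩ : ∃ m, ∀ x ∈ O, N x = m := by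
    by_cases hne : O.Nonempty
    · obtain ⟨x₀, hx₀⟩ := hne
      refine ⟨N x₀, fun x hx => ?_⟩
      simp only [O, Finset.mem_filter, Finset.mem_univ, true_and] at hx hx₀
      obtain ⟨g, hg, rfl⟩ := hR.2 x₀ x hx₀.1 hx₀.2 hx.1 hx.2
      refine (Finset.card_bij (fun z _ => g • z) (fun z hz => ?_)
        (fun _ _ _ _ e => MulAction.injective g e) (fun z hz => ?_)).symm
      · simp only [s, Finset.mem_filter, Finset.mem_univ, true_and] at hz ⊢
        exact ⟨⟨hg ▸ hA.smul_mem_L hd g hκ hz.1.1, (smul_ne_zero_iff_ne g).2 hz.1.2⟩,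
          smul_mem_S g hz.2⟩
      · simp only [s, Finset.mem_filter, Finset.mem_univ, true_and] at hz
        refine ⟨g⁻¹ • z, ?_, smul_inv_smul _ _⟩
        simp only [s, Finset.mem_filter, Finset.mem_univ, true_and]
        have hg' : g⁻¹ • κ = κ := inv_smul_eq_iff.2 hg.symm
        refine ⟨⟨hg' ▸ hA.smul_mem_L hd g⁻¹ hκ hz.1.1, (smul_ne_zero_iff_ne _).2 hz.1.2⟩, ?_⟩
        rw [← smul_mem_S_iff g, smul_inv_smul]
        exact hz.2
    · exact ⟨0, fun x hx => absurd ⟨x, hx⟩ hne⟩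
  have hm1 : 1 ≤ m := by
    rw [Nat.one_le_iff_ne_zero]
    intro h0
    obtain ⟨z, hz, hz0⟩ := exists_ne_zero (M := E.L κ) (by omega)
    have hle : E.S z ≤ R := fun x hx => by
      by_contra hxR
      have hxO : x ∈ O := by
        simp only [O, Finset.mem_filter, Finset.mem_univ, true_and]
        exact ⟨hS z hz hz0 hx, hxR⟩
      have := hm x hxO
      rw [h0, Finset.card_eq_zero] at this
      exact Finset.notMem_empty z (this ▸ Finset.mem_filter.2 ⟨by simp [s, hz, hz0], hx⟩)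
    have := Submodule.finrank_mono hle
    rw [hA.finrank_S hz0] at this
    omega
  have hdisj : Disjoint O U := Finset.disjoint_left.2 fun x hx hx' => by
    simp only [O, U, Finset.mem_filter, Finset.mem_univ, true_and] at hx hx'
    exact hx.2 hx'.1
  have hcount : s.card * (2 ^ E.rk - 2 ^ c) = O.card * m + ∑ x ∈ U, N x := by
    rw [← smul_eq_mul O.card, ← Finset.sum_const, ← Finset.sum_congr rfl hm,
      ← Finset.sum_union hdisj]
    have h := Finset.sum_card_bipartiteAbove_eq_sum_card_bipartiteBelow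
      (s := s) (t := O ∪ U) (fun z x => x ∈ E.S z)
    refine Eq.trans ?_ h
    rw [← smul_eq_mul, ← Finset.sum_const]
    refine Finset.sum_congr rfl fun z hz => ?_
    simp only [s, Finset.mem_filter, Finset.mem_univ, true_and] at hz
    have hLS : E.L κ ≤ E.S z := hA.L_clique hd (by omega) hκ hz.1 hz.2
    have h1 : ((E.S z : Set V) \ E.L κ).ncard = 2 ^ E.rk - 2 ^ c := by
      rw [Set.ncard_diff hLS, ncard_submodule, ncard_submodule, hA.finrank_S hz.2]
    rw [← h1, ← Set.ncard_coe_finset]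
    congr 1
    ext x
    simp only [Finset.coe_bipartiteAbove, Finset.mem_union, O, U, Finset.mem_filter,
      Finset.mem_univ, true_and, Set.mem_ofPred_eq, Set.mem_diff, SetLike.mem_coe]
    constructor
    · rintro ⟨hx, hxL⟩
      refine ⟨?_, hx⟩
      by_cases hxR : x ∈ R
      · exact Or.inr ⟨hxR, hxL⟩
      · exact Or.inl ⟨hS z hz.1 hz.2 hx, hxR⟩
    · rintro ⟨⟨-, hxR⟩ | ⟨-, hxL⟩, hx⟩
      · exact ⟨hx, fun hxL => hxR (hLR hxL)⟩
      · exact ⟨hx, hxL⟩
  have hNle : ∀ x ∈ U, N x ≤ 2 ^ c - 1 := fun x _ => hs ▸ Finset.card_filter_le _ _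
  have hsum : ∑ x ∈ U, N x ≤ U.card * (2 ^ c - 1) :=
    (Finset.sum_le_sum hNle).trans (by rw [Finset.sum_const, smul_eq_mul])
  have hb4 : 4 ≤ 2 ^ c := by
    calc 4 = 2 ^ 2 := by norm_num
      _ ≤ _ := Nat.pow_le_pow_right two_pos (by omega)
  have hra : 2 ^ r ≤ 2 ^ (E.rk - 1) := Nat.pow_le_pow_right two_pos (by omega)
  have ha2 : 2 ^ E.rk = 2 * 2 ^ (E.rk - 1) := by
    conv_lhs => rw [show E.rk = (E.rk - 1) + 1 by omega, pow_succ]
    ring
  have hca : 2 ^ c ≤ 2 ^ (E.rk - 1) := le_trans (by omega : 2 ^ c ≤ 2 ^ r) hra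
  rw [hs, ha2] at hcount
  obtain ⟨w, hw⟩ : ∃ w, w + 2 ^ c = 2 * 2 ^ (E.rk - 1) :=
    ⟨2 * 2 ^ (E.rk - 1) - 2 ^ c, by omega⟩
  rw [show 2 * 2 ^ (E.rk - 1) - 2 ^ c = w by omega] at hcount
  have hmle : m ≤ 1 := by
    by_contra hm2
    have h1 : O.card * 2 ≤ O.card * m := Nat.mul_le_mul_left _ (by omega)
    have h2 : (2 ^ c - 1) * w + (2 ^ c - 1) * 2 ^ c = (2 ^ c - 1) * (2 * 2 ^ (E.rk - 1)) := by
      rw [← mul_add, hw]
    have h3 : (2 ^ c - 1) * 2 ^ (E.rk - 1) + 2 ^ (E.rk - 1) = 2 ^ (E.rk - 1) * 2 ^ c := by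
      rw [Nat.sub_one_mul, Nat.sub_add_cancel (Nat.le_mul_of_pos_left _ (by omega)), mul_comm]
    have h4 : 1 ≤ (2 ^ c - 1) * 2 ^ c := Nat.one_le_iff_ne_zero.2 (by
      simp only [ne_eq, mul_eq_zero, not_or]; omega)
    have h5 : (2 ^ c - 1) * (2 * 2 ^ (E.rk - 1)) = 2 * ((2 ^ c - 1) * 2 ^ (E.rk - 1)) := by ring
    omega
  have hmone : m = 1 := by omega
  rw [hmone, mul_one] at hcount
  have hreq : r + 1 = E.rk := by
    by_contra hne
    have hlt : 2 * 2 ^ r ≤ 2 ^ (E.rk - 1) := by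
      rw [mul_comm, ← pow_succ]; exact Nat.pow_le_pow_right two_pos (by omega)
    have := count_strict hw hO hU hb4 hlt
    omega
  have hr1 : 2 ^ r = 2 ^ (E.rk - 1) := by rw [← hreq, Nat.add_sub_cancel]
  rw [hr1] at hO hU
  have hfull : ∀ x ∈ U, N x = 2 ^ c - 1 := by
    refine (Finset.sum_eq_sum_iff_of_le hNle).1 ?_
    rw [Finset.sum_const, smul_eq_mul]
    have := count_equal hw hO hU (by omega)
    omega
  refine ⟨hκ, hreq, hR.1, fun z hz hz0 x hx => ?_, fun x hx hxR => ?_⟩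
  · by_cases hxL : x ∈ E.L κ
    · exact hA.L_clique hd (by omega) hκ hz hz0 hxL
    · have hxU : x ∈ U := by simp [U, hx, hxL]
      have h1 : s.filter (fun z => x ∈ E.S z) = s :=
        Finset.eq_of_subset_of_card_le (Finset.filter_subset _ _)
          (le_of_eq (by rw [hs]; exact (hfull x hxU).symm))
      have hzs : z ∈ s.filter (fun z => x ∈ E.S z) := by rw [h1]; simp [s, hz, hz0]
      exact (Finset.mem_filter.1 hzs).2
  · have hxO : x ∈ O := by simp [O, hx, hxR]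
    have h1 : N x = 1 := by rw [hm x hxO, hmone]
    obtain ⟨z, hz⟩ := Finset.card_eq_one.1 h1
    have hzm : z ∈ s.filter (fun z => x ∈ E.S z) := hz ▸ Finset.mem_singleton_self z
    simp only [s, Finset.mem_filter, Finset.mem_univ, true_and] at hzm
    refine ⟨z, hzm.1.1, hzm.1.2, hzm.2, fun z' hz' hz0' hx' => ?_⟩
    exact Finset.mem_singleton.1 (hz ▸ (by simp [s, hz', hz0', hx'] :
      z' ∈ s.filter (fun z => x ∈ E.S z)))

end Pairing

end CfsgLib.TwoTransTwo
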