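import Cfsg.Agent.TwoTransTwo.Local

/-!
A subgroup of linear automorphisms acts on the dual space, giving a pairing.
-/

set_option autoImplicit false
set_option linter.unusedSectionVars false

namespace CfsgLib.TwoTransTwo

open MulAction Module

variable {W : Type*} [AddCommGroup W] [Module (ZMod 2) W]

/-- The dual space, as acted on by linear automorphisms. -/
instance dualAction (M : Subgroup (W ≃ₗ[ZMod 2] W)) :
    DistribMulAction M (Module.Dual (ZMod 2) W) where
  smul g φ := φ.comp ((g : W ≃ₗ[ZMod 2] W).symm : W →ₗ[ZMod 2] W)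
  one_smul φ := LinearMap.ext fun _ => rfl
  mul_smul g g' φ := LinearMap.ext fun _ => rfl
  smul_zero g := LinearMap.ext fun _ => rfl
  smul_add g φ ψ := LinearMap.ext fun _ => rfl

variable [Finite W]

instance finiteDual : Finite (Module.Dual (ZMod 2) W) :=
  Finite.of_injective (fun φ => (φ : W → ZMod 2)) DFunLike.coe_injective

instance finiteAut : Finite (W ≃ₗ[ZMod 2] W) :=
  Finite.of_injective (fun e => (e : W → W)) DFunLike.coe_injective

/-- The natural pairing of a space with its dual. -/
def natPairing (M : Subgroup (W ≃ₗ[ZMod 2] W)) : Pairing M W (Module.Dual (ZMod 2) W) where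
  form := LinearMap.id.flip
  smul_form g v φ := congrArg φ ((g : W ≃ₗ[ZMod 2] W).symm_apply_apply v)
  left_sep v h := (Module.forall_dual_apply_eq_zero_iff (ZMod 2) v).1 h
  right_sep φ h := LinearMap.ext h

theorem natPairing_form (M : Subgroup (W ≃ₗ[ZMod 2] W)) (v : W) (φ : Module.Dual (ZMod 2) W) :
    (natPairing M).form v φ = φ v := rfl

theorem natPairing_faithful (M : Subgroup (W ≃ₗ[ZMod 2] W)) : (natPairing M).Faithful :=
  fun _ h => Subtype.ext (LinearEquiv.ext h)

end CfsgLib.TwoTransTwo
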