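import Cfsg.Agent.TwoTransTwo.Count

/-!
The equality case of the inequality between the two parameters is impossible: the vectors would
fall into blocks with too many involutions fixing vectors.
-/

set_option autoImplicit false
set_option linter.unusedSectionVars false

namespace CfsgLib.TwoTransTwo

open MulAction Module

variable {G : Type*} [Group G] [Finite G] {V V' : Type*} [AddCommGroup V] [Module (ZMod 2) V]
  [AddCommGroup V'] [Module (ZMod 2) V'] [DistribMulAction G V] [DistribMulAction G V']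
  [Finite V] [Finite V']

namespace Pairing

/-- Some functional has `R` as its common part. -/
def IsR (E : Pairing G V V') (R : Submodule (ZMod 2) V) : Prop := ∃ φ, E.Common φ R

/-- The vectors whose subspace contains `R`. -/
def Lam (E : Pairing G V V') (R : Submodule (ZMod 2) V) : Submodule (ZMod 2) V :=
  ⨅ x ∈ (R : Set V), E.S x

/-- The hypotheses of the equality case. -/
structure Tight (E : Pairing G V V') : Prop where
  aft : E.AFT
  low : finrank (ZMod 2) V < 2 * E.rk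
  high : E.rk + 2 ≤ finrank (ZMod 2) V
  common : ∀ φ : V', φ ≠ 0 → ∃ R, E.Common φ R

variable {E : Pairing G V V'}

theorem Common.smul (hA : E.AFT) (hd : 2 ≤ finrank (ZMod 2) V) {φ : V'}
    {R : Submodule (ZMod 2) V} (h : E.Common φ R) (g : G) :
    E.Common (g • φ) (R.map (actLin g)) := by
  obtain ⟨hφ, h1, h2, h3, h4⟩ := h
  have hmem : ∀ {z : V}, z ∈ E.L (g • φ) → g⁻¹ • z ∈ E.L φ := fun {z} hz => by
    simpa using hA.smul_mem_L hd g⁻¹ ((smul_ne_zero_iff_ne g).2 hφ) hz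
  refine ⟨(smul_ne_zero_iff_ne g).2 hφ, ?_, ?_, ?_, ?_⟩
  · rw [← LinearEquiv.finrank_eq (Submodule.equivMapOfInjective (actLin g)
      (MulAction.injective g) R)]
    exact h1
  · rintro _ ⟨x, hx, rfl⟩
    rw [mem_perp_singleton, actLin_apply, E.smul_form]
    exact E.mem_perp_singleton.1 (h2 hx)
  · rintro z hz hz0 _ ⟨x, hx, rfl⟩
    have := smul_mem_S g (h3 _ (hmem hz) ((smul_ne_zero_iff_ne _).2 hz0) hx)
    rwa [smul_inv_smul] at this
  · intro x hx hxR
    obtain ⟨z, hz, hz0, hxz, huniq⟩ := h4 (g⁻¹ • x)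
      (by rw [mem_perp_singleton, ← E.smul_form g, smul_inv_smul]; exact E.mem_perp_singleton.1 hx)
      (fun hc => hxR ⟨_, hc, smul_inv_smul _ _⟩)
    refine ⟨g • z, hA.smul_mem_L hd g hφ hz, (smul_ne_zero_iff_ne g).2 hz0, ?_, ?_⟩
    · have := smul_mem_S g hxz
      rwa [smul_inv_smul] at this
    · intro z' hz' hz0' hxz'
      rw [← huniq (g⁻¹ • z') (hmem hz') ((smul_ne_zero_iff_ne _).2 hz0') (smul_mem_S g⁻¹ hxz'),
        smul_inv_smul]

theorem Common.inf_le {φ : V'} {R : Submodule (ZMod 2) V} (hA : E.AFT)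
    (hd : 2 ≤ finrank (ZMod 2) V) (h : E.Common φ R) {z z' : V} (hz : z ∈ E.L φ) (hz0 : z ≠ 0)
    (hz' : z' ∈ E.L φ) (hz0' : z' ≠ 0) (hne : z ≠ z') : E.S z ⊓ E.S z' ≤ R := fun x hx => by
  by_contra hxR
  obtain ⟨w, -, -, -, huniq⟩ := h.2.2.2.2 x
    ((((hA.mem_L hd h.1).1 hz).resolve_left hz0) hx.1) hxR
  exact hne ((huniq z hz hz0 hx.1).trans (huniq z' hz' hz0' hx.2).symm)

theorem perp_inf (A B : Submodule (ZMod 2) V) :
    E.flip.perp ((A ⊓ B : Submodule (ZMod 2) V) : Set V) =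
      E.flip.perp (A : Set V) ⊔ E.flip.perp (B : Set V) := by
  have h : E.perp ((E.flip.perp (A : Set V) ⊔ E.flip.perp (B : Set V) : Submodule (ZMod 2) V') :
      Set V') = A ⊓ B := by
    apply le_antisymm
    · exact le_inf
        ((E.perp_anti (SetLike.coe_subset_coe.2 le_sup_left)).trans_eq (E.perp_perp A))
        ((E.perp_anti (SetLike.coe_subset_coe.2 le_sup_right)).trans_eq (E.perp_perp B))
    · intro x hx φ hφ
      obtain ⟨a, ha, b, hb, rfl⟩ := Submodule.mem_sup.1 hφ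
      have e1 : E.form x a = 0 := ha x hx.1
      have e2 : E.form x b = 0 := hb x hx.2
      rw [map_add, e1, e2, add_zero]
  rw [← h]
  exact E.flip.perp_perp _

namespace Tight

theorem two_le (T : E.Tight) : 2 ≤ finrank (ZMod 2) V := by have := T.high; omega

theorem finrank_L (T : E.Tight) {φ : V'} (hφ : φ ≠ 0) :
    finrank (ZMod 2) (E.L φ) + E.rk = finrank (ZMod 2) V := T.aft.finrank_L T.two_le hφ

theorem exists_pair (T : E.Tight) {M : Submodule (ZMod 2) V}
    (hM : 2 ≤ finrank (ZMod 2) M) : ∃ z z', z ∈ M ∧ z' ∈ M ∧ z ≠ 0 ∧ z' ≠ 0 ∧ z ≠ z' := by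
  obtain ⟨z, hz, hz0⟩ := exists_ne_zero (M := M) (by omega)
  by_contra hc
  simp only [not_exists, not_and] at hc
  have hle : M ≤ line z := fun x hx => by
    by_cases hx0 : x = 0
    · rw [hx0]; exact zero_mem _
    · rw [show x = z from not_not.1 fun e => hc x z hx hz hx0 hz0 e]
      exact Submodule.mem_span_singleton_self z
  have := Submodule.finrank_mono hle
  rw [finrank_line hz0] at this
  omega

/-- Two members of some `L φ` are adjacent to enough to make the dimension large. -/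
theorem high_three (T : E.Tight) : E.rk + 3 ≤ finrank (ZMod 2) V := by
  have hd := T.two_le
  have hA := T.aft
  obtain ⟨κ, -, hκ⟩ := exists_ne_zero (M := (⊤ : Submodule (ZMod 2) V'))
    (by rw [finrank_top, ← E.finrank_eq]; omega)
  obtain ⟨R, hR⟩ := T.common κ hκ
  obtain ⟨s, t, hs, ht, hs0, ht0, hst⟩ := T.exists_pair (M := E.L κ)
    (by have := T.finrank_L hκ; have := T.high; omega)
  have hinf : E.S s ⊓ E.S t = R :=
    le_antisymm (hR.inf_le hA hd hs hs0 ht ht0 hst) (le_inf (hR.2.2.2.1 s hs hs0) (hR.2.2.2.1 t ht ht0))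
  have hsup : finrank (ZMod 2) (E.S s ⊔ E.S t : Submodule (ZMod 2) V) = E.rk + 1 := by
    have := Submodule.finrank_sup_add_finrank_inf_eq (E.S s) (E.S t)
    rw [hinf, hA.finrank_S hs0, hA.finrank_S ht0] at this
    have := hR.2.1
    omega
  have hSs := ((hA.mem_L hd hκ).1 hs).resolve_left hs0
  have hSt := ((hA.mem_L hd hκ).1 ht).resolve_left ht0
  obtain ⟨y, hy⟩ := E.flip.exists_form_eq_one hκ
  have hy1 : E.form y κ = 1 := hy
  have hy0 : y ≠ 0 := fun e => by simp [e] at hy1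
  have hnot : ∀ {v w : V}, w ∈ E.L κ → w ≠ 0 → E.form v κ = 1 → v ∉ E.S w := fun {v w} hw hw0 hv hc => by
    have := E.mem_perp_singleton.1 (((hA.mem_L hd hκ).1 hw).resolve_left hw0 hc)
    rw [hv] at this
    exact one_ne_zero this
  have hsum : ∀ {w : V}, w ∈ E.L κ → E.form (y + w) κ = 1 := fun {w} hw => by
    rw [map_add, LinearMap.add_apply, hy1, E.mem_perp_singleton.1 (hA.L_le_perp hd hκ hw),
      add_zero]
  have hne : ∀ {w : V}, w ∈ E.L κ → y + w ≠ 0 := fun {w} hw e => by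
    have := hsum hw
    simp [e] at this
  let P : V → Submodule (ZMod 2) V' := fun v => E.flip.perp (E.S v : Set V)
  have hgraph : ∀ {w : V}, w ∈ E.L κ → w ≠ 0 → P (y + w) ≤ P y ⊔ P w := fun {w} hw hw0 => by
    rw [← perp_inf]
    exact E.flip.perp_anti (hA.inf_le_S_add hd hy0 hw0 (hne hw))
  have hvan : ∀ {w : V}, w ∈ E.L κ → w ≠ 0 → ∀ φ ∈ P w, ∀ z ∈ E.L κ, E.form z φ = 0 :=
    fun {w} hw hw0 φ hφ z hz => hφ z (hA.L_clique hd (by have := T.low; omega) hκ hw hw0 hz)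
  have hdis : ∀ {v w : V}, v ≠ 0 → w ∉ E.S v → ∀ φ ∈ P v, φ ∈ P w → φ = 0 := fun {v w} hv hw φ h1 h2 => by
    refine E.right_sep φ fun x => ?_
    have hx : x ∈ E.S v ⊔ E.S w := by
      rw [hA.S_sup hd (by have := T.low; omega) hv hw]; trivial
    obtain ⟨a, ha, b, hb, rfl⟩ := Submodule.mem_sup.1 hx
    have e1 : E.form a φ = 0 := h1 a ha
    have e2 : E.form b φ = 0 := h2 b hb
    rw [map_add, LinearMap.add_apply, e1, e2, add_zero]
  have hu : κ ∈ P (y + s) ⊔ P (y + t) := by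
    rw [← perp_inf]
    have hst' : y + s + (y + t) = s + t := by
      rw [add_add_add_comm, add_self, zero_add]
    have h1 : E.S (y + s) ⊓ E.S (y + t) ≤ E.S (s + t) := by
      have := hA.inf_le_S_add hd (hne hs) (hne ht) (fun e => hst (add_eq_zero.1 (hst' ▸ e)))
      rwa [hst'] at this
    refine E.flip.perp_anti h1 fun x hx => ?_
    exact E.mem_perp_singleton.1
      (((hA.mem_L hd hκ).1 (add_mem hs ht)).resolve_left (fun e => hst (add_eq_zero.1 e)) hx)
  obtain ⟨e1, he1, e2, he2, hκe⟩ := Submodule.mem_sup.1 hu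
  obtain ⟨a, ha, a', ha', hae⟩ := Submodule.mem_sup.1 (hgraph hs hs0 he1)
  obtain ⟨b, hb, b', hb', hbe⟩ := Submodule.mem_sup.1 (hgraph ht ht0 he2)
  have hab : a = b := by
    refine add_eq_zero.1 (E.right_sep _ fun x => ?_)
    have hSL : E.S y ⊔ E.L κ = ⊤ := Submodule.eq_top_of_finrank_eq (by
      have h1 := Submodule.finrank_sup_add_finrank_inf_eq (E.S y) (E.L κ)
      rw [hA.S_inf_L hd hκ hy1, finrank_bot, add_zero, hA.finrank_S hy0] at h1
      have := T.finrank_L hκ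
      omega)
    obtain ⟨p, hp, z, hz, rfl⟩ := Submodule.mem_sup.1 (hSL.symm ▸ Submodule.mem_top : x ∈ E.S y ⊔ E.L κ)
    have e3 : E.form p (a + b) = 0 := (add_mem ha hb : a + b ∈ P y) p hp
    have e4 : E.form z κ = 0 := E.mem_perp_singleton.1 (hA.L_le_perp hd hκ hz)
    rw [← hκe, ← hae, ← hbe] at e4
    simp only [map_add, hvan hs hs0 a' ha' z hz, hvan ht ht0 b' hb' z hz, add_zero] at e4
    simp only [map_add, LinearMap.add_apply] at e3 ⊢
    linear_combination e3 + e4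
  have hκ2 : a' + b' = κ := by
    rw [← hκe, ← hae, ← hbe, hab, add_add_add_comm, add_self, zero_add]
  have hκs : κ ∈ P s := fun x hx => E.mem_perp_singleton.1 (hSs hx)
  have hκt : κ ∈ P t := fun x hx => E.mem_perp_singleton.1 (hSt hx)
  -- a component vanishing forces the whole element to vanish
  have hzero : ∀ {w : V}, w ∈ E.L κ → w ≠ 0 → ∀ p ∈ P y, ∀ q ∈ P w, p + q ∈ P (y + w) →
      (q = 0 → p = 0) ∧ (p = 0 → q = 0) := fun {w} hw hw0 p hp q hq hpq => by
    refine ⟨fun e => ?_, fun e => ?_⟩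
    · rw [e, add_zero] at hpq
      refine hdis hy0 (fun hc => ?_) p hp hpq
      have : w ∈ E.S y := by
        have := add_mem hc (hA.self_mem_S hd y)
        rwa [add_comm y w, add_assoc, add_self, add_zero] at this
      exact hnot hw hw0 hy1 (hA.mem_S_symm hd hw0 this)
    · rw [e, zero_add] at hpq
      exact hdis hw0 (hnot hw hw0 (hsum hw)) q hq hpq
  have h0a := hzero hs hs0 a ha a' ha' (hae.symm ▸ he1)
  have h0b := hzero ht ht0 b hb b' hb' (hbe.symm ▸ he2)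
  have ha0 : a' ≠ 0 := fun e => by
    have := h0b.2 (hab ▸ h0a.1 e)
    rw [e, this, add_zero] at hκ2
    exact hκ hκ2.symm
  have hb0 : a' ≠ κ := fun e => by
    have h1 : b' = 0 := by rw [e, add_eq_left] at hκ2; exact hκ2
    have := h0a.2 (hab.symm ▸ h0b.1 h1)
    exact ha0 this
  have hat : a' ∈ P t := by
    rw [add_eq_comm hκ2]; exact add_mem hκt hb'
  let M := E.flip.perp ((E.S s ⊔ E.S t : Submodule (ZMod 2) V) : Set V)
  have hM : ∀ φ, φ ∈ P s → φ ∈ P t → φ ∈ M := fun φ h1 h2 x hx => by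
    obtain ⟨p, hp, q, hq, rfl⟩ := Submodule.mem_sup.1 hx
    have e1 : E.form p φ = 0 := h1 p hp
    have e2 : E.form q φ = 0 := h2 q hq
    show E.form (p + q) φ = 0
    rw [map_add, LinearMap.add_apply, e1, e2, add_zero]
  have h1 : 2 ≤ finrank (ZMod 2) M := by
    by_contra hc
    have hl : M = line κ := eq_line (by omega) (hM κ hκs hκt) hκ
    rcases mem_line.1 (hl ▸ hM a' ha' hat) with e | e
    · exact ha0 e
    · exact hb0 e
  have h2 := E.flip.finrank_perp (E.S s ⊔ E.S t)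
  rw [hsup, ← E.finrank_eq] at h2
  have h3 : finrank (ZMod 2) M + (E.rk + 1) = finrank (ZMod 2) V := h2
  omega

/-- The common part does not change inside its annihilator. -/
theorem common_of_perp (T : E.Tight) {R : Submodule (ZMod 2) V} (hR : E.IsR R) {φ : V'}
    (hφ : φ ≠ 0) (hφR : R ≤ E.perp {φ}) : E.Common φ R := by
  obtain ⟨κ, hκ⟩ := hR
  by_cases he : φ = κ
  · exact he ▸ hκ
  have hd := T.two_le
  have hA := T.aft
  obtain ⟨R', hR'⟩ := T.common φ hφ
  set M := E.perp {κ} ⊓ E.perp {φ} with hM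
  have hMd : finrank (ZMod 2) V ≤ finrank (ZMod 2) M + 2 := by
    have h1 := Submodule.finrank_sup_add_finrank_inf_eq (E.perp {κ}) (E.perp {φ})
    have h2 := Submodule.finrank_le (E.perp {κ} ⊔ E.perp {φ})
    have := E.finrank_perp_singleton hκ.1
    have := E.finrank_perp_singleton hφ
    rw [hM]
    omega
  have hRM : R ≤ M := le_inf hκ.2.2.1 hφR
  have hget : ∀ x ∈ M, x ∉ R → ∃ z ∈ E.L κ, z ∈ E.L φ ∧ z ≠ 0 ∧ x ∈ E.S z := by
    intro x hx hxR
    obtain ⟨z, hz, hz0, hxz, -⟩ := hκ.2.2.2.2 x hx.1 hxR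
    refine ⟨z, hz, (hA.mem_L hd hφ).2 (Or.inr ?_), hz0, hxz⟩
    have hRz := hκ.2.2.2.1 z hz hz0
    have hdim := Submodule.finrank_sup_add_finrank_inf_eq R (line x)
    have hxx : finrank (ZMod 2) (line x) = 1 := finrank_line (fun e => hxR (e ▸ zero_mem _))
    have hi : R ⊓ line x = ⊥ := by
      rw [eq_bot_iff]
      rintro w ⟨hw, hw'⟩
      rcases mem_line.1 hw' with rfl | rfl
      · exact zero_mem _
      · exact (hxR hw).elim
    rw [hi, finrank_bot, add_zero, hxx] at hdim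
    rw [← Submodule.eq_of_le_of_finrank_le
      (sup_le hRz ((Submodule.span_singleton_le_iff_mem _ _).2 hxz))
      (by rw [hA.finrank_S hz0, hdim]; exact hκ.2.1.ge)]
    exact sup_le hφR ((Submodule.span_singleton_le_iff_mem _ _).2 hx.2)
  obtain ⟨x, hx, hxR⟩ : ∃ x ∈ M, x ∉ R := by
    by_contra hc
    simp only [not_exists, not_and, not_not] at hc
    have := Submodule.finrank_mono (show M ≤ R from hc)
    have := hκ.2.1
    have := T.high_three
    omega
  obtain ⟨z, hz, hz', hz0, hxz⟩ := hget x hx hxR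
  obtain ⟨x', hx', hxz'⟩ : ∃ x' ∈ M, x' ∉ E.S z := by
    by_contra hc
    simp only [not_exists, not_and, not_not] at hc
    have := Submodule.finrank_mono (show M ≤ E.S z from hc)
    rw [hA.finrank_S hz0] at this
    have := T.high_three
    omega
  obtain ⟨w, hw, hw', hw0, hxw⟩ := hget x' hx' fun hc => hxz' (hκ.2.2.2.1 z hz hz0 hc)
  have hne : z ≠ w := fun e => hxz' (e ▸ hxw)
  have e1 : R ≤ R' := (le_inf (hκ.2.2.2.1 z hz hz0) (hκ.2.2.2.1 w hw hw0)).trans
    (hR'.inf_le hA hd hz' hz0 hw' hw0 hne)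
  rw [Submodule.eq_of_le_of_finrank_le e1 (by have := hκ.2.1; have := hR'.2.1; omega)]
  exact hR'

theorem exists_R (T : E.Tight) {z : V} (hz : z ≠ 0) : ∃ R, E.IsR R ∧ R ≤ E.S z := by
  obtain ⟨φ, hφ, hφ0⟩ := exists_ne_zero (M := E.flip.perp (E.S z : Set V)) (by
    have h1 := E.flip.finrank_perp (E.S z)
    rw [T.aft.finrank_S hz, ← E.finrank_eq] at h1
    have := T.high
    omega)
  obtain ⟨R, hR⟩ := T.common φ hφ0
  exact ⟨R, ⟨φ, hR⟩, hR.2.2.2.1 z
    ((T.aft.mem_L T.two_le hφ0).2 (Or.inr fun x hx => E.mem_perp_singleton.2 (hφ x hx))) hz⟩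

theorem R_unique (T : E.Tight) {z : V} (hz : z ≠ 0) {R R' : Submodule (ZMod 2) V} (hR : E.IsR R)
    (hR' : E.IsR R') (h : R ≤ E.S z) (h' : R' ≤ E.S z) : R = R' := by
  have hd := T.two_le
  obtain ⟨φ, hφ, hφ0⟩ := exists_ne_zero (M := E.flip.perp (E.S z : Set V)) (by
    have h1 := E.flip.finrank_perp (E.S z)
    rw [T.aft.finrank_S hz, ← E.finrank_eq] at h1
    have := T.high
    omega)
  have hS : E.S z ≤ E.perp {φ} := fun x hx => E.mem_perp_singleton.2 (hφ x hx)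
  have c1 := T.common_of_perp hR hφ0 (h.trans hS)
  have c2 := T.common_of_perp hR' hφ0 (h'.trans hS)
  obtain ⟨a, b, ha, hb, ha0, hb0, hab⟩ := T.exists_pair (M := E.L φ)
    (by have := T.finrank_L hφ0; have := T.high; omega)
  refine le_antisymm ?_ ?_
  · exact (le_inf (c1.2.2.2.1 a ha ha0) (c1.2.2.2.1 b hb hb0)).trans
      (c2.inf_le T.aft hd ha ha0 hb hb0 hab)
  · exact (le_inf (c2.2.2.2.1 a ha ha0) (c2.2.2.2.1 b hb hb0)).trans
      (c1.inf_le T.aft hd ha ha0 hb hb0 hab)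

theorem mem_Lam (T : E.Tight) {R : Submodule (ZMod 2) V} {z : V} (hz : z ≠ 0) :
    z ∈ E.Lam R ↔ R ≤ E.S z := by
  simp only [Pairing.Lam, Submodule.mem_iInf, SetLike.mem_coe]
  constructor
  · exact fun h x hx => T.aft.mem_S_symm T.two_le hz (h x hx)
  · intro h x hx
    by_cases hx0 : x = 0
    · subst hx0
      exact fun κ hκ => absurd rfl hκ.1
    · exact T.aft.mem_S_symm T.two_le hx0 (h hx)

/-- Two members of a block lie in a common `L φ`. -/
theorem exists_both (T : E.Tight) {R : Submodule (ZMod 2) V} (hR : E.IsR R) {z z' : V}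
    (hz : z ∈ E.Lam R) (hz0 : z ≠ 0) (hz' : z' ∈ E.Lam R) (hz0' : z' ≠ 0) :
    ∃ φ, E.Common φ R ∧ z ∈ E.L φ ∧ z' ∈ E.L φ ∧
      E.S z ⊔ E.S z' ≤ E.perp {φ} := by
  have hRz := (T.mem_Lam hz0).1 hz
  have hRz' := (T.mem_Lam hz0').1 hz'
  obtain ⟨φ, hφ, hφ0⟩ := exists_ne_zero
    (M := E.flip.perp ((E.S z ⊔ E.S z' : Submodule (ZMod 2) V) : Set V)) (by
      have h1 := E.flip.finrank_perp (E.S z ⊔ E.S z')
      have h2 := Submodule.finrank_sup_add_finrank_inf_eq (E.S z) (E.S z')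
      have h3 := Submodule.finrank_mono (le_inf hRz hRz')
      rw [T.aft.finrank_S hz0, T.aft.finrank_S hz0'] at h2
      rw [← E.finrank_eq] at h1
      obtain ⟨ψ, hψ⟩ := hR
      have := hψ.2.1
      have := T.high
      omega)
  have hle : E.S z ⊔ E.S z' ≤ E.perp {φ} := fun x hx => E.mem_perp_singleton.2 (hφ x hx)
  exact ⟨φ, T.common_of_perp hR hφ0 (hRz.trans (le_sup_left.trans hle)),
    (T.aft.mem_L T.two_le hφ0).2 (Or.inr (le_sup_left.trans hle)),
    (T.aft.mem_L T.two_le hφ0).2 (Or.inr (le_sup_right.trans hle)), hle⟩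

theorem matched_unique (T : E.Tight) {R : Submodule (ZMod 2) V} (hR : E.IsR R) {z z' x : V}
    (hz : z ∈ E.Lam R) (hz0 : z ≠ 0) (hz' : z' ∈ E.Lam R) (hz0' : z' ≠ 0) (hx : x ∉ R)
    (h : x ∈ E.S z) (h' : x ∈ E.S z') : z = z' := by
  by_contra hne
  obtain ⟨φ, hφ, hzφ, hzφ', -⟩ := T.exists_both hR hz hz0 hz' hz0'
  exact hx (hφ.inf_le T.aft T.two_le hzφ hz0 hzφ' hz0' hne ⟨h, h'⟩)

theorem exists_matched (T : E.Tight) {R : Submodule (ZMod 2) V} (hR : E.IsR R) {x : V}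
    (hx : x ∉ R) : ∃ z ∈ E.Lam R, z ≠ 0 ∧ x ∈ E.S z := by
  obtain ⟨φ, hφ, hφ0⟩ := exists_ne_zero
    (M := E.flip.perp ((R ⊔ line x : Submodule (ZMod 2) V) : Set V)) (by
      have h1 := E.flip.finrank_perp (R ⊔ line x)
      have h2 := Submodule.finrank_add_le_finrank_add_finrank R (line x)
      have h3 : finrank (ZMod 2) (line x) = 1 := finrank_line (fun e => hx (e ▸ zero_mem _))
      rw [← E.finrank_eq] at h1
      obtain ⟨ψ, hψ⟩ := hR
      have := hψ.2.1
      have := T.high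
      omega)
  have hle : R ⊔ line x ≤ E.perp {φ} := fun v hv => E.mem_perp_singleton.2 (hφ v hv)
  have hc := T.common_of_perp hR hφ0 (le_sup_left.trans hle)
  obtain ⟨z, hz, hz0, hxz, -⟩ := hc.2.2.2.2 x
    (hle (Submodule.mem_sup_right (Submodule.mem_span_singleton_self x))) hx
  exact ⟨z, (T.mem_Lam hz0).2 (hc.2.2.2.1 z hz hz0), hz0, hxz⟩

theorem S_eq (T : E.Tight) {R : Submodule (ZMod 2) V} (hR : E.IsR R) {z x : V}
    (hz : z ∈ E.Lam R) (hz0 : z ≠ 0) (hx : x ∉ R) (h : x ∈ E.S z) : R ⊔ line x = E.S z := by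
  obtain ⟨ψ, hψ⟩ := hR
  refine Submodule.eq_of_le_of_finrank_le
    (sup_le ((T.mem_Lam hz0).1 hz) ((Submodule.span_singleton_le_iff_mem _ _).2 h)) ?_
  rw [T.aft.finrank_S hz0]
  have h1 : R < R ⊔ line x := lt_of_le_of_ne le_sup_left fun e =>
    hx (e ▸ Submodule.mem_sup_right (Submodule.mem_span_singleton_self x))
  have := Submodule.finrank_lt_finrank_of_lt h1
  have := hψ.2.1
  omega

theorem finrank_Lam (T : E.Tight) {R : Submodule (ZMod 2) V} (hR : E.IsR R) :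
    finrank (ZMod 2) (E.Lam R) + finrank (ZMod 2) R = finrank (ZMod 2) V := by
  classical
  let _ := Fintype.ofFinite V
  obtain ⟨κ, hκ⟩ := hR
  have hR : E.IsR R := ⟨κ, hκ⟩
  let s : Finset V := Finset.univ.filter fun z => z ∈ E.Lam R ∧ z ≠ 0
  let t : Finset V := Finset.univ.filter fun x => x ∉ R
  have ha : ∀ z ∈ s, (Finset.bipartiteAbove (fun z x => x ∈ E.S z) t z).card =
      2 ^ finrank (ZMod 2) R := by
    intro z hz
    simp only [s, Finset.mem_filter, Finset.mem_univ, true_and] at hz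
    have hRz := (T.mem_Lam hz.2).1 hz.1
    have h1 : ((E.S z : Set V) \ R).ncard = 2 ^ finrank (ZMod 2) R := by
      rw [Set.ncard_diff hRz, ncard_submodule, ncard_submodule, T.aft.finrank_S hz.2, ← hκ.2.1,
        pow_succ]
      omega
    rw [← h1, ← Set.ncard_coe_finset]
    congr 1
    ext x
    simp [t, and_comm]
  have hb : ∀ x ∈ t, (Finset.bipartiteBelow (fun z x => x ∈ E.S z) s x).card = 1 := by
    intro x hx
    simp only [t, Finset.mem_filter, Finset.mem_univ, true_and] at hx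
    obtain ⟨z, hz, hz0, hxz⟩ := T.exists_matched hR hx
    refine Finset.card_eq_one.2 ⟨z, ?_⟩
    ext w
    simp only [Finset.mem_bipartiteBelow, s, Finset.mem_filter, Finset.mem_univ, true_and,
      Finset.mem_singleton]
    exact ⟨fun hw => T.matched_unique hR hw.1.1 hw.1.2 hz hz0 hx hw.2 hxz,
      fun e => e ▸ ⟨⟨hz, hz0⟩, hxz⟩⟩
  have h := Finset.card_mul_eq_card_mul _ ha hb
  have hs : s.card = 2 ^ finrank (ZMod 2) (E.Lam R) - 1 := by
    rw [← ncard_nonzero, ← Set.ncard_coe_finset]; congr 1; ext z; simp [s]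
  have ht : t.card = 2 ^ finrank (ZMod 2) V - 2 ^ finrank (ZMod 2) R := by
    rw [← ncard_compl_submodule, ← Set.ncard_coe_finset]; simp [t]
  rw [hs, ht, mul_one, Nat.sub_one_mul] at h
  have h1 : 2 ^ finrank (ZMod 2) R ≤ 2 ^ finrank (ZMod 2) V :=
    Nat.pow_le_pow_right two_pos (Submodule.finrank_le R)
  have h2 : 2 ^ finrank (ZMod 2) R ≤ 2 ^ finrank (ZMod 2) (E.Lam R) * 2 ^ finrank (ZMod 2) R :=
    Nat.le_mul_of_pos_left _ (Nat.two_pow_pos _)
  have h3 : 2 ^ finrank (ZMod 2) (E.Lam R) * 2 ^ finrank (ZMod 2) R = 2 ^ finrank (ZMod 2) V := by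
    omega
  rw [← pow_add] at h3
  exact Nat.pow_right_injective le_rfl h3

theorem four_le_Lam (T : E.Tight) {R : Submodule (ZMod 2) V} (hR : E.IsR R) :
    4 ≤ finrank (ZMod 2) (E.Lam R) := by
  have := T.finrank_Lam hR
  obtain ⟨κ, hκ⟩ := hR
  have := hκ.2.1
  have := T.high_three
  omega

/-- The matching with a block is additive. -/
theorem matched_add (T : E.Tight) {R : Submodule (ZMod 2) V} (hR : E.IsR R) {z z' x x' : V}
    (hz : z ∈ E.Lam R) (hz0 : z ≠ 0) (hz' : z' ∈ E.Lam R) (hz0' : z' ≠ 0) (hne : z ≠ z')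
    (hx : x ∉ R) (hx' : x' ∉ R) (h : x ∈ E.S z) (h' : x' ∈ E.S z') :
    x + x' ∈ E.S (z + z') := by
  have hA := T.aft
  have hd := T.two_le
  have hsum : z + z' ∈ E.Lam R := add_mem hz hz'
  have hsum0 : z + z' ≠ 0 := fun e => hne (add_eq_zero.1 e)
  have hsub : E.S (z + z') ≤ E.S z ⊔ E.S z' := by
    intro v hv
    rw [← E.perp_perp (E.S z ⊔ E.S z')]
    intro φ hφ
    by_cases hφ0 : φ = 0
    · simp [hφ0]
    have hle : E.S z ⊔ E.S z' ≤ E.perp {φ} := fun w hw => E.mem_perp_singleton.2 (hφ w hw)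
    have hm : z + z' ∈ E.L φ := add_mem
      ((hA.mem_L hd hφ0).2 (Or.inr (le_sup_left.trans hle)))
      ((hA.mem_L hd hφ0).2 (Or.inr (le_sup_right.trans hle)))
    exact E.mem_perp_singleton.1 (((hA.mem_L hd hφ0).1 hm).resolve_left hsum0 hv)
  have hRs := (T.mem_Lam hsum0).1 hsum
  obtain ⟨v, hv, hvR⟩ : ∃ v ∈ E.S (z + z'), v ∉ R := by
    by_contra hc
    simp only [not_exists, not_and, not_not] at hc
    have := Submodule.finrank_mono (show E.S (z + z') ≤ R from hc)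
    rw [hA.finrank_S hsum0] at this
    obtain ⟨κ, hκ⟩ := hR
    have := hκ.2.1
    omega
  obtain ⟨a, ha, b, hb, hab⟩ := Submodule.mem_sup.1 (hsub hv)
  rw [← T.S_eq hR hz hz0 hx h] at ha
  rw [← T.S_eq hR hz' hz0' hx' h'] at hb
  obtain ⟨r, hr, p, hp, rfl⟩ := Submodule.mem_sup.1 ha
  obtain ⟨r', hr', q, hq, rfl⟩ := Submodule.mem_sup.1 hb
  have hpq : p + q ∈ E.S (z + z') := by
    have : p + q = v - (r + r') := by rw [← hab]; abel
    rw [this]
    exact sub_mem hv (hRs (add_mem hr hr'))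
  have hpqR : p + q ∉ R := fun hc => hvR (by
    have : v = (r + r') + (p + q) := by rw [← hab]; abel
    rw [this]
    exact add_mem (add_mem hr hr') hc)
  rcases mem_line.1 hp with rfl | rfl <;> rcases mem_line.1 hq with rfl | rfl
  · exact absurd (by simp : (0 : V) + 0 ∈ R) hpqR
  · rw [zero_add] at hpq
    have := T.matched_unique hR hsum hsum0 hz' hz0' hx' hpq h'
    exact absurd (add_eq_right.1 this) hz0
  · rw [add_zero] at hpq
    have := T.matched_unique hR hsum hsum0 hz hz0 hx hpq h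
    exact absurd (add_eq_left.1 this) hz0'
  · exact hpq

theorem Lam_le (T : E.Tight) {R : Submodule (ZMod 2) V} (hR : E.IsR R) : E.Lam R ≤ R := by
  have hadj : ∀ z ∈ E.Lam R, z ≠ 0 → E.Lam R ≤ E.S z := by
    intro z hz hz0 w hw
    by_cases hw0 : w = 0
    · rw [hw0]; exact zero_mem _
    obtain ⟨φ, hφ, hzφ, hwφ, -⟩ := T.exists_both hR hz hz0 hw hw0
    exact T.aft.L_clique T.two_le (by have := T.low; omega) hφ.1 hzφ hz0 hwφ
  obtain ⟨z, z', hz, hz', hz0, hz0', hne⟩ := T.exists_pair (M := E.Lam R)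
    (by have := T.four_le_Lam hR; omega)
  obtain ⟨φ, hφ, hzφ, hzφ', -⟩ := T.exists_both hR hz hz0 hz' hz0'
  exact (le_inf (hadj z hz hz0) (hadj z' hz' hz0')).trans
    (hφ.inf_le T.aft T.two_le hzφ hz0 hzφ' hz0' hne)

theorem R_eq_of_mem (T : E.Tight) {z : V} (hz : z ≠ 0) {R R' : Submodule (ZMod 2) V}
    (hR : E.IsR R) (hR' : E.IsR R') (h : z ∈ E.Lam R) (h' : z ∈ E.Lam R') : R = R' :=
  T.R_unique hz hR hR' ((T.mem_Lam hz).1 h) ((T.mem_Lam hz).1 h')

/-- A block meeting the common part of another lies in it, and conversely. -/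
theorem pair_le (T : E.Tight) {R Q : Submodule (ZMod 2) V} (hR : E.IsR R) (hQ : E.IsR Q)
    (h : E.Lam Q ⊓ R ≠ ⊥) : E.Lam Q ≤ R ∧ E.Lam R ≤ Q := by
  have hd := T.two_le
  have hA := T.aft
  have step : ∀ {A B : Submodule (ZMod 2) V}, E.IsR A → E.IsR B → E.Lam B ⊓ A ≠ ⊥ →
      3 ≤ finrank (ZMod 2) (E.Lam A ⊓ B : Submodule (ZMod 2) V) := by
    intro A B hA' hB hne
    obtain ⟨y, hy, hy0⟩ := Submodule.exists_mem_ne_zero_of_ne_bot hne
    have hle : E.Lam A ≤ E.S y := fun z hz => by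
      by_cases hz0 : z = 0
      · rw [hz0]; exact zero_mem _
      · exact hA.mem_S_symm hd hy0 ((T.mem_Lam hz0).1 hz hy.2)
    have hBy := (T.mem_Lam hy0).1 hy.1
    have h1 := Submodule.finrank_sup_add_finrank_inf_eq (E.Lam A) B
    have h2 := Submodule.finrank_mono (sup_le hle hBy)
    rw [hA.finrank_S hy0] at h2
    obtain ⟨κ, hκ⟩ := hB
    have := hκ.2.1
    have := T.four_le_Lam hA'
    omega
  have h3 := step hR hQ h
  have hYR : E.Lam Q ≤ R := by
    intro y hy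
    by_contra hyR
    have hy0 : y ≠ 0 := fun e => hyR (e ▸ zero_mem _)
    obtain ⟨a, b, ha, hb, ha0, hb0, hab⟩ := T.exists_pair
      (M := E.Lam R ⊓ Q) (by omega)
    have hQy := (T.mem_Lam hy0).1 hy
    exact hab (T.matched_unique hR ha.1 ha0 hb.1 hb0 hyR (hA.mem_S_symm hd ha0 (hQy ha.2))
      (hA.mem_S_symm hd hb0 (hQy hb.2)))
  refine ⟨hYR, fun z hz => ?_⟩
  by_cases hz0 : z = 0
  · rw [hz0]; exact zero_mem _
  obtain ⟨a, b, ha, hb, ha0, hb0, hab⟩ := T.exists_pair (M := E.Lam Q)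
    (by have := T.four_le_Lam hQ; omega)
  have hmem : ∀ c ∈ E.Lam Q, c ≠ 0 → z ∈ E.S c := fun c hc hc0 =>
    hA.mem_S_symm hd hc0 ((T.mem_Lam hz0).1 hz (hYR hc))
  obtain ⟨φ, hφ, haφ, hbφ, -⟩ := T.exists_both hQ ha ha0 hb hb0
  exact hφ.inf_le hA hd haφ ha0 hbφ hb0 hab ⟨hmem a ha ha0, hmem b hb hb0⟩

theorem pair_bot (T : E.Tight) {R Q : Submodule (ZMod 2) V} (hR : E.IsR R) (hQ : E.IsR Q)
    (h : E.Lam Q ⊓ R = ⊥) : E.Lam R ⊓ Q = ⊥ := by
  by_contra hne
  have h1 := (T.pair_le hQ hR hne).2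
  rw [inf_eq_left.2 h1] at h
  have := T.four_le_Lam hQ
  rw [h, finrank_bot] at this
  omega

/-- The matching with a block, as a linear map. -/
theorem exists_matching (T : E.Tight) {R : Submodule (ZMod 2) V} (hR : E.IsR R)
    (Y : Submodule (ZMod 2) V) (hY : Y ⊓ R = ⊥) :
    ∃ θ : Y →ₗ[ZMod 2] V, (∀ y, θ y ∈ E.Lam R) ∧
      ∀ y : Y, y ≠ 0 → θ y ≠ 0 ∧ (y : V) ∈ E.S (θ y) := by
  classical
  have hnot : ∀ y : Y, y ≠ 0 → (y : V) ∉ R := fun y hy hc => hy (Subtype.ext (by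
    have : (y : V) ∈ Y ⊓ R := ⟨y.2, hc⟩
    rw [hY] at this
    exact (Submodule.mem_bot _).1 this))
  let f : Y → V := fun y =>
    if hy : (y : V) ∈ R then 0 else (T.exists_matched hR hy).choose
  have hf : ∀ y : Y, y ≠ 0 → f y ∈ E.Lam R ∧ f y ≠ 0 ∧ (y : V) ∈ E.S (f y) := fun y hy => by
    simp only [f, dif_neg (hnot y hy)]
    exact (T.exists_matched hR (hnot y hy)).choose_spec
  have hf0 : f 0 = 0 := by simp [f]
  have hadd : ∀ a b : Y, f (a + b) = f a + f b := by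
    intro a b
    by_cases ha : a = 0
    · rw [ha, zero_add, hf0, zero_add]
    by_cases hb : b = 0
    · rw [hb, add_zero, hf0, add_zero]
    by_cases hab : a = b
    · rw [hab, add_self, hf0, add_self]
    obtain ⟨a1, a2, a3⟩ := hf a ha
    obtain ⟨b1, b2, b3⟩ := hf b hb
    have hne : f a ≠ f b := fun e => by
      have hS := T.S_eq hR a1 a2 (hnot a ha) a3
      rw [← e] at b3
      rw [← hS] at b3
      obtain ⟨r, hr, p, hp, he⟩ := Submodule.mem_sup.1 b3
      rcases mem_line.1 hp with rfl | rfl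
      · exact hnot b hb (by rw [← he, add_zero]; exact hr)
      · refine hnot (a + b) (fun e' => hab (add_eq_zero.1 e')) ?_
        rw [Submodule.coe_add, ← he, add_comm, add_assoc, add_self, add_zero]
        exact hr
    have hne0 : a + b ≠ 0 := fun e' => hab (add_eq_zero.1 e')
    obtain ⟨c1, c2, c3⟩ := hf (a + b) hne0
    exact T.matched_unique hR c1 c2 (add_mem a1 b1) (fun e => hne (add_eq_zero.1 e))
      (hnot _ hne0) c3 (T.matched_add hR a1 a2 b1 b2 hne (hnot a ha) (hnot b hb) a3 b3)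
  refine ⟨(AddMonoidHom.mk' f hadd).toZModLinearMap 2, fun y => ?_,
    fun y hy => (hf y hy).2⟩
  by_cases hy : y = 0
  · show f y ∈ _
    rw [hy, hf0]; exact zero_mem _
  · exact (hf y hy).1

/-- The sum of two unrelated blocks is a union of blocks. -/
theorem Lam_le_sup (T : E.Tight) {R R' Q : Submodule (ZMod 2) V} (hR : E.IsR R) (hR' : E.IsR R')
    (hQ : E.IsR Q) {v : V} (hv0 : v ≠ 0) (hv : v ∈ E.Lam R ⊔ E.Lam R') (hvQ : v ∈ E.Lam Q) :
    E.Lam Q ≤ E.Lam R ⊔ E.Lam R' := by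
  intro x hx
  rw [← E.perp_perp (E.Lam R ⊔ E.Lam R')]
  intro φ hφ
  by_cases hφ0 : φ = 0
  · simp [hφ0]
  have hle : E.Lam R ⊔ E.Lam R' ≤ E.perp {φ} := fun w hw => E.mem_perp_singleton.2 (hφ w hw)
  obtain ⟨Q₀, hQ₀⟩ := T.common φ hφ0
  have key : ∀ {A : Submodule (ZMod 2) V}, E.IsR A → E.Lam A ≤ E.perp {φ} → E.Lam A ≤ Q₀ := by
    intro A hA hAφ
    refine (T.pair_le ⟨φ, hQ₀⟩ hA fun hbot => ?_).1
    have h1 := Submodule.finrank_sup_add_finrank_inf_eq (E.Lam A) Q₀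
    rw [hbot, finrank_bot, add_zero] at h1
    have h2 := Submodule.finrank_mono (sup_le hAφ hQ₀.2.2.1)
    have h3 := T.finrank_Lam hA
    have h4 := E.finrank_perp_singleton hφ0
    obtain ⟨κ, hκ⟩ := hA
    have := hκ.2.1
    have := hQ₀.2.1
    omega
  have hvQ₀ : v ∈ Q₀ :=
    sup_le (key hR (le_sup_left.trans hle)) (key hR' (le_sup_right.trans hle)) hv
  have h5 := (T.pair_le ⟨φ, hQ₀⟩ hQ (fun hbot => by
    have : v ∈ E.Lam Q ⊓ Q₀ := ⟨hvQ, hvQ₀⟩
    rw [hbot] at this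
    exact hv0 ((Submodule.mem_bot _).1 this))).1
  exact E.mem_perp_singleton.1 (hQ₀.2.2.1 (h5 hx))

theorem absurd' (T : E.Tight) : False := by
  classical
  have hd := T.two_le
  have hA := T.aft
  obtain ⟨v₀, -, hv₀⟩ := exists_ne_zero (M := (⊤ : Submodule (ZMod 2) V))
    (by rw [finrank_top]; omega)
  obtain ⟨R, hR, -⟩ := T.exists_R hv₀
  obtain ⟨y₀, hy₀R⟩ := exists_not_mem (M := R) (by
    obtain ⟨κ, hκ⟩ := hR
    have := hκ.2.1; have := T.high; omega)
  have hy₀0 : y₀ ≠ 0 := fun e => hy₀R (e ▸ zero_mem _)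
  obtain ⟨R', hR', hy₀R'⟩ := T.exists_R hy₀0
  have hy₀Y : y₀ ∈ E.Lam R' := (T.mem_Lam hy₀0).2 hy₀R'
  have hYR : E.Lam R' ⊓ R = ⊥ := by
    by_contra hne
    exact hy₀R ((T.pair_le hR hR' hne).1 hy₀Y)
  have hZR' : E.Lam R ⊓ R' = ⊥ := T.pair_bot hR hR' hYR
  obtain ⟨θ, hθZ, hθ⟩ := T.exists_matching hR (E.Lam R') hYR
  obtain ⟨η, hηY, hη⟩ := T.exists_matching hR' (E.Lam R) hZR'
  have hηθ : ∀ y : E.Lam R', η ⟨θ y, hθZ y⟩ = y := by
    intro y
    by_cases hy : y = 0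
    · subst hy
      rw [show (⟨θ 0, hθZ 0⟩ : E.Lam R) = 0 from Subtype.ext (map_zero θ), map_zero]; rfl
    obtain ⟨h1, h2⟩ := hθ y hy
    have hz0 : (⟨θ y, hθZ y⟩ : E.Lam R) ≠ 0 := fun e => h1 (congrArg Subtype.val e)
    obtain ⟨h3, h4⟩ := hη _ hz0
    have hy0' : (y : V) ≠ 0 := fun e => hy (Subtype.ext e)
    refine T.matched_unique hR' (hηY _) h3 y.2 hy0' (x := θ y) ?_ h4 (hA.mem_S_symm hd hy0' h2)
    intro hc
    have : θ y ∈ E.Lam R ⊓ R' := ⟨hθZ y, hc⟩
    rw [hZR'] at this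
    exact h1 ((Submodule.mem_bot _).1 this)
  have hZY : E.Lam R ⊓ E.Lam R' = ⊥ := by
    rw [eq_bot_iff, ← hYR]
    exact le_inf inf_le_right (inf_le_left.trans (T.Lam_le hR))
  let W := E.Lam R ⊔ E.Lam R'
  let f := finrank (ZMod 2) (E.Lam R)
  have hWd : finrank (ZMod 2) W = f + finrank (ZMod 2) (E.Lam R') := by
    have h := Submodule.finrank_sup_add_finrank_inf_eq (E.Lam R) (E.Lam R')
    rw [hZY, finrank_bot, add_zero] at h
    exact h
  have hf' : ∀ {Q : Submodule (ZMod 2) V}, E.IsR Q → finrank (ZMod 2) (E.Lam Q) = f := by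
    intro Q hQ
    have h1 := T.finrank_Lam hQ
    have h2 := T.finrank_Lam hR
    obtain ⟨κ, hκ⟩ := hQ
    obtain ⟨κ', hκ'⟩ := hR
    have := hκ.2.1
    have := hκ'.2.1
    show _ = finrank (ZMod 2) (E.Lam R)
    omega
  let D₀ : E.Lam R' →ₗ[ZMod 2] V := θ + (E.Lam R').subtype
  -- each of the other blocks of the sum carries three diagonal vectors
  have main : ∀ z ∈ E.Lam R, z ≠ 0 → ∃ Q, E.IsR Q ∧ z + y₀ ∈ E.Lam Q ∧
      E.Lam Q ⊓ E.Lam R = ⊥ ∧ 2 ≤ finrank (ZMod 2) ((E.Lam Q).comap D₀) := by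
    intro z hz hz0
    have hv : z + y₀ ≠ 0 := fun e => hy₀R (T.Lam_le hR (add_eq_zero.1 e ▸ hz))
    obtain ⟨Q, hQ, hvQ'⟩ := T.exists_R hv
    have hvQ : z + y₀ ∈ E.Lam Q := (T.mem_Lam hv).2 hvQ'
    have hvW : z + y₀ ∈ W := Submodule.add_mem_sup hz hy₀Y
    have hXW : E.Lam Q ≤ W := T.Lam_le_sup hR hR' hQ hv hvW hvQ
    have hXR : E.Lam Q ⊓ R = ⊥ := by
      by_contra hne
      refine hy₀R ?_
      have := sub_mem ((T.pair_le hR hQ hne).1 hvQ) (T.Lam_le hR hz)
      rwa [add_sub_cancel_left] at this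
    have hXR' : E.Lam Q ⊓ R' = ⊥ := by
      by_contra hne
      have h1 := sub_mem ((T.pair_le hR' hQ hne).1 hvQ) (T.Lam_le hR' hy₀Y)
      rw [add_sub_cancel_right] at h1
      have : z ∈ E.Lam R ⊓ R' := ⟨hz, h1⟩
      rw [hZR'] at this
      exact hz0 ((Submodule.mem_bot _).1 this)
    have hXZ : E.Lam Q ⊓ E.Lam R = ⊥ := by
      rw [eq_bot_iff, ← hXR]; exact inf_le_inf_left _ (T.Lam_le hR)
    have hZQ : E.Lam R ⊓ Q = ⊥ := T.pair_bot hR hQ hXR
    have hYQ : E.Lam R' ⊓ Q = ⊥ := T.pair_bot hR' hQ hXR'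
    have hXY : E.Lam Q ⊓ E.Lam R' = ⊥ := by
      rw [eq_bot_iff, ← hXR']; exact inf_le_inf_left _ (T.Lam_le hR')
    have hsup : E.Lam R ⊔ E.Lam Q = W := by
      refine Submodule.eq_of_le_of_finrank_le (sup_le le_sup_left hXW) ?_
      have h := Submodule.finrank_sup_add_finrank_inf_eq (E.Lam R) (E.Lam Q)
      rw [inf_comm, hXZ, finrank_bot, add_zero] at h
      rw [h, hWd, hf' hQ, hf' hR']
    have hQW : ∀ q ∈ W, q ∈ Q → q ∈ E.Lam Q := by
      intro q hq hqQ
      rw [← hsup] at hq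
      obtain ⟨a, ha, x, hx, rfl⟩ := Submodule.mem_sup.1 hq
      have h1 : a ∈ E.Lam R ⊓ Q := ⟨ha, by
        have := sub_mem hqQ (T.Lam_le hQ hx)
        rwa [add_sub_cancel_right] at this⟩
      rw [hZQ, Submodule.mem_bot] at h1
      rw [h1, zero_add]
      exact hx
    have hex : ∀ y : E.Lam R', ∃ a : E.Lam R, (a : V) + y ∈ E.Lam Q := fun y => by
      have hy : (y : V) ∈ E.Lam R ⊔ E.Lam Q := by
        rw [hsup]; exact Submodule.mem_sup_right y.2
      obtain ⟨a, ha, x, hx, he⟩ := Submodule.mem_sup.1 hy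
      refine ⟨⟨a, ha⟩, ?_⟩
      show a + (y : V) ∈ _
      rw [← he, ← add_assoc, add_self, zero_add]
      exact hx
    choose α hα using hex
    have huniq : ∀ (a b : E.Lam R) (p : V), (a : V) + p ∈ E.Lam Q → (b : V) + p ∈ E.Lam Q → a = b := by
      intro a b p h1 h2
      have h3 : ((a + b : E.Lam R) : V) ∈ E.Lam Q ⊓ E.Lam R := ⟨by
        have := add_mem h1 h2
        rwa [add_add_add_comm, add_self, add_zero] at this, (a + b).2⟩
      rw [hXZ] at h3
      exact add_eq_zero.1 (Subtype.ext ((Submodule.mem_bot _).1 h3))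
    have hαadd : ∀ a b, α (a + b) = α a + α b := fun a b => huniq _ _ _ (hα _) (by
      have := add_mem (hα a) (hα b)
      rwa [add_add_add_comm] at this)
    let α' : E.Lam R' →ₗ[ZMod 2] E.Lam R := (AddMonoidHom.mk' α hαadd).toZModLinearMap 2
    let A : E.Lam R' →ₗ[ZMod 2] E.Lam R' := (η.codRestrict (E.Lam R') hηY).comp α'
    have hαθ : ∀ y, α (A y) = ⟨θ y, hθZ y⟩ := by
      intro y
      refine huniq _ _ _ (hα _) ?_
      show θ y + η (α y) ∈ E.Lam Q
      by_cases hy : y = 0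
      · subst hy
        rw [map_zero, show α 0 = 0 from α'.map_zero, map_zero, add_zero]
        exact zero_mem _
      have hy' : (y : V) ≠ 0 := fun e => hy (Subtype.ext e)
      obtain ⟨h1, h2⟩ := hθ y hy
      have hα0 : α y ≠ 0 := fun e => hy' (by
        have h3 : (y : V) ∈ E.Lam Q ⊓ E.Lam R' := ⟨by
          have := hα y
          rwa [e, ZeroMemClass.coe_zero, zero_add] at this, y.2⟩
        rw [hXY] at h3
        exact (Submodule.mem_bot _).1 h3)
      obtain ⟨h3, h4⟩ := hη _ hα0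
      set x := (α y : V) + y with hx
      have hx0 : x ≠ 0 := fun e => hy' (by
        have h5 : (y : V) ∈ E.Lam R ⊓ E.Lam R' := ⟨add_eq_zero.1 e ▸ (α y).2, y.2⟩
        rw [hZY] at h5
        exact (Submodule.mem_bot _).1 h5)
      have hQx := (T.mem_Lam hx0).1 (hα y)
      have h5 : θ y ∈ E.S x := hA.mem_S_symm hd hx0
        (add_mem ((T.mem_Lam h1).1 (hθZ y) (T.Lam_le hR (α y).2)) h2)
      have h6 : η (α y) ∈ E.S x := hA.mem_S_symm hd hx0
        (add_mem h4 ((T.mem_Lam h3).1 (hηY _) (T.Lam_le hR' y.2)))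
      have h7 : θ y ∉ Q := fun hc => h1 (by
        have h8 : θ y ∈ E.Lam R ⊓ Q := ⟨hθZ y, hc⟩
        rw [hZQ] at h8
        exact (Submodule.mem_bot _).1 h8)
      have h8 : η (α y) ∉ Q := fun hc => h3 (by
        have h9 : η (α y) ∈ E.Lam R' ⊓ Q := ⟨hηY _, hc⟩
        rw [hYQ] at h9
        exact (Submodule.mem_bot _).1 h9)
      refine hQW _ (Submodule.add_mem_sup (hθZ y) (hηY _)) ?_
      rw [← T.S_eq hQ (hα y) hx0 h7 h5] at h6
      obtain ⟨r, hr, p, hp, he⟩ := Submodule.mem_sup.1 h6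
      rcases mem_line.1 hp with e | e
      · rw [e, add_zero] at he
        exact absurd (he ▸ hr) h8
      · rw [← he, e, ← add_assoc, add_comm (θ y) r, add_assoc, add_self, add_zero]
        exact hr
    have hAA : ∀ y, A (A y) = y := fun y => Subtype.ext (by
      show η (α (A y)) = (y : V)
      rw [hαθ, hηθ])
    refine ⟨Q, hQ, hvQ, hXZ, ?_⟩
    set F := A + LinearMap.id with hF
    have hFF : LinearMap.range F ≤ LinearMap.ker F := by
      rintro _ ⟨y, rfl⟩
      simp only [LinearMap.mem_ker, hF, LinearMap.add_apply, LinearMap.id_coe, id_eq, map_add, hAA]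
      rw [add_comm y (A y)]
      exact add_self _
    have h1 := LinearMap.finrank_range_add_finrank_ker F
    have h2 := Submodule.finrank_mono hFF
    have hker : LinearMap.ker F ≤ (E.Lam Q).comap D₀ := fun y hy => by
      have hAy : A y = y := by
        simpa [hF, add_eq_zero] using LinearMap.mem_ker.1 hy
      show θ y + (y : V) ∈ E.Lam Q
      have := hα (A y)
      rw [hαθ, hAy] at this
      exact this
    have h3 := Submodule.finrank_mono hker
    have h4 := hf' hR'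
    have h5 := T.four_le_Lam hR
    have : finrank (ZMod 2) (E.Lam R) = f := rfl
    omega
  choose Q hQR hQmem hQZ hQd using main
  let _ := Fintype.ofFinite V
  let s : Finset V := Finset.univ.filter fun z => z ∈ E.Lam R ∧ z ≠ 0
  let t : Finset (E.Lam R') := Finset.univ.filter fun y => y ≠ 0
  let r : V → E.Lam R' → Prop := fun z y =>
    ∃ (hz : z ∈ E.Lam R) (hz0 : z ≠ 0), D₀ y ∈ E.Lam (Q z hz hz0)
  have hD0 : ∀ y : E.Lam R', y ≠ 0 → D₀ y ≠ 0 := fun y hy e => hy (Subtype.ext (by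
    have h5 : (y : V) ∈ E.Lam R ⊓ E.Lam R' :=
      ⟨by have e' : θ y = (y : V) := add_eq_zero.1 e; rw [← e']; exact hθZ y, y.2⟩
    rw [hZY] at h5
    exact (Submodule.mem_bot _).1 h5))
  have ha : ∀ z ∈ s, 3 ≤ (Finset.bipartiteAbove r t z).card := by
    intro z hz
    simp only [s, Finset.mem_filter, Finset.mem_univ, true_and] at hz
    obtain ⟨hz, hz0⟩ := hz
    have h1 : 3 ≤ (((E.Lam (Q z hz hz0)).comap D₀ : Set (E.Lam R')) \ {0}).ncard := by
      rw [ncard_nonzero]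
      have : 2 ^ 2 ≤ 2 ^ finrank (ZMod 2) ((E.Lam (Q z hz hz0)).comap D₀) :=
        Nat.pow_le_pow_right two_pos (hQd z hz hz0)
      omega
    refine h1.trans ?_
    rw [← Set.ncard_coe_finset]
    refine Set.ncard_le_ncard (fun y hy => ?_) (Set.toFinite _)
    simp only [Finset.coe_bipartiteAbove, t, Finset.mem_filter, Finset.mem_univ, true_and,
      Set.mem_ofPred_eq]
    exact ⟨hy.2, hz, hz0, hy.1⟩
  have hb : ∀ y ∈ t, (Finset.bipartiteBelow r s y).card ≤ 1 := by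
    intro y hy
    simp only [t, Finset.mem_filter, Finset.mem_univ, true_and] at hy
    rw [Finset.card_le_one]
    intro a ha b hb
    simp only [Finset.mem_bipartiteBelow, r] at ha hb
    obtain ⟨-, hza, hza0, hya⟩ := ha
    obtain ⟨-, hzb, hzb0, hyb⟩ := hb
    have heq := T.R_eq_of_mem (hD0 y hy) (hQR a hza hza0) (hQR b hzb hzb0) hya hyb
    have hb' := hQmem b hzb hzb0
    rw [← heq] at hb'
    have h2 : a + b ∈ E.Lam (Q a hza hza0) ⊓ E.Lam R := ⟨by
      have := add_mem (hQmem a hza hza0) hb'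
      rwa [add_add_add_comm, add_self, add_zero] at this, add_mem hza hzb⟩
    rw [hQZ a hza hza0] at h2
    exact add_eq_zero.1 ((Submodule.mem_bot _).1 h2)
  have h := Finset.card_mul_le_card_mul r ha hb
  have hs : s.card = 2 ^ f - 1 := by
    rw [← ncard_nonzero, ← Set.ncard_coe_finset]; congr 1; ext z; simp [s]
  have ht : t.card = 2 ^ f - 1 := by
    have : finrank (ZMod 2) (E.Lam R') = f := hf' hR'
    rw [← this, ← ncard_ne_zero (V := E.Lam R'), ← Set.ncard_coe_finset]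
    simp [t]
  rw [hs, ht] at h
  have h5 : 4 ≤ f := T.four_le_Lam hR
  have : 2 ^ 4 ≤ 2 ^ f := Nat.pow_le_pow_right two_pos h5
  omega

end Tight

/-- In the non-spread case the core is at least as large as the subspaces `S`. -/
theorem AFT.rk_le_core (hA : E.AFT) (hlo : finrank (ZMod 2) V < 2 * E.rk)
    (hhi : E.rk + 2 ≤ finrank (ZMod 2) V) {κ : V'} (hκ : κ ≠ 0) {R : Submodule (ZMod 2) V}
    (hR : E.Core κ R) : E.rk ≤ finrank (ZMod 2) R := by
  by_contra hlt
  have hc := hA.exists_common hlo hhi hκ hR (by omega)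
  refine Tight.absurd' (E := E) ⟨hA, hlo, hhi, fun φ hφ => ?_⟩
  obtain ⟨g, rfl⟩ := hA.flip.trans hκ hφ
  exact ⟨_, hc.smul hA (by omega) g⟩

end Pairing

end CfsgLib.TwoTransTwo
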