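import Mathlib

/-!
There is no symmetric trilinear form over `GF(2)` in dimension at least four in which the radical
of every nonzero `x` is exactly the line through `x`.  The proof shows that a form of degree less
than the dimension would have the origin as its only zero, against Chevalley and Warning.
-/

set_option autoImplicit false
set_option linter.unusedSectionVars false

namespace CfsgLib.TwoTransTwo

open MvPolynomial Matrix Module

/-- There is no such trilinear form. -/
theorem no_trilinear {V : Type*} [AddCommGroup V] [Module (ZMod 2) V] [Finite V]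
    (T : V →ₗ[ZMod 2] V →ₗ[ZMod 2] V →ₗ[ZMod 2] ZMod 2)
    (h12 : ∀ x y z, T x y z = T y x z) (h23 : ∀ x y z, T x y z = T x z y)
    (hdiag : ∀ x z, T x x z = 0)
    (hker : ∀ x y, x ≠ 0 → (∀ z, T x y z = 0) → y = 0 ∨ y = x)
    (hn : 4 ≤ finrank (ZMod 2) V) : False := by
  classical
  haveI := Fact.mk Nat.prime_two
  set n := finrank (ZMod 2) V with hn'
  let b : Basis (Fin n) (ZMod 2) V := finBasisOfFinrankEq (ZMod 2) V rfl
  let M : Matrix (Fin n) (Fin n) (MvPolynomial (Fin n) (ZMod 2)) :=
    Matrix.of fun i j => ∑ l, MvPolynomial.C (T (b l) (b i) (b j)) * MvPolynomial.X l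
  let x : Fin n → (MvPolynomial (Fin n) (ZMod 2)) := fun i => MvPolynomial.X i
  -- the matrix kills the vector of variables
  have hMx : M *ᵥ x = 0 := by
    funext i
    have e : (M *ᵥ x) i = ∑ p : Fin n × Fin n,
        MvPolynomial.C (T (b p.2) (b i) (b p.1)) * (MvPolynomial.X p.2 * MvPolynomial.X p.1) := by
      rw [Fintype.sum_prod_type]
      simp only [Matrix.mulVec, dotProduct, M, x, Matrix.of_apply, Finset.sum_mul, mul_assoc]
    rw [e, Pi.zero_apply]
    refine Finset.sum_involution (fun p _ => p.swap) (fun p _ => ?_) (fun p _ hp => ?_)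
      (fun _ _ => Finset.mem_univ _) (fun p _ => Prod.swap_swap p)
    · have : T (b p.1) (b i) (b p.2) = T (b p.2) (b i) (b p.1) := by
        rw [h23, h12, h23]
      simp only [Prod.fst_swap, Prod.snd_swap]
      rw [this, mul_comm (MvPolynomial.X p.1) (MvPolynomial.X p.2)]
      exact CharTwo.add_self_eq_zero _
    · intro h
      apply hp
      obtain ⟨u, v⟩ := p
      simp only [Prod.swap_prod_mk, Prod.mk.injEq] at h
      have h' : v = u := h.1
      subst h'
      rw [show T (b v) (b i) (b v) = 0 by rw [h23, hdiag], map_zero, zero_mul]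
  have hMsymm : M.transpose = M := by
    ext i j
    simp only [Matrix.transpose_apply, M, Matrix.of_apply]
    exact congrArg _ (Finset.sum_congr rfl fun l _ => by rw [h23])
  have hadj_symm : ∀ i j, M.adjugate i j = M.adjugate j i := fun i j => by
    have h := Matrix.adjugate_transpose M
    rw [hMsymm] at h
    exact (congrFun (congrFun h j) i)
  -- the adjugate is a multiple of the square of the vector of variables
  have hprop : ∀ i j k, x k * M.adjugate i j = x i * M.adjugate k j := by
    intro i j k
    rw [Matrix.adjugate_apply, Matrix.adjugate_apply, ← Matrix.det_updateRow_smul,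
      ← Matrix.det_updateRow_smul, ← sub_eq_zero, sub_eq_add_neg, ← neg_one_mul,
      ← Matrix.det_updateRow_smul, ← Matrix.det_updateRow_add]
    refine Matrix.exists_mulVec_eq_zero_iff.1 ⟨x, fun h => ?_, ?_⟩
    · exact MvPolynomial.X_ne_zero (R := ZMod 2) i (congrFun h i)
    funext l
    rw [Pi.zero_apply]
    by_cases hl : l = j
    · subst hl
      simp only [Matrix.mulVec, Matrix.updateRow_self, add_dotProduct, smul_dotProduct,
        single_dotProduct, one_mul, smul_eq_mul]
      ring
    · rw [Matrix.mulVec, Matrix.updateRow_ne hl]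
      exact congrFun hMx l
  let i₀ : Fin n := ⟨0, by omega⟩
  let i₁ : Fin n := ⟨1, by omega⟩
  have hsq : ∀ i j, x i ^ 2 * M.adjugate j j = x j ^ 2 * M.adjugate i i := fun i j => by
    have h1 := hprop j j i
    have h2 := hprop j i i
    rw [hadj_symm i j] at h1
    linear_combination x i * h1 + x j * h2
  have hndvd : ∀ i j : Fin n, i ≠ j → ¬ x i ∣ x j := fun i j hij h =>
    hij ((MvPolynomial.X_dvd_X).1 h)
  have hp0 : Prime (x i₀) := MvPolynomial.X_prime
  obtain ⟨c, hc⟩ : ∃ c, M.adjugate i₀ i₀ = x i₀ ^ 2 * c := by
    have hx1 : ¬ x i₀ ∣ x i₁ := hndvd _ _ (by simp [i₀, i₁, Fin.ext_iff])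
    have h1 : x i₀ ∣ x i₁ ^ 2 * M.adjugate i₀ i₀ :=
      ⟨x i₀ * M.adjugate i₁ i₁, by linear_combination hsq i₁ i₀⟩
    obtain ⟨q, hq⟩ := (hp0.dvd_or_dvd h1).resolve_left fun h => hx1 (hp0.dvd_of_dvd_pow h)
    have h2 : x i₀ ∣ x i₁ ^ 2 * q := by
      refine ⟨M.adjugate i₁ i₁, mul_left_cancel₀ hp0.ne_zero ?_⟩
      have := hsq i₁ i₀
      rw [hq] at this
      linear_combination this
    obtain ⟨c, hc⟩ := (hp0.dvd_or_dvd h2).resolve_left fun h => hx1 (hp0.dvd_of_dvd_pow h)
    exact ⟨c, by rw [hq, hc]; ring⟩
  have hdiag' : ∀ j, M.adjugate j j = x j ^ 2 * c := fun j => by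
    refine mul_left_cancel₀ (pow_ne_zero 2 hp0.ne_zero) ?_
    have := hsq i₀ j
    rw [hc] at this
    linear_combination this
  -- the degree of the factor is less than the dimension
  have hdeg : c.totalDegree < Fintype.card (Fin n) := by
    have h1 : (M.adjugate i₀ i₀).totalDegree ≤ n - 1 := by
      rw [Matrix.adjugate_apply, Matrix.det_apply']
      refine MvPolynomial.totalDegree_finsetSum_le fun σ _ => ?_
      refine (MvPolynomial.totalDegree_mul _ _).trans ?_
      rw [show ((Equiv.Perm.sign σ : ℤ) : (MvPolynomial (Fin n) (ZMod 2))).totalDegree = 0 by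
        rw [← map_intCast (MvPolynomial.C (σ := Fin n) (R := ZMod 2))]
        exact MvPolynomial.totalDegree_C _, zero_add]
      refine (MvPolynomial.totalDegree_finset_prod _ _).trans ?_
      calc _ ≤ ∑ i : Fin n, if σ i = i₀ then 0 else 1 := by
            refine Finset.sum_le_sum fun i _ => ?_
            by_cases h : σ i = i₀
            · rw [if_pos h, h, Matrix.updateRow_self, Pi.single_apply]
              split_ifs <;> simp
            · rw [if_neg h, Matrix.updateRow_ne h]
              simp only [M, Matrix.of_apply]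
              refine MvPolynomial.totalDegree_finsetSum_le fun l _ => ?_
              refine (MvPolynomial.totalDegree_mul _ _).trans ?_
              rw [MvPolynomial.totalDegree_C, zero_add, MvPolynomial.totalDegree_X]
        _ = n - 1 := by
            rw [Equiv.sum_comp σ (fun i => if i = i₀ then 0 else 1)]
            simp [Finset.sum_ite, Finset.filter_ne', Finset.card_erase_of_mem]
    by_cases hc0 : c = 0
    · rw [hc0, MvPolynomial.totalDegree_zero, Fintype.card_fin]; omega
    · rw [hc, MvPolynomial.totalDegree_mul_of_isDomain (pow_ne_zero 2 hp0.ne_zero) hc0] at h1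
      rw [Fintype.card_fin]; omega
  -- it does not vanish away from the origin
  have hne : ∀ a : Fin n → ZMod 2, a ≠ 0 → MvPolynomial.eval a c ≠ 0 := by
    intro a ha hca
    obtain ⟨j, hj⟩ := Function.ne_iff.1 ha
    have hj1 : a j = 1 := ((show a j = 0 ∨ a j = 1 by
      generalize a j = t; fin_cases t; exacts [Or.inl rfl, Or.inr rfl])).resolve_left hj
    set v : V := ∑ l, a l • b l with hv
    have hrepr : ∀ l, b.repr v l = a l := fun l => by
      rw [hv, Basis.repr_sum_self]
    have hv0 : v ≠ 0 := fun h => by
      have := hrepr j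
      rw [h, map_zero, hj1] at this
      exact zero_ne_one this
    let N : Matrix (Fin n) (Fin n) (ZMod 2) := M.map (MvPolynomial.eval a)
    have hN : ∀ i l, N i l = T v (b i) (b l) := fun i l => by
      simp only [N, Matrix.map_apply, M, Matrix.of_apply, map_sum, map_mul, MvPolynomial.eval_C,
        MvPolynomial.eval_X, hv, LinearMap.sum_apply, map_smul, LinearMap.smul_apply, smul_eq_mul]
      exact Finset.sum_congr rfl fun l _ => mul_comm _ _
    have h0 : N.adjugate j j = 0 := by
      have := congrArg (MvPolynomial.eval a) (hdiag' j)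
      rw [map_mul, hca, mul_zero] at this
      rw [show N = (MvPolynomial.eval a).mapMatrix M from rfl, ← RingHom.map_adjugate]
      exact this
    rw [Matrix.adjugate_apply] at h0
    obtain ⟨w, hw0, hw⟩ := Matrix.exists_mulVec_eq_zero_iff.2 h0
    have hwj : w j = 0 := by
      have := congrFun hw j
      simpa [Matrix.mulVec] using this
    have hrow : ∀ i, i ≠ j → (N *ᵥ w) i = 0 := fun i hi => by
      have := congrFun hw i
      rw [Matrix.mulVec, Matrix.updateRow_ne hi] at this
      exact this
    set y : V := ∑ l, w l • b l with hy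
    have hNw : ∀ i, (N *ᵥ w) i = T v (b i) y := fun i => by
      simp only [Matrix.mulVec, dotProduct, hN, hy, map_sum, map_smul, smul_eq_mul]
      exact Finset.sum_congr rfl fun l _ => mul_comm _ _
    have hall : ∀ i, T v (b i) y = 0 := by
      intro i
      by_cases hi : i = j
      · subst hi
        have h1 : T v v y = 0 := hdiag v y
        conv_lhs at h1 => arg 1; arg 2; rw [hv]
        simp only [map_sum, map_smul, LinearMap.sum_apply, LinearMap.smul_apply, smul_eq_mul] at h1
        rw [Finset.sum_eq_single i (fun l _ hl => by rw [← hNw, hrow l hl, mul_zero])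
          (by simp), hj1, one_mul] at h1
        exact h1
      · rw [← hNw]; exact hrow i hi
    have hrw : ∀ l, b.repr y l = w l := fun l => by rw [hy, Basis.repr_sum_self]
    rcases hker v y hv0 (fun z => by
      have : ∀ z, T v z y = 0 := fun z => by
        have hz : T v z y = (T v).flip y z := rfl
        rw [hz, show (T v).flip y = 0 from b.ext fun i => hall i]; rfl
      rw [h23]; exact this z) with h | h
    · exact hw0 (funext fun l => by rw [← hrw, h, map_zero]; rfl)
    · have := hrw j
      rw [h, hrepr, hj1, hwj] at this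
      exact one_ne_zero this
  -- it vanishes at the origin
  have hzero : MvPolynomial.eval (0 : Fin n → ZMod 2) c = 0 := by
    let Φ : (MvPolynomial (Fin n) (ZMod 2)) →+* Polynomial (ZMod 2) :=
      MvPolynomial.eval₂Hom Polynomial.C fun l => if l = i₀ then Polynomial.X else 0
    have hM : M.map Φ = (Polynomial.X : Polynomial (ZMod 2)) •
        Matrix.of (fun i j => Polynomial.C (T (b i₀) (b i) (b j))) := by
      ext i j
      simp only [Φ, Matrix.map_apply, M, Matrix.of_apply, map_sum, map_mul,
        MvPolynomial.eval₂Hom_C, MvPolynomial.eval₂Hom_X', mul_ite, mul_zero, Finset.sum_ite_eq',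
        Finset.mem_univ, if_true, Matrix.smul_apply, smul_eq_mul]
      rw [mul_comm]
    have h1 := congrArg Φ hc
    rw [show Φ (M.adjugate i₀ i₀) = (M.map Φ).adjugate i₀ i₀ by
      rw [show M.map Φ = Φ.mapMatrix M from rfl, ← RingHom.map_adjugate]; rfl, hM,
      Matrix.adjugate_smul, map_mul, map_pow, Fintype.card_fin, Matrix.smul_apply, smul_eq_mul,
      show Φ (x i₀) = Polynomial.X by simp [Φ, x]] at h1
    rw [show n - 1 = 2 + ((n - 4) + 1) by omega, pow_add, mul_assoc] at h1
    have h2 := congrArg (Polynomial.eval 0) (mul_left_cancel₀ (pow_ne_zero 2 Polynomial.X_ne_zero) h1)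
    simp only [Polynomial.eval_mul, Polynomial.eval_pow, Polynomial.eval_X,
      zero_pow (Nat.succ_ne_zero _), zero_mul] at h2
    have h3 : ∀ p : (MvPolynomial (Fin n) (ZMod 2)), Polynomial.eval 0 (Φ p) = MvPolynomial.eval (0 : Fin n → ZMod 2) p := by
      intro p
      induction p using MvPolynomial.induction_on with
      | C r => simp [Φ]
      | add p q hp hq => simp only [map_add, Polynomial.eval_add, hp, hq]
      | mul_X p l hp =>
        rw [map_mul, Polynomial.eval_mul, hp, map_mul, MvPolynomial.eval_X]
        by_cases hl : l = i₀ <;> simp [Φ, hl]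
    rw [h3] at h2
    exact h2.symm
  have h2 := char_dvd_card_solutions 2 (K := ZMod 2) (f := c) hdeg
  have h1 : Fintype.card {a : Fin n → ZMod 2 // MvPolynomial.eval a c = 0} = 1 := by
    rw [Fintype.card_eq_one_iff]
    exact ⟨⟨0, hzero⟩, fun a => Subtype.ext (by_contra fun h => hne a.1 h a.2)⟩
  rw [h1] at h2
  omega

end CfsgLib.TwoTransTwo
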