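import Cfsg.Agent.TwoTransTwo.Lines
import Cfsg.Agent.TwoTransTwo.Trilinear

/-!
The largest parameter is impossible: the hyperplanes attached to the lines would form a symmetric
trilinear form of the forbidden kind.
-/

set_option autoImplicit false
set_option linter.unusedSectionVars false

namespace CfsgLib.TwoTransTwo

open MulAction Module

variable {G : Type*} [Group G] [Finite G] {V V' : Type*} [AddCommGroup V] [Module (ZMod 2) V]
  [AddCommGroup V'] [Module (ZMod 2) V'] [DistribMulAction G V] [DistribMulAction G V']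
  [Finite V] [Finite V'] {D : Pairing G V V'}

namespace Pairing

open Classical in
theorem no_large (h : D.TwoTrans) (hn : 4 ≤ finrank (ZMod 2) V)
    (hk : D.lrk + 2 = finrank (ZMod 2) V) : False := by
  let bad : V → V → V → Prop := fun x y z => x ≠ 0 ∧ y ≠ 0 ∧ y ≠ x ∧ z ∉ D.X x y
  let T : V → V → V → ZMod 2 := fun x y z => if bad x y z then 1 else 0
  have h12 : ∀ x y z, T x y z = T y x z := by
    intro x y z
    have key : ∀ {x y : V}, bad x y z → bad y x z := fun {x y} hb =>
      ⟨hb.2.1, hb.1, Ne.symm hb.2.2.1, by rw [X_swap h hn hb.1 hb.2.1 hb.2.2.1]; exact hb.2.2.2⟩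
    simp only [T]
    exact if_congr ⟨key, key⟩ rfl rfl
  have h23 : ∀ x y z, T x y z = T x z y := by
    intro x y z
    have key : ∀ {y z : V}, bad x y z → bad x z y := by
      rintro y z ⟨hx, hy, hyx, hz⟩
      have hz0 : z ≠ 0 := fun e => hz (e ▸ zero_mem _)
      have hzx : z ≠ x := fun e => hz (e ▸ self_mem_X)
      exact ⟨hx, hz0, hzx, fun hm => hz (X_comm h (by omega) hx hy hyx hm)⟩
    simp only [T]
    exact if_congr ⟨key, key⟩ rfl rfl
  have hlin : ∀ x y z z', T x y (z + z') = T x y z + T x y z' := by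
    intro x y z z'
    by_cases hxy : x ≠ 0 ∧ y ≠ 0 ∧ y ≠ x
    · obtain ⟨hx, hy, hyx⟩ := hxy
      obtain ⟨κ, hκ, hκ0⟩ := exists_ne_zero (M := D.flip.perp (D.X x y : Set V)) (by
        have h1 := D.flip.finrank_perp (D.X x y)
        have h2 := finrank_X h (by omega) hx hy hyx
        have h3 := D.finrank_eq
        omega)
      have hX : D.X x y = D.perp {κ} :=
        Submodule.eq_of_le_of_finrank_le (fun v hv => D.mem_perp_singleton.2 (hκ v hv))
          (by
            have := D.finrank_perp_singleton hκ0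
            rw [finrank_X h (by omega) hx hy hyx]
            omega)
      have hval : ∀ v, T x y v = D.form v κ := fun v => by
        simp only [T, bad, hX, D.mem_perp_singleton]
        rcases zmod_two_cases (D.form v κ) with e | e <;> simp [e, hx, hy, hyx]
      rw [hval, hval, hval, map_add, LinearMap.add_apply]
    · have hval : ∀ v, T x y v = 0 := fun v => by
        simp only [T, bad]
        rw [if_neg fun hb => hxy ⟨hb.1, hb.2.1, hb.2.2.1⟩]
      rw [hval, hval, hval, add_zero]
  let f3 : V → V → (V →ₗ[ZMod 2] ZMod 2) := fun x y =>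
    (AddMonoidHom.mk' (T x y) (hlin x y)).toZModLinearMap 2
  have hlin2 : ∀ x y y', f3 x (y + y') = f3 x y + f3 x y' := fun x y y' =>
    LinearMap.ext fun z => by
      show T x (y + y') z = T x y z + T x y' z
      rw [h23, hlin, h23 x z y, h23 x z y']
  let f2 : V → (V →ₗ[ZMod 2] V →ₗ[ZMod 2] ZMod 2) := fun x =>
    (AddMonoidHom.mk' (f3 x) (hlin2 x)).toZModLinearMap 2
  have hlin1 : ∀ x x', f2 (x + x') = f2 x + f2 x' := fun x x' =>
    LinearMap.ext fun y => LinearMap.ext fun z => by
      show T (x + x') y z = T x y z + T x' y z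
      rw [h12, h23, hlin, h23 y z x, h12 y x z, h23 y z x', h12 y x' z]
  refine no_trilinear ((AddMonoidHom.mk' f2 hlin1).toZModLinearMap 2) h12 h23 (fun x z => ?_)
    (fun x y hx hall => ?_) hn
  · show T x x z = 0
    simp [T, bad]
  · by_contra hc
    simp only [not_or] at hc
    obtain ⟨z, hz⟩ := exists_not_mem (M := D.X x y) (by
      rw [finrank_X h (by omega) hx hc.1 hc.2]; omega)
    have h1 : T x y z = 0 := hall z
    simp [T, bad, hx, hc.1, hc.2, hz] at h1

end Pairing

end CfsgLib.TwoTransTwo
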