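import Cfsg.Agent.TwoTransTwo.Local

/-!
The subspace attached to a line of a doubly transitive group, and its independence of the chosen
point on the line.
-/

set_option autoImplicit false
set_option linter.unusedSectionVars false

namespace CfsgLib.TwoTransTwo

open MulAction Module

variable {G : Type*} [Group G] [Finite G] {V V' : Type*} [AddCommGroup V] [Module (ZMod 2) V]
  [AddCommGroup V'] [Module (ZMod 2) V'] [DistribMulAction G V] [DistribMulAction G V']
  [Finite V] [Finite V']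

theorem finrank_comap_mkQ {P : V} (hP : P ≠ 0) (S : Submodule (ZMod 2) (V ⧸ line P)) :
    finrank (ZMod 2) (S.comap (line P).mkQ) = finrank (ZMod 2) S + 1 := by
  set f := (line P).mkQ.comp (S.comap (line P).mkQ).subtype with hf
  have h1 : LinearMap.range f = S := by
    rw [hf, LinearMap.range_comp, Submodule.range_subtype,
      Submodule.map_comap_eq_of_surjective (line P).mkQ_surjective]
  have h2 : (LinearMap.ker f).map (S.comap (line P).mkQ).subtype = line P := by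
    rw [hf, LinearMap.ker_comp, Submodule.ker_mkQ, Submodule.map_comap_subtype, inf_eq_right]
    intro v hv
    rw [Submodule.mem_comap, Submodule.mkQ_apply, (Submodule.Quotient.mk_eq_zero _).2 hv]
    exact zero_mem _
  have h3 := LinearMap.finrank_range_add_finrank_ker f
  rw [← Submodule.finrank_map_subtype_eq _ (LinearMap.ker f), h2, finrank_line hP, h1] at h3
  omega

namespace Pairing

variable (D : Pairing G V V')

/-- A point, a line class through it and a functional fixed by a common Sylow 2-subgroup. -/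
def Trio (P Q : V) (κ : V') : Prop :=
  κ ≠ 0 ∧ D.form P κ = 0 ∧ ∃ U : Subgroup G, IsSyl U ∧ (∀ g ∈ U, g • P = P) ∧
    (∀ g ∈ U, g • κ = κ) ∧ ∀ g ∈ U, g • Q = Q ∨ g • Q = Q + P

/-- The subspace of a line, seen from one of its points. -/
def X (P Q : V) : Submodule (ZMod 2) V :=
  ((D.loc P).S (Submodule.Quotient.mk Q)).comap (line P).mkQ

/-- The parameter of the group. -/
noncomputable def lrk : ℕ := sInf {m | ∃ P : V, P ≠ 0 ∧ (D.loc P).rk = m}

variable {D}

theorem Trio.smul {P Q : V} {κ : V'} (h : D.Trio P Q κ) (g : G) :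
    D.Trio (g • P) (g • Q) (g • κ) := by
  obtain ⟨hκ, h0, U, hU, h1, h2, h3⟩ := h
  refine ⟨(smul_ne_zero_iff_ne g).2 hκ, by rwa [D.smul_form], _, hU.conj_map g, ?_, ?_, ?_⟩
  · rintro _ ⟨u, hu, rfl⟩
    simp [MulAut.conj_apply, mul_smul, h1 u hu]
  · rintro _ ⟨u, hu, rfl⟩
    simp [MulAut.conj_apply, mul_smul, h2 u hu]
  · rintro _ ⟨u, hu, rfl⟩
    rcases h3 u hu with e | e <;> simp [MulAut.conj_apply, mul_smul, e, smul_add]

theorem mem_X {P Q R : V} : R ∈ D.X P Q ↔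
    ∀ κ, (D.loc P).Flag (Submodule.Quotient.mk Q) κ → D.form R (κ : V') = 0 := Iff.rfl

theorem trio_of_flag (h : D.TwoTrans) (hn : 2 ≤ finrank (ZMod 2) V) {P Q : V}
    {κ : D.flip.perp {P}} (hκ : (D.loc P).Flag (Submodule.Quotient.mk Q) κ) :
    D.Trio P Q (κ : V') := by
  obtain ⟨hQ, hκ0, U, hU, h1, h2⟩ := hκ
  by_cases hP : P = 0
  · subst hP
    have hall : ∀ g : G, g • (0 : V) = 0 := smul_zero
    have hi : Odd (stabilizer G (0 : V)).index := by
      rw [show stabilizer G (0 : V) = ⊤ from eq_top_iff.2 fun g _ => hall g, Subgroup.index_top]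
      exact odd_one
    refine ⟨fun e => hκ0 (Subtype.ext e), κ.2 _ rfl, _, hU.map_subtype hi, ?_, ?_, ?_⟩
    · exact fun g _ => hall g
    · rintro _ ⟨u, hu, rfl⟩; exact congrArg Subtype.val (h2 u hu)
    · rintro _ ⟨u, hu, rfl⟩; exact mk_eq_mk.1 (h1 u hu)
  · refine ⟨fun e => hκ0 (Subtype.ext e), κ.2 _ rfl, _,
      hU.map_subtype ((h.aft hn).odd_index hP), ?_, ?_, ?_⟩
    · rintro _ ⟨u, -, rfl⟩; exact u.2
    · rintro _ ⟨u, hu, rfl⟩; exact congrArg Subtype.val (h2 u hu)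
    · rintro _ ⟨u, hu, rfl⟩; exact mk_eq_mk.1 (h1 u hu)

theorem flag_of_trio {P Q : V} {κ : V'} (hQ : Q ≠ 0) (hQP : Q ≠ P) (hκ : D.Trio P Q κ) :
    (D.loc P).Flag (Submodule.Quotient.mk Q) ⟨κ, D.flip.mem_perp_singleton.2 hκ.2.1⟩ := by
  obtain ⟨hκ0, -, U, hU, h1, h2, h3⟩ := hκ
  exact ⟨mk_ne_zero.2 ⟨hQ, hQP⟩, fun e => hκ0 (congrArg Subtype.val e), _,
    hU.subgroupOf (H := stabilizer G P) h1, fun u hu => mk_eq_mk.2 (h3 _ hu),
    fun u hu => Subtype.ext (h2 _ hu)⟩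

theorem mem_X_trio (h : D.TwoTrans) (hn : 2 ≤ finrank (ZMod 2) V) {P Q R : V}
    (hQ : Q ≠ 0) (hQP : Q ≠ P) :
    R ∈ D.X P Q ↔ ∀ κ, D.Trio P Q κ → D.form R κ = 0 :=
  mem_X.trans ⟨fun hR κ hκ => hR _ (flag_of_trio hQ hQP hκ),
    fun hR _ hκ => hR _ (trio_of_flag h hn hκ)⟩

theorem smul_mem_X (h : D.TwoTrans) (hn : 2 ≤ finrank (ZMod 2) V) (g : G) {P Q R : V}
    (hQ : Q ≠ 0) (hQP : Q ≠ P) (hR : R ∈ D.X P Q) : g • R ∈ D.X (g • P) (g • Q) := by
  rw [mem_X_trio h hn hQ hQP] at hR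
  rw [mem_X_trio h hn ((smul_ne_zero_iff_ne g).2 hQ) (fun e => hQP (MulAction.injective g e))]
  intro κ hκ
  rw [D.form_smul_left]
  exact hR _ (by simpa using hκ.smul g⁻¹)

theorem self_mem_X {P Q : V} : P ∈ D.X P Q := by
  rw [Pairing.X, Submodule.mem_comap, Submodule.mkQ_apply,
    (Submodule.Quotient.mk_eq_zero _).2 (Submodule.mem_span_singleton_self P)]
  exact zero_mem _

theorem other_mem_X (h : D.TwoTrans) (hn : 3 ≤ finrank (ZMod 2) V) {P Q : V} (hP : P ≠ 0) :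
    Q ∈ D.X P Q :=
  (h.loc_aft (by omega) hP).self_mem_S (by rw [TwoTrans.finrank_loc hP]; omega) _

theorem X_add {P Q : V} : D.X P (Q + P) = D.X P Q := by
  rw [Pairing.X, Pairing.X, mk_eq_mk.2 (Or.inr rfl)]

theorem finrank_X_loc (h : D.TwoTrans) (hn : 3 ≤ finrank (ZMod 2) V) {P Q : V} (hP : P ≠ 0)
    (hQ : Q ≠ 0) (hQP : Q ≠ P) : finrank (ZMod 2) (D.X P Q) = (D.loc P).rk + 1 := by
  rw [Pairing.X, finrank_comap_mkQ hP,
    (h.loc_aft (by omega) hP).finrank_S (mk_ne_zero.2 ⟨hQ, hQP⟩)]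

theorem exists_off_line (hn : 2 ≤ finrank (ZMod 2) V) {P : V} (hP : P ≠ 0) :
    ∃ Q : V, Q ≠ 0 ∧ Q ≠ P := by
  obtain ⟨v, hv⟩ := exists_not_mem (M := line P) (by rw [finrank_line hP]; omega)
  rw [mem_line, not_or] at hv
  exact ⟨v, hv⟩

theorem rk_loc (h : D.TwoTrans) (hn : 3 ≤ finrank (ZMod 2) V) {P : V} (hP : P ≠ 0) :
    (D.loc P).rk = D.lrk := by
  have key : ∀ {P P' : V}, P ≠ 0 → P' ≠ 0 → (D.loc P).rk ≤ (D.loc P').rk := by
    intro P P' hP hP'
    obtain ⟨Q, hQ, hQP⟩ := exists_off_line (by omega : 2 ≤ finrank (ZMod 2) V) hP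
    obtain ⟨g, rfl⟩ := h.1 P P' hP hP'
    have := LinearMap.finrank_le_finrank_of_injective
      (f := (actLin g).restrict (p := D.X P Q) (q := D.X (g • P) (g • Q))
        fun x hx => smul_mem_X h (by omega) g hQ hQP hx)
      fun x y hxy => Subtype.ext (MulAction.injective g (congrArg Subtype.val hxy))
    rw [finrank_X_loc h hn hP hQ hQP, finrank_X_loc h hn hP' ((smul_ne_zero_iff_ne g).2 hQ)
      (fun e => hQP (MulAction.injective g e))] at this
    omega
  obtain ⟨P', hP', h'⟩ := Nat.sInf_mem (s := {m | ∃ P : V, P ≠ 0 ∧ (D.loc P).rk = m})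
    ⟨_, P, hP, rfl⟩
  rw [Pairing.lrk, ← h']
  exact le_antisymm (key hP hP') (key hP' hP)

theorem finrank_X (h : D.TwoTrans) (hn : 3 ≤ finrank (ZMod 2) V) {P Q : V} (hP : P ≠ 0)
    (hQ : Q ≠ 0) (hQP : Q ≠ P) : finrank (ZMod 2) (D.X P Q) = D.lrk + 1 := by
  rw [finrank_X_loc h hn hP hQ hQP, rk_loc h hn hP]

theorem lrk_bounds (h : D.TwoTrans) (hn : 3 ≤ finrank (ZMod 2) V) :
    1 ≤ D.lrk ∧ D.lrk + 2 ≤ finrank (ZMod 2) V := by
  obtain ⟨P, -, hP⟩ := exists_ne_zero (M := (⊤ : Submodule (ZMod 2) V))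
    (by rw [finrank_top]; omega)
  rw [← rk_loc h hn hP]
  have h1 := finrank_quotient_line hP
  have hd : 2 ≤ finrank (ZMod 2) (V ⧸ line P) := by omega
  have h2 := (h.loc_aft (by omega) hP).one_le_rk hd
  have h3 := (h.loc_aft (by omega) hP).rk_lt (by omega)
  omega

/-- Membership is symmetric in the two other points. -/
theorem X_comm (h : D.TwoTrans) (hn : 3 ≤ finrank (ZMod 2) V) {P Q R : V} (hP : P ≠ 0)
    (hR : R ≠ 0) (hRP : R ≠ P) (hmem : R ∈ D.X P Q) : Q ∈ D.X P R :=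
  (h.loc_aft (by omega) hP).mem_S_symm (by rw [TwoTrans.finrank_loc hP]; omega)
    (mk_ne_zero.2 ⟨hR, hRP⟩) hmem

/-- The stabilizer of a point and a line class is transitive off the subspace of the line. -/
theorem trans_off_X (h : D.TwoTrans) (hn : 3 ≤ finrank (ZMod 2) V) {P Q y z : V} (hP : P ≠ 0)
    (hy : y ∉ D.X P Q) (hz : z ∉ D.X P Q) :
    ∃ g : G, g • P = P ∧ (g • Q = Q ∨ g • Q = Q + P) ∧ g • y = z := by
  rw [mem_X] at hy hz
  push Not at hy hz
  obtain ⟨κ, hκ, hyκ⟩ := hy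
  obtain ⟨κ', hκ', hzκ⟩ := hz
  have hy1 := (zmod_two_cases _).resolve_left hyκ
  have hz1 := (zmod_two_cases _).resolve_left hzκ
  obtain ⟨g, hgQ, hgκ⟩ := (h.loc_aft (by omega) hP).flag_conj hκ hκ'
  obtain ⟨hκ0, -, U, hU, h1, h2, h3⟩ := trio_of_flag h (by omega) hκ'
  have hgκ' : (g : G) • (κ : V') = (κ' : V') := congrArg Subtype.val hgκ
  obtain ⟨u, hu, huy⟩ := (h.aft (by omega)).sylow_trans' hU hκ0 h2
    (v := (g : G) • y) (v' := z) (by rw [← hgκ', D.smul_form, hy1]) hz1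
  refine ⟨u * g, by rw [mul_smul, mem_stabilizer_iff.1 g.2, h1 u hu], ?_,
    by rw [mul_smul, huy]⟩
  rw [mul_smul]
  have hgQ' : (g : G) • Q = Q ∨ (g : G) • Q = Q + P := mk_eq_mk.1 hgQ
  rcases hgQ' with e | e <;> rcases h3 u hu with e' | e' <;>
    simp only [e, smul_add, e', h1 u hu, add_assoc, add_self, add_zero] <;> tauto

theorem X_swap_small (h : D.TwoTrans) (hn : 3 ≤ finrank (ZMod 2) V)
    (hk : D.lrk + 3 ≤ finrank (ZMod 2) V) {P Q : V} (hP : P ≠ 0) (hQ : Q ≠ 0) (hQP : Q ≠ P) :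
    D.X Q P = D.X P Q := by
  have hQP0 : Q + P ≠ 0 := fun e => hQP (add_eq_zero.1 e)
  have hd1 := finrank_X h hn hQ hP (Ne.symm hQP)
  refine Submodule.eq_of_le_of_finrank_le (fun x hx => ?_)
    (by rw [hd1, finrank_X h hn hP hQ hQP])
  by_contra hxP
  have hQPP : Q + P ≠ P := fun e => hQ (by simpa using add_right_cancel (e.trans (zero_add P).symm))
  have hd2 := finrank_X h hn hQP0 hP (Ne.symm hQPP)
  have hsub : {v : V | v ∉ D.X P Q} ⊆
      (D.X Q P : Set V) ∪ (D.X (Q + P) P : Set V) := by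
    intro y hy
    obtain ⟨g, hgP, hgQ, hgy⟩ := trans_off_X h hn hP hxP hy
    have h1 : g • x ∈ D.X (g • Q) (g • P) := smul_mem_X h (by omega) g hP (Ne.symm hQP) hx
    rw [hgP, hgy] at h1
    rcases hgQ with e | e <;> rw [e] at h1
    · exact Or.inl h1
    · exact Or.inr h1
  have h1 := (Set.ncard_le_ncard hsub (Set.toFinite _)).trans (Set.ncard_union_le _ _)
  rw [ncard_compl_submodule, ncard_submodule, ncard_submodule, finrank_X h hn hP hQ hQP, hd1, hd2]
    at h1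
  have h2 : 2 ^ (D.lrk + 3) ≤ 2 ^ finrank (ZMod 2) V := Nat.pow_le_pow_right two_pos hk
  have h3 : 2 ^ (D.lrk + 3) = 4 * 2 ^ (D.lrk + 1) := by ring
  have := Nat.two_pow_pos (D.lrk + 1)
  omega

theorem ncard_orbit_eq {H : Subgroup G} (x : V) :
    (orbit H x).ncard * Nat.card (H ⊓ stabilizer G x : Subgroup G) = Nat.card H := by
  rw [← MulAction.index_stabilizer]
  have h1 : stabilizer H x = (stabilizer G x).subgroupOf H := by ext u; rfl
  rw [h1, mul_comm, ← Subgroup.inf_subgroupOf_left,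
    Nat.card_congr (Subgroup.subgroupOfEquivOfLe (inf_le_left : H ⊓ stabilizer G x ≤ H)).symm.toEquiv,
    Subgroup.card_mul_index]

/-- In the largest case the subspace is a hyperplane, with intrinsic functional. -/
theorem X_swap_large (h : D.TwoTrans) (hn : 4 ≤ finrank (ZMod 2) V)
    (hk : D.lrk + 2 = finrank (ZMod 2) V) {P Q : V} (hP : P ≠ 0) (hQ : Q ≠ 0) (hQP : Q ≠ P) :
    D.X Q P = D.X P Q := by
  have hA := h.aft (show 2 ≤ finrank (ZMod 2) V by omega)
  have hl := h.loc_aft (by omega) hP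
  have hd : 2 ≤ finrank (ZMod 2) (V ⧸ line P) := by rw [TwoTrans.finrank_loc hP]; omega
  obtain ⟨κ, hκ⟩ := hl.exists_flag (by omega) (mk_ne_zero.2 ⟨hQ, hQP⟩)
  have hX : D.X P Q = D.perp {(κ : V')} := by
    refine Submodule.eq_of_le_of_finrank_le
      (fun R hR => D.mem_perp_singleton.2 (hR κ hκ)) ?_
    have hκ0 : (κ : V') ≠ 0 := fun e => hκ.2.1 (Subtype.ext e)
    have := D.finrank_perp_singleton hκ0
    rw [finrank_X h (by omega) hP hQ hQP]
    omega
  have hκ0 : (κ : V') ≠ 0 := fun e => hκ.2.1 (Subtype.ext e)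
  have hPκ : D.form P (κ : V') = 0 := κ.2 P rfl
  have hQκ : D.form Q (κ : V') = 0 :=
    D.mem_perp_singleton.1 (hX ▸ other_mem_X h (by omega) hP)
  -- the stabilizer of the flag fixes the line
  set K : Subgroup G := stabilizer G P ⊓ stabilizer G (κ : V') with hK
  set H : Subgroup G := stabilizer G Q ⊓ stabilizer G (κ : V') with hH
  have hLd : finrank (ZMod 2) ((D.loc P).L κ) ≤ 1 := by
    have := hl.finrank_L hd hκ.2.1
    rw [rk_loc h (by omega) hP, TwoTrans.finrank_loc hP] at this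
    omega
  have hKQ : ∀ g ∈ K, g • Q = Q ∨ g • Q = Q + P := by
    intro g hg
    have h1 : (⟨g, hg.1⟩ : stabilizer G P) • κ = κ := Subtype.ext hg.2
    have h2 := hl.smul_mem_L hd (⟨g, hg.1⟩ : stabilizer G P) hκ.2.1 (hl.flag_mem_L hd hκ)
    rw [h1, eq_line hLd (hl.flag_mem_L hd hκ) hκ.1, mem_line, smul_mk] at h2
    rcases h2 with e | e
    · exact absurd e (mk_ne_zero.2 ⟨(smul_ne_zero_iff_ne g).2 hQ,
        fun e' => hQP (MulAction.injective g (e'.trans (mem_stabilizer_iff.1 hg.1).symm))⟩)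
    · exact mk_eq_mk.1 e
  have horb : (orbit K Q).ncard = 2 := by
    refine le_antisymm ((Set.ncard_le_ncard (t := {Q, Q + P}) ?_ (Set.toFinite _)).trans
      ((Set.ncard_insert_le _ _).trans (by rw [Set.ncard_singleton]))) ?_
    · rintro _ ⟨g, rfl⟩
      rcases hKQ g g.2 with e | e
      · exact Or.inl e
      · exact Or.inr e
    · obtain ⟨-, -, U, hU, h1, h2⟩ := h.flag (by omega) hP hκ0 hPκ
      obtain ⟨u, hu, huQ⟩ : ∃ u ∈ U, u • Q ≠ Q := by
        by_contra hc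
        simp only [not_exists, not_and, not_not] at hc
        exact hQP (hA.fixed_unique hU hP hQ h1 hc)
      have hu' : u ∈ K := ⟨h1 u hu, h2 u hu⟩
      exact (Set.one_lt_ncard (Set.toFinite _)).2
        ⟨u • Q, ⟨⟨u, hu'⟩, rfl⟩, Q, mem_orbit_self Q, huQ⟩
  have hcard : Nat.card H = Nat.card K := by
    obtain ⟨g, hg1, hg2⟩ := h.flag_trans (by omega) hP hQ hκ0 hκ0 hPκ hQκ
    have : H = K.map (MulEquiv.toMonoidHom (MulAut.conj g)) := by
      ext x
      rw [Subgroup.mem_map_equiv, MulAut.conj_symm_apply, hH, hK]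
      simp only [Subgroup.mem_inf, mem_stabilizer_iff, mul_smul, inv_smul_eq_iff]
      rw [hg1, hg2]
    rw [this]
    exact Subgroup.card_map_of_injective (MulAut.conj g).injective
  have horb' : (orbit H P).ncard = 2 := by
    have e : H ⊓ stabilizer G P = K ⊓ stabilizer G Q := by
      rw [hH, hK]; ac_rfl
    have h1 := ncard_orbit_eq (H := H) P
    rw [e, hcard, ← ncard_orbit_eq (H := K) Q, horb] at h1
    exact Nat.eq_of_mul_eq_mul_right Nat.card_pos h1
  obtain ⟨P', hP'0, hP'P⟩ := Set.exists_ne_of_one_lt_ncard (horb'.symm ▸ one_lt_two) P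
  have hset : orbit H P = {P, P'} := by
    refine (Set.eq_of_subset_of_ncard_le ?_ ?_ (Set.toFinite _)).symm
    · rintro _ (rfl | rfl)
      · exact mem_orbit_self _
      · exact hP'0
    · rw [horb', Set.ncard_pair (Ne.symm hP'P)]
  obtain ⟨-, -, U, hU, h1, h2⟩ := h.flag (by omega) hQ hκ0 hQκ
  have hperm : ∀ g ∈ U, (g • P = P ∧ g • P' = P') ∨ (g • P = P' ∧ g • P' = P) := by
    intro g hg
    have hm : ∀ y ∈ orbit H P, g • y ∈ orbit H P := fun y hy => by
      obtain ⟨a, rfl⟩ := hy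
      exact ⟨⟨g * a, H.mul_mem ⟨h1 g hg, h2 g hg⟩ a.2⟩, mul_smul _ _ _⟩
    rw [hset] at hm
    rcases hm P (Or.inl rfl) with e | e <;> rcases hm P' (Or.inr rfl) with e' | e'
    · exact absurd (MulAction.injective g (e'.trans e.symm)) hP'P
    · exact Or.inl ⟨e, e'⟩
    · exact Or.inr ⟨e, e'⟩
    · exact absurd (MulAction.injective g (e'.trans e.symm)) hP'P
  have hsum : P + P' = Q := by
    refine hA.fixed_unique hU hQ (fun e => hP'P (add_eq_zero.1 e).symm) h1 fun g hg => ?_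
    rcases hperm g hg with ⟨e, e'⟩ | ⟨e, e'⟩ <;> rw [smul_add, e, e']
    exact add_comm _ _
  have hP' : P' = P + Q := by rw [← hsum, ← add_assoc, add_self, zero_add]
  have htrio : D.Trio Q P (κ : V') := ⟨hκ0, hQκ, U, hU, h1, h2, fun g hg => by
    rcases hperm g hg with ⟨e, -⟩ | ⟨e, -⟩
    · exact Or.inl e
    · exact Or.inr (e.trans hP')⟩
  refine Submodule.eq_of_le_of_finrank_le (fun R hR => ?_)
    (by rw [finrank_X h (by omega) hP hQ hQP, finrank_X h (by omega) hQ hP (Ne.symm hQP)])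
  rw [hX]
  exact D.mem_perp_singleton.2 ((mem_X_trio h (by omega) hP (Ne.symm hQP)).1 hR _ htrio)

/-- The subspace of a line does not depend on the point. -/
theorem X_swap (h : D.TwoTrans) (hn : 4 ≤ finrank (ZMod 2) V) {P Q : V} (hP : P ≠ 0) (hQ : Q ≠ 0)
    (hQP : Q ≠ P) : D.X Q P = D.X P Q := by
  have := (lrk_bounds h (by omega)).2
  rcases Nat.lt_or_ge (D.lrk + 2) (finrank (ZMod 2) V) with hk | hk
  · exact X_swap_small h (by omega) hk hP hQ hQP
  · exact X_swap_large h hn (by omega) hP hQ hQP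

end Pairing

end CfsgLib.TwoTransTwo
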