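import Cfsg.Agent.TwoTransTwo.Lines

/-!
The link between the parameters of a doubly transitive group and of its transpose: a subspace of a
hyperplane of the quotient at a point, off which the flag stabilizer is transitive.
-/

set_option autoImplicit false
set_option linter.unusedSectionVars false

namespace CfsgLib.TwoTransTwo

open MulAction Module

variable {G : Type*} [Group G] [Finite G] {V V' : Type*} [AddCommGroup V] [Module (ZMod 2) V]
  [AddCommGroup V'] [Module (ZMod 2) V'] [DistribMulAction G V] [DistribMulAction G V']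
  [Finite V] [Finite V']

namespace Pairing

/-- A subspace of the kernel of a functional off which the stabilizer is transitive. -/
def Core (E : Pairing G V V') (κ : V') (R : Submodule (ZMod 2) V) : Prop :=
  R ≤ E.perp {κ} ∧ ∀ x y : V, x ∈ E.perp {κ} → x ∉ R → y ∈ E.perp {κ} → y ∉ R →
    ∃ g : G, g • κ = κ ∧ g • x = y

variable {D : Pairing G V V'}

theorem exists_core (h : D.TwoTrans) (hn : 4 ≤ finrank (ZMod 2) V) {P : V} (hP : P ≠ 0)
    {κ : D.flip.perp {P}} (hκ : κ ≠ 0) :
    ∃ R, (D.loc P).Core κ R ∧ finrank (ZMod 2) R + 1 = D.flip.lrk := by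
  have hκ0 : (κ : V') ≠ 0 := fun e => hκ (Subtype.ext e)
  have hPκ : D.form P (κ : V') = 0 := κ.2 P rfl
  have hn' : 4 ≤ finrank (ZMod 2) V' := by rw [← D.finrank_eq]; exact hn
  have hf := h.flip (show 2 ≤ finrank (ZMod 2) V by omega)
  set E := (D.flip.loc (κ : V')).flip with hE
  have hEA : E.AFT := (hf.loc_aft (by omega) hκ0).flip
  let P₁ : D.flip.flip.perp {(κ : V')} := ⟨P, D.mem_perp_singleton.2 hPκ⟩
  have hP₁ : P₁ ≠ 0 := fun e => hP (congrArg Subtype.val e)
  have hEd : 2 ≤ finrank (ZMod 2) (D.flip.flip.perp {(κ : V')}) := by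
    show 2 ≤ finrank (ZMod 2) (D.perp {(κ : V')})
    have := D.finrank_perp_singleton hκ0
    omega
  set S := (E.S P₁).map (D.flip.flip.perp {(κ : V')}).subtype with hS
  have hSd : finrank (ZMod 2) S = D.flip.lrk := by
    rw [hS, Submodule.finrank_map_subtype_eq, hEA.finrank_S hP₁, hE,
      (hf.loc_aft (by omega) hκ0).rk_flip (by rw [TwoTrans.finrank_loc hκ0]; omega),
      rk_loc hf (by omega) hκ0]
  have hPS : P ∈ S := ⟨P₁, hEA.self_mem_S hEd P₁, rfl⟩
  refine ⟨S.map (line P).mkQ, ⟨?_, ?_⟩, ?_⟩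
  · rintro _ ⟨_, ⟨v, -, rfl⟩, rfl⟩
    exact (D.loc P).mem_perp_singleton.2 (D.mem_perp_singleton.1 v.2)
  · intro x y
    induction x using Submodule.Quotient.induction_on with
    | _ v =>
      induction y using Submodule.Quotient.induction_on with
      | _ w =>
        intro hv hvS hw hwS
        have hv1 : v ∈ D.flip.flip.perp {(κ : V')} :=
          D.mem_perp_singleton.2 ((D.loc P).mem_perp_singleton.1 hv)
        have hw1 : w ∈ D.flip.flip.perp {(κ : V')} :=
          D.mem_perp_singleton.2 ((D.loc P).mem_perp_singleton.1 hw)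
        obtain ⟨g, hg, hgv⟩ := hEA.trans_off (w := P₁) (x := ⟨v, hv1⟩) (y := ⟨w, hw1⟩)
          (fun hm => hvS ⟨v, ⟨_, hm, rfl⟩, rfl⟩) (fun hm => hwS ⟨w, ⟨_, hm, rfl⟩, rfl⟩)
        have hgP : (g : G) • P = P := congrArg Subtype.val hg
        refine ⟨⟨(g : G), hgP⟩, Subtype.ext (mem_stabilizer_iff.1 g.2), ?_⟩
        rw [smul_mk]
        exact congrArg _ (congrArg Subtype.val hgv)
  · rw [← hSd]
    have e : (S.map (line P).mkQ).comap (line P).mkQ = S := by
      rw [Submodule.comap_map_mkQ, sup_eq_right]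
      exact (Submodule.span_singleton_le_iff_mem _ _).2 hPS
    conv_rhs => rw [← e]
    rw [finrank_comap_mkQ hP]

end Pairing

end CfsgLib.TwoTransTwo
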