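import Cfsg.Agent.TwoTransTwo.Antiflag

/-!
Doubly transitive groups over GF(2): the pairing induced at a point, and transvections.
-/

set_option autoImplicit false
set_option linter.unusedSectionVars false

namespace CfsgLib.TwoTransTwo

open MulAction Module

variable {G : Type*} [Group G] [Finite G] {V V' : Type*} [AddCommGroup V] [Module (ZMod 2) V]
  [AddCommGroup V'] [Module (ZMod 2) V'] [DistribMulAction G V] [DistribMulAction G V']
  [Finite V] [Finite V']

instance finiteQuotient (M : Submodule (ZMod 2) V) : Finite (V ⧸ M) :=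
  Finite.of_surjective _ M.mkQ_surjective

theorem smul_mem_line (P : V) (g : stabilizer G P) {v : V} (hv : v ∈ line P) :
    (g : G) • v ∈ line P := by
  rcases mem_line.1 hv with rfl | rfl
  · simp
  · rw [mem_stabilizer_iff.1 g.2]; exact Submodule.mem_span_singleton_self _

/-- The stabilizer of a vector acts on the quotient by its line. -/
instance quoAction (P : V) : DistribMulAction (stabilizer G P) (V ⧸ line P) where
  smul g := (line P).mapQ (line P) (actLin (g : G)) fun _ hv => smul_mem_line P g hv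
  one_smul x := by
    induction x using Submodule.Quotient.induction_on with
    | _ v =>
      change Submodule.Quotient.mk ((1 : G) • v) = _
      rw [one_smul]
  mul_smul g g' x := by
    induction x using Submodule.Quotient.induction_on with
    | _ v =>
      change Submodule.Quotient.mk (((g * g' : stabilizer G P) : G) • v) =
        Submodule.Quotient.mk ((g : G) • ((g' : G) • v))
      rw [Subgroup.coe_mul, mul_smul]
  smul_zero g := ((line P).mapQ (line P) (actLin (g : G))
    fun _ hv => smul_mem_line P g hv).map_zero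
  smul_add g := ((line P).mapQ (line P) (actLin (g : G))
    fun _ hv => smul_mem_line P g hv).map_add

theorem smul_mk (P : V) (g : stabilizer G P) (v : V) :
    g • (Submodule.Quotient.mk v : V ⧸ line P) = Submodule.Quotient.mk ((g : G) • v) := rfl

theorem mk_eq_mk {P v w : V} :
    (Submodule.Quotient.mk v : V ⧸ line P) = Submodule.Quotient.mk w ↔ v = w ∨ v = w + P := by
  rw [Submodule.Quotient.eq, mem_line, sub_eq_zero, sub_eq_iff_eq_add, add_comm P w]

theorem mk_ne_zero {P v : V} :
    (Submodule.Quotient.mk v : V ⧸ line P) ≠ 0 ↔ v ≠ 0 ∧ v ≠ P := by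
  rw [Ne, Submodule.Quotient.mk_eq_zero, mem_line, not_or]

theorem finrank_quotient_line {P : V} (hP : P ≠ 0) :
    finrank (ZMod 2) (V ⧸ line P) + 1 = finrank (ZMod 2) V := by
  have := (line P).finrank_quotient_add_finrank
  rwa [finrank_line hP] at this

namespace Pairing

variable (D : Pairing G V V')

theorem smul_mem_ann (P : V) (g : stabilizer G P) {φ : V'} (h : φ ∈ D.flip.perp {P}) :
    (g : G) • φ ∈ D.flip.perp {P} := by
  rw [mem_perp_singleton, flip_form] at h ⊢
  have h1 := D.smul_form (g : G) P φ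
  rw [mem_stabilizer_iff.1 g.2] at h1
  exact h1.trans h

/-- The stabilizer of a vector acts on its annihilator. -/
instance annAction (P : V) : DistribMulAction (stabilizer G P) (D.flip.perp {P}) where
  smul g φ := ⟨(g : G) • (φ : V'), D.smul_mem_ann P g φ.2⟩
  one_smul φ := Subtype.ext (one_smul G (φ : V'))
  mul_smul g g' φ := Subtype.ext (mul_smul (g : G) (g' : G) (φ : V'))
  smul_zero g := Subtype.ext (smul_zero (g : G))
  smul_add g φ ψ := Subtype.ext (smul_add (g : G) (φ : V') (ψ : V'))

theorem coe_smul_ann (P : V) (g : stabilizer G P) (φ : D.flip.perp {P}) :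
    ((g • φ : D.flip.perp {P}) : V') = (g : G) • (φ : V') := rfl

theorem eq_zero_or_of_ann {P v : V}
    (h : ∀ φ, D.form P φ = 0 → D.form v φ = 0) : v ∈ line P := by
  rw [← D.perp_perp (line P)]
  refine fun φ hφ => h φ ?_
  exact hφ P (Submodule.mem_span_singleton_self P)

/-- The pairing induced at a point. -/
def loc (P : V) : Pairing (stabilizer G P) (V ⧸ line P) (D.flip.perp {P}) where
  form := (line P).liftQ (D.form.compl₂ (D.flip.perp {P}).subtype) fun v hv => by
    rw [LinearMap.mem_ker]
    refine LinearMap.ext fun φ => ?_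
    rcases mem_line.1 hv with rfl | rfl
    · simp
    · exact φ.2 _ rfl
  smul_form g x φ := by
    induction x using Submodule.Quotient.induction_on with
    | _ v => exact D.smul_form (g : G) v (φ : V')
  left_sep x h := by
    induction x using Submodule.Quotient.induction_on with
    | _ v =>
      exact (Submodule.Quotient.mk_eq_zero _).2
        (D.eq_zero_or_of_ann fun φ hφ => h ⟨φ, D.flip.mem_perp_singleton.2 hφ⟩)
  right_sep φ h := Subtype.ext (D.right_sep _ fun v => h (Submodule.Quotient.mk v))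

@[simp] theorem loc_form (P v : V) (φ : D.flip.perp {P}) :
    (D.loc P).form (Submodule.Quotient.mk v) φ = D.form v (φ : V') := rfl

/-- Double transitivity on the nonzero vectors. -/
def TwoTrans (_D : Pairing G V V') : Prop :=
  (∀ v w : V, v ≠ 0 → w ≠ 0 → ∃ g : G, g • v = w) ∧
    ∀ v x y : V, v ≠ 0 → x ≠ 0 → x ≠ v → y ≠ 0 → y ≠ v → ∃ g : G, g • v = v ∧ g • x = y

/-- Only the identity acts trivially. -/
def Faithful (_D : Pairing G V V') : Prop := ∀ g : G, (∀ v : V, g • v = v) → g = 1

/-- The transvection with given centre and axis. -/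
def IsTransvection (g : G) (P : V) (φ : V') : Prop :=
  P ≠ 0 ∧ φ ≠ 0 ∧ D.form P φ = 0 ∧ ∀ v, g • v = v + D.form v φ • P

/-- Some element is a transvection. -/
def HasTransvection : Prop := ∃ g P φ, D.IsTransvection g P φ

variable {D}

theorem Faithful.flip (hF : D.Faithful) : D.flip.Faithful := fun g h => hF g fun v => by
  rw [← sub_eq_zero]
  refine D.left_sep _ fun φ => ?_
  rw [map_sub, LinearMap.sub_apply, sub_eq_zero]
  conv_lhs => rw [← h φ]
  exact D.smul_form g v φ

theorem IsTransvection.smul_smul_self {g : G} {P : V} {φ : V'} (h : D.IsTransvection g P φ)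
    (v : V) : g • g • v = v := by
  obtain ⟨-, -, h0, h1⟩ := h
  rw [h1 v, smul_add, h1 v]
  have hP : g • (D.form v φ • P) = D.form v φ • P := by
    rw [h1, map_smul, LinearMap.smul_apply, h0, smul_zero, zero_smul, add_zero]
  rw [hP, add_assoc, add_self, add_zero]

theorem IsTransvection.flip {g : G} {P : V} {φ : V'} (h : D.IsTransvection g P φ) :
    D.flip.IsTransvection g φ P := by
  refine ⟨h.2.1, h.1, h.2.2.1, fun ψ => ?_⟩
  refine sub_eq_zero.1 (D.right_sep _ fun v => ?_)
  have h1 : D.form v (g • ψ) = D.form (g • v) ψ := by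
    conv_lhs => rw [← h.smul_smul_self v]
    exact D.smul_form g (g • v) ψ
  rw [map_sub, h1, h.2.2.2 v, flip_form]
  simp only [map_add, LinearMap.add_apply, map_smul, LinearMap.smul_apply, smul_eq_mul]
  ring

theorem HasTransvection.flip (h : D.HasTransvection) : D.flip.HasTransvection := by
  obtain ⟨g, P, φ, h⟩ := h
  exact ⟨g, φ, P, h.flip⟩

theorem IsTransvection.conj {g : G} {P : V} {φ : V'} (h : D.IsTransvection g P φ) (x : G) :
    D.IsTransvection (x * g * x⁻¹) (x • P) (x • φ) := by
  refine ⟨(smul_ne_zero_iff_ne x).2 h.1, (smul_ne_zero_iff_ne x).2 h.2.1,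
    by rw [D.smul_form]; exact h.2.2.1, fun v => ?_⟩
  rw [mul_smul, mul_smul, h.2.2.2, smul_add, smul_inv_smul, D.form_smul_left, inv_inv]
  congr 1
  exact (actLin x).map_smul _ _

namespace TwoTrans

open Classical in
theorem stab_trans_ann (h : D.TwoTrans) (hn : 2 ≤ finrank (ZMod 2) V) {P : V} (hP : P ≠ 0)
    {φ φ' : V'} (hφ : φ ≠ 0) (hφ' : φ' ≠ 0) (he : D.form P φ = D.form P φ') :
    ∃ g : G, g • P = P ∧ g • φ = φ' := by
  have hfix : ∀ (g : stabilizer G P), (g : G) • P = P := fun g => g.2
  have h3 : Nat.card (Quotient (orbitRel (stabilizer G P) V)) = 3 := by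
    refine card_orbits_eq_three (fun v => if v = 0 then 0 else if v = P then 1 else 2) ?_ ?_ ?_
    · intro g v
      have h1 : g • v = 0 ↔ v = 0 := smul_eq_zero_iff_eq _
      have h2 : g • v = P ↔ v = P :=
        ⟨fun e => MulAction.injective (g : G) (e.trans (hfix g).symm), fun e => e ▸ hfix g⟩
      simp only [h1, h2]
    · intro i
      obtain ⟨v, hv⟩ := exists_not_mem (M := line P) (by rw [finrank_line hP]; omega)
      rw [mem_line, not_or] at hv
      fin_cases i
      · exact ⟨0, by simp⟩
      · exact ⟨P, by simp [hP]⟩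
      · exact ⟨v, by simp [hv.1, hv.2]⟩
    · intro x y hxy
      split_ifs at hxy
      all_goals first
        | exact absurd hxy (by decide)
        | (refine ⟨1, ?_⟩; rw [one_smul]; simp_all; done)
        | (obtain ⟨g, hg, hgx⟩ := h.2 P x y hP (by assumption) (by assumption) (by assumption)
             (by assumption)
           exact ⟨⟨g, hg⟩, hgx⟩)
  have h3' : Nat.card (Quotient (orbitRel (stabilizer G P) V')) = 3 := by
    rw [← D.card_orbits]; exact h3
  obtain ⟨g, hg⟩ := orbit_of_three h3'
    (fun ψ => if ψ = 0 then 0 else if D.form P ψ = 0 then 1 else 2)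
    (by
      intro g ψ
      have h1 : g • ψ = 0 ↔ ψ = 0 := smul_eq_zero_iff_eq _
      have h2 : D.form P (g • ψ) = D.form P ψ := by
        have h4 := D.smul_form (g : G) P ψ
        rwa [hfix g] at h4
      simp only [h1, h2])
    (by
      intro i
      fin_cases i
      · exact ⟨0, by simp⟩
      · obtain ⟨ψ, hψ, hψ0⟩ := exists_ne_zero (M := D.flip.perp {P})
          (by have := D.flip.finrank_perp_singleton hP; have := D.finrank_eq; omega)
        exact ⟨ψ, by simp [hψ0, show D.form P ψ = 0 from hψ P rfl]⟩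
      · obtain ⟨ψ, hψ⟩ := D.exists_form_eq_one hP
        have hψ0 : ψ ≠ 0 := fun e => by simp [e] at hψ
        exact ⟨ψ, by simp [hψ, hψ0]⟩)
    (x := φ) (y := φ') (by simp [hφ, hφ', he])
  exact ⟨g, hfix g, hg⟩

theorem aft (h : D.TwoTrans) (hn : 2 ≤ finrank (ZMod 2) V) : D.AFT := by
  intro v φ v' φ' hv hv'
  have hv0 : v ≠ 0 := fun e => by simp [e] at hv
  have hv0' : v' ≠ 0 := fun e => by simp [e] at hv'
  have hφ : φ ≠ 0 := fun e => by simp [e] at hv
  have hφ' : φ' ≠ 0 := fun e => by simp [e] at hv'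
  obtain ⟨g, hg⟩ := h.1 v v' hv0 hv0'
  obtain ⟨g', hg1, hg2⟩ := h.stab_trans_ann hn hv0' (φ := g • φ) ((smul_ne_zero_iff_ne g).2 hφ) hφ'
    (by rw [hv', ← hg, D.smul_form, hv])
  exact ⟨g' * g, by rw [mul_smul, hg, hg1], by rw [mul_smul, hg2]⟩

theorem flag_trans (h : D.TwoTrans) (hn : 2 ≤ finrank (ZMod 2) V) {P P' : V} {φ φ' : V'}
    (hP : P ≠ 0) (hP' : P' ≠ 0) (hφ : φ ≠ 0) (hφ' : φ' ≠ 0) (h0 : D.form P φ = 0)
    (h0' : D.form P' φ' = 0) : ∃ g : G, g • P = P' ∧ g • φ = φ' := by
  obtain ⟨g, hg⟩ := h.1 P P' hP hP'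
  obtain ⟨g', hg1, hg2⟩ := h.stab_trans_ann hn hP' (φ := g • φ) ((smul_ne_zero_iff_ne g).2 hφ) hφ'
    (by rw [h0', ← hg, D.smul_form, h0])
  exact ⟨g' * g, by rw [mul_smul, hg, hg1], by rw [mul_smul, hg2]⟩

/-- Every incident pair is fixed by a Sylow 2-subgroup. -/
theorem flag (h : D.TwoTrans) (hn : 2 ≤ finrank (ZMod 2) V) {P : V} {φ : V'}
    (hP : P ≠ 0) (hφ : φ ≠ 0) (h0 : D.form P φ = 0) : D.Flag P φ := by
  obtain ⟨κ, hκ⟩ := (h.aft hn).exists_flag (by omega) hP
  obtain ⟨g, hg1, hg2⟩ := h.flag_trans hn hP hP hκ.2.1 hφ ((h.aft hn).form_eq_zero hn hκ) h0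
  rw [← hg1, ← hg2]
  exact hκ.smul g

open Classical in
theorem flip (h : D.TwoTrans) (hn : 2 ≤ finrank (ZMod 2) V) : D.flip.TwoTrans := by
  refine ⟨fun φ φ' hφ hφ' => (h.aft hn).flip.trans hφ hφ', fun φ x y hφ hx hx' hy hy' => ?_⟩
  have hfix : ∀ (g : stabilizer G φ), (g : G) • φ = φ := fun g => g.2
  have h3 : Nat.card (Quotient (orbitRel (stabilizer G φ) V)) = 3 := by
    refine card_orbits_eq_three
      (fun v => if v = 0 then 0 else if D.form v φ = 0 then 1 else 2) ?_ ?_ ?_
    · intro g v
      have h1 : g • v = 0 ↔ v = 0 := smul_eq_zero_iff_eq _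
      have h2 : D.form (g • v) φ = D.form v φ := by
        have h4 := D.smul_form (g : G) v φ
        rwa [hfix g] at h4
      simp only [h1, h2]
    · intro i
      fin_cases i
      · exact ⟨0, by simp⟩
      · obtain ⟨v, hv, hv0⟩ := exists_ne_zero (M := D.perp {φ})
          (by have := D.finrank_perp_singleton hφ; omega)
        exact ⟨v, by simp [hv0, D.mem_perp_singleton.1 hv]⟩
      · obtain ⟨v, hv⟩ := D.flip.exists_form_eq_one hφ
        have hv' : D.form v φ = 1 := hv
        have hv0 : v ≠ 0 := fun e => by simp [e] at hv'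
        exact ⟨v, by simp [hv', hv0]⟩
    · intro a b hab
      have key1 : a ≠ 0 → b ≠ 0 → D.form a φ = 0 → D.form b φ = 0 →
          ∃ g : stabilizer G φ, g • a = b := fun ha hb ha' hb' => by
        obtain ⟨g, hg1, hg2⟩ := h.flag_trans hn ha hb hφ hφ ha' hb'
        exact ⟨⟨g, hg2⟩, hg1⟩
      have key2 : D.form a φ ≠ 0 → D.form b φ ≠ 0 → ∃ g : stabilizer G φ, g • a = b :=
        fun ha' hb' => by
        obtain ⟨g, hg1, hg2⟩ := (h.aft hn) a φ b φ ((zmod_two_cases _).resolve_left ha')
          ((zmod_two_cases _).resolve_left hb')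
        exact ⟨⟨g, hg2⟩, hg1⟩
      split_ifs at hab
      all_goals first
        | exact absurd hab (by decide)
        | (refine ⟨1, ?_⟩; rw [one_smul]; simp_all; done)
        | (apply key1 <;> assumption)
        | (apply key2 <;> assumption)
  obtain ⟨g, hg⟩ := orbit_of_three (by rw [← D.card_orbits]; exact h3)
    (fun ψ => if ψ = 0 then 0 else if ψ = φ then 1 else 2)
    (by
      intro g ψ
      have h1 : g • ψ = 0 ↔ ψ = 0 := smul_eq_zero_iff_eq _
      have h2 : g • ψ = φ ↔ ψ = φ :=
        ⟨fun e => MulAction.injective (g : G) (e.trans (hfix g).symm), fun e => e ▸ hfix g⟩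
      simp only [h1, h2])
    (by
      intro i
      fin_cases i
      · exact ⟨0, by simp⟩
      · exact ⟨φ, by simp [hφ]⟩
      · exact ⟨x, by simp [hx, hx']⟩)
    (x := x) (y := y) (by simp [hx, hx', hy, hy'])
  exact ⟨g, hfix g, hg⟩

theorem finrank_loc {P : V} (hP : P ≠ 0) :
    finrank (ZMod 2) (V ⧸ line P) = finrank (ZMod 2) V - 1 := by
  have := finrank_quotient_line hP
  omega

theorem loc_aft (h : D.TwoTrans) (hn : 2 ≤ finrank (ZMod 2) V) {P : V} (hP : P ≠ 0) :
    (D.loc P).AFT := by
  intro x φ y ψ hx hy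
  induction x using Submodule.Quotient.induction_on with
  | _ v =>
    induction y using Submodule.Quotient.induction_on with
    | _ w =>
      rw [loc_form] at hx hy
      have hφ : (φ : V') ≠ 0 := fun e => by simp [e] at hx
      have hψ : (ψ : V') ≠ 0 := fun e => by simp [e] at hy
      obtain ⟨g, hg, hgφ⟩ := h.stab_trans_ann hn hP hφ hψ
        ((show D.form P (φ : V') = 0 from φ.2 P rfl).trans (ψ.2 P rfl).symm)
      obtain ⟨-, -, U, hU, hUP, hUψ⟩ := h.flag hn hP hψ (ψ.2 P rfl)
      obtain ⟨u, hu, huv⟩ := (h.aft hn).sylow_trans' hU hψ hUψ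
        (v := g • v) (v' := w) (by rw [← hgφ, D.smul_form, hx]) hy
      refine ⟨⟨u * g, ?_⟩, ?_, ?_⟩
      · rw [mem_stabilizer_iff, mul_smul, hg, hUP u hu]
      · rw [smul_mk]; congr 1; exact (mul_smul _ _ _).trans huv
      · refine Subtype.ext ?_
        rw [coe_smul_ann, mul_smul, hgφ, hUψ u hu]

/-- All incident pairs are centre and axis of transvections, if one is. -/
theorem all_transvections (h : D.TwoTrans) (hn : 2 ≤ finrank (ZMod 2) V)
    (ht : D.HasTransvection) {P : V} {φ : V'} (hP : P ≠ 0) (hφ : φ ≠ 0) (h0 : D.form P φ = 0) :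
    ∃ g, D.IsTransvection g P φ := by
  obtain ⟨g, P₀, φ₀, hg⟩ := ht
  obtain ⟨x, hx1, hx2⟩ := h.flag_trans hn hg.1 hP hg.2.1 hφ hg.2.2.1 h0
  exact ⟨x * g * x⁻¹, hx1 ▸ hx2 ▸ hg.conj x⟩

/-- Without transvections the stabilizer of a point is faithful on the quotient. -/
theorem loc_faithful (hF : D.Faithful) (ht : ¬ D.HasTransvection) {P : V} (hP : P ≠ 0) :
    (D.loc P).Faithful := by
  intro g hg
  refine Subtype.ext (hF _ fun v => ?_)
  by_contra hv
  set f : V →ₗ[ZMod 2] V := actLin (g : G) - LinearMap.id with hf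
  have hline : ∀ v, f v ∈ line P := fun v => by
    have := hg (Submodule.Quotient.mk v)
    rw [smul_mk, Submodule.Quotient.eq] at this
    simpa [hf] using this
  have hfP : f P = 0 := by simp [hf, mem_stabilizer_iff.1 g.2]
  have hrange : finrank (ZMod 2) (LinearMap.range f) = 1 := by
    refine le_antisymm ?_ ?_
    · rw [← finrank_line hP]
      exact Submodule.finrank_mono (by rintro _ ⟨v, rfl⟩; exact hline v)
    · rw [Nat.one_le_iff_ne_zero]
      intro e
      rw [Submodule.finrank_eq_zero] at e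
      have : f v ∈ LinearMap.range f := ⟨v, rfl⟩
      rw [e, Submodule.mem_bot] at this
      exact hv (by simpa [hf, sub_eq_zero] using this)
  obtain ⟨φ, hφ, hφ0⟩ := exists_ne_zero (M := D.flip.perp (LinearMap.ker f : Set V))
    (by
      have h1 := D.flip.finrank_perp (LinearMap.ker f)
      have h2 := LinearMap.finrank_range_add_finrank_ker f
      have h3 := D.finrank_eq
      omega)
  refine ht ⟨g, P, φ, hP, hφ0, hφ P (by simpa using hfP), fun w => ?_⟩
  have hker : LinearMap.ker f = D.perp {φ} :=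
    Submodule.eq_of_le_of_finrank_le (fun x hx => D.mem_perp_singleton.2 (hφ x hx))
      (by
        have h1 := D.finrank_perp_singleton hφ0
        have h2 := LinearMap.finrank_range_add_finrank_ker f
        omega)
  have hw : (g : G) • w = w + f w := by simp [hf]
  rw [hw]
  congr 1
  rcases zmod_two_cases (D.form w φ) with e | e
  · rw [e, zero_smul]
    have : w ∈ LinearMap.ker f := by rw [hker]; exact D.mem_perp_singleton.2 e
    exact LinearMap.mem_ker.1 this
  · rw [e, one_smul]
    refine (mem_line.1 (hline w)).resolve_left fun e' => ?_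
    have : w ∈ D.perp {φ} := by rw [← hker]; exact LinearMap.mem_ker.2 e'
    rw [D.mem_perp_singleton, e] at this
    exact one_ne_zero this

end TwoTrans

end Pairing

end CfsgLib.TwoTransTwo
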