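import Cfsg.Agent.TwoTransTwo.Hyperplane
import Cfsg.Agent.TwoTransTwo.Equality
import Cfsg.Agent.TwoTransTwo.Blocks

/-!
# Doubly transitive linear groups over GF(2) contain transvections

The main theorem: in dimension at least three a group doubly transitive on the nonzero vectors
contains a transvection, unless the dimension is four and sixteen does not divide the order.
-/

set_option autoImplicit false
set_option linter.unusedSectionVars false

namespace CfsgLib.TwoTransTwo

open MulAction Module

universe u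

namespace Pairing

/-- The statement of the main theorem in one dimension. -/
def HasKernel (n : ℕ) : Prop :=
  ∀ (G : Type u) (V : Type u) (V' : Type u) [Group G] [Finite G] [AddCommGroup V]
    [Module (ZMod 2) V] [AddCommGroup V'] [Module (ZMod 2) V'] [DistribMulAction G V]
    [DistribMulAction G V'] [Finite V] [Finite V'] (D : Pairing G V V'),
    finrank (ZMod 2) V = n → D.TwoTrans → D.Faithful →
      D.HasTransvection ∨ (n = 4 ∧ ¬ 16 ∣ Nat.card G)

variable {G : Type u} [Group G] [Finite G] {V V' : Type u} [AddCommGroup V] [Module (ZMod 2) V]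
  [AddCommGroup V'] [Module (ZMod 2) V'] [DistribMulAction G V] [DistribMulAction G V']
  [Finite V] [Finite V'] {D : Pairing G V V'}

theorem two_le_lrk (h : D.TwoTrans) (hF : D.Faithful) (ht : ¬ D.HasTransvection)
    (hn : 5 ≤ finrank (ZMod 2) V)
    (hrec : ∀ m, 3 ≤ m → m < finrank (ZMod 2) V → HasKernel.{u} m) : 2 ≤ D.lrk := by
  by_contra hk
  have h1 := (lrk_bounds h (by omega)).1
  obtain ⟨P, -, hP⟩ := exists_ne_zero (M := (⊤ : Submodule (ZMod 2) V))
    (by rw [finrank_top]; omega)
  have h2 := h.loc_twoTrans (by omega) hP (by rw [rk_loc h (by omega) hP]; omega)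
  have hd := TwoTrans.finrank_loc (V := V) hP
  rcases hrec _ (by omega) (by omega) _ _ _ (D.loc P) hd h2 (TwoTrans.loc_faithful hF ht hP) with
    hl | ⟨he, h16⟩
  · exact h.no_loc_transvection hF ht hn hP h2 hl
  · have := h.dvd_card_stab (by omega) hP
    rw [show finrank (ZMod 2) V - 1 = 4 from he] at this
    exact h16 this

theorem lrk_add_three (h : D.TwoTrans) (hn : 5 ≤ finrank (ZMod 2) V) :
    D.lrk + 3 ≤ finrank (ZMod 2) V := by
  have h1 := (lrk_bounds h (by omega)).2
  rcases Nat.lt_or_ge (D.lrk + 2) (finrank (ZMod 2) V) with hk | hk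
  · exact hk
  · exact (no_large h (by omega) (by omega)).elim

theorem link_facts (h : D.TwoTrans) (hn : 4 ≤ finrank (ZMod 2) V) :
    ∃ P : V, P ≠ 0 ∧ ∃ (κ : D.flip.perp {P}) (R : Submodule (ZMod 2) (V ⧸ line P)),
      κ ≠ 0 ∧ (D.loc P).Core κ R ∧ finrank (ZMod 2) R + 1 = D.flip.lrk := by
  obtain ⟨P, -, hP⟩ := exists_ne_zero (M := (⊤ : Submodule (ZMod 2) V))
    (by rw [finrank_top]; omega)
  obtain ⟨κ, -, hκ⟩ := exists_ne_zero (M := (⊤ : Submodule (ZMod 2) (D.flip.perp {P})))
    (by
      rw [finrank_top]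
      have := D.flip.finrank_perp_singleton hP
      have := D.finrank_eq
      omega)
  obtain ⟨R, hR⟩ := exists_core h hn hP hκ
  exact ⟨P, hP, κ, R, hκ, hR⟩

theorem not_spread (h : D.TwoTrans) (hn : 5 ≤ finrank (ZMod 2) V) (hk2 : 2 ≤ D.lrk)
    (hrec : ∀ m, 3 ≤ m → m < finrank (ZMod 2) V → HasKernel.{u} m) :
    finrank (ZMod 2) V ≤ 2 * D.lrk := by
  by_contra hk
  rcases Nat.lt_or_ge D.lrk 3 with hk3 | hk3
  · obtain ⟨P, hP, κ, R, hκ, hR, hRd⟩ := link_facts h (by omega)
    have hn' : 5 ≤ finrank (ZMod 2) V' := by rw [← D.finrank_eq]; exact hn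
    have h3 := lrk_add_three (h.flip (by omega)) hn'
    rw [← D.finrank_eq] at h3
    have hd := TwoTrans.finrank_loc (V := V) hP
    have hA := h.loc_aft (by omega) hP
    have hr := rk_loc h (by omega) hP
    have hL := hA.L_le_core (by omega) (by omega) hκ hR (by omega)
    have h4 := Submodule.finrank_mono hL
    have h5 := hA.finrank_L (by omega) hκ
    omega
  · refine no_spread h hn hk3 (by omega) fun W _ _ _ M hW hM => ?_
    rcases hrec (D.lrk + 1) (by omega) (by omega) _ _ _ (natPairing M) hW hM
      (natPairing_faithful M) with hl | ⟨he, -⟩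
    · exact Or.inl hl
    · exact Or.inr he

theorem lrk_lt_flip (h : D.TwoTrans) (hn : 5 ≤ finrank (ZMod 2) V)
    (hlo : finrank (ZMod 2) V ≤ 2 * D.lrk) : D.lrk < D.flip.lrk := by
  obtain ⟨P, hP, κ, R, hκ, hR, hRd⟩ := link_facts h (by omega)
  have hd := TwoTrans.finrank_loc (V := V) hP
  have hr := rk_loc h (by omega) hP
  have h3 := lrk_add_three h hn
  have := (h.loc_aft (by omega) hP).rk_le_core (by omega) (by omega) hκ hR
  omega

/-- The main theorem. -/
theorem hasKernel : ∀ n, 3 ≤ n → HasKernel.{u} n := by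
  intro n
  induction n using Nat.strong_induction_on with
  | _ n ih =>
    intro hn G V V' _ _ _ _ _ _ _ _ _ _ D hV h hF
    rcases (show n = 3 ∨ n = 4 ∨ 5 ≤ n by omega) with h3 | h4 | h5
    · exact Or.inl (h.dim_three hF (hV.trans h3))
    · by_cases ht : D.HasTransvection
      · exact Or.inl ht
      · exact Or.inr ⟨h4, h.dim_four hF ht (hV.trans h4)⟩
    · refine Or.inl (by_contra fun ht => ?_)
      subst hV
      have hf := h.flip (by omega)
      have hVV := D.finrank_eq
      have hrec : ∀ m, 3 ≤ m → m < finrank (ZMod 2) V → HasKernel.{u} m := fun m h1 h2 => ih m h2 h1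
      have hrec' : ∀ m, 3 ≤ m → m < finrank (ZMod 2) V' → HasKernel.{u} m := fun m h1 h2 =>
        ih m (by omega) h1
      have ht' : ¬ D.flip.HasTransvection := fun e => ht e.flip
      have hk := two_le_lrk h hF ht h5 hrec
      have hk' := two_le_lrk hf hF.flip ht' (by omega) hrec'
      have e1 := lrk_lt_flip h h5 (not_spread h h5 hk hrec)
      have e2 := lrk_lt_flip hf (by omega) (not_spread hf (by omega) hk' hrec')
      rw [flip_flip] at e2
      omega

/-- A doubly transitive faithful group in dimension at least three has a transvection, or the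
dimension is four and sixteen does not divide the order. -/
theorem hasTransvection_or (h : D.TwoTrans) (hF : D.Faithful) (hn : 3 ≤ finrank (ZMod 2) V) :
    D.HasTransvection ∨ (finrank (ZMod 2) V = 4 ∧ ¬ 16 ∣ Nat.card G) :=
  hasKernel _ hn G V V' D rfl h hF

end Pairing

section full

variable {V : Type*} [AddCommGroup V] [Module (ZMod 2) V] [Finite V]

/-- The transvections generate the general linear group. -/
theorem eq_top_of_transvections (H : Subgroup (V ≃ₗ[ZMod 2] V))
    (hH : ∀ (u : V) (φ : Module.Dual (ZMod 2) V), u ≠ 0 → φ ≠ 0 → φ u = 0 →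
      ∃ g : H, (natPairing H).IsTransvection g u φ) : H = ⊤ := by
  suffices key : ∀ (m : ℕ) (g : V ≃ₗ[ZMod 2] V) (M : Submodule (ZMod 2) V),
      (∀ v ∈ M, g v = v) → finrank (ZMod 2) V ≤ finrank (ZMod 2) M + m → g ∈ H from
    eq_top_iff.2 fun g _ => key (finrank (ZMod 2) V) g ⊥
      (fun v hv => by rw [(Submodule.mem_bot _).1 hv, map_zero]) (by omega)
  intro m
  induction m with
  | zero =>
    intro g M hM hd
    have hMt : M = ⊤ := Submodule.eq_top_of_finrank_eq
      (le_antisymm (Submodule.finrank_le M) (by omega))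
    rw [show g = 1 from LinearEquiv.ext fun v => hM v (hMt ▸ Submodule.mem_top)]
    exact H.one_mem
  | succ m ih =>
    intro g M hM hd
    by_cases hMt : finrank (ZMod 2) M = finrank (ZMod 2) V
    · exact ih g M hM (by omega)
    obtain ⟨v, hv⟩ := exists_not_mem (lt_of_le_of_ne (Submodule.finrank_le M) hMt)
    have hv0 : v ≠ 0 := fun e => hv (e ▸ zero_mem _)
    have hgv : g v ∉ M := fun hc => hv (by rw [← g.injective (hM _ hc)]; exact hc)
    have hM' : M < M ⊔ line v := lt_of_le_of_ne le_sup_left fun e =>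
      hv (e ▸ Submodule.mem_sup_right (Submodule.mem_span_singleton_self v))
    have hd' : finrank (ZMod 2) V ≤ finrank (ZMod 2) (M ⊔ line v : Submodule (ZMod 2) V) + m := by
      have := Submodule.finrank_lt_finrank_of_lt hM'
      omega
    have hext : ∀ (k : V ≃ₗ[ZMod 2] V), (∀ x ∈ M, k x = x) → k v = v →
        ∀ x ∈ M ⊔ line v, k x = x := fun k h1 h2 x hx => by
      obtain ⟨a, ha, b, hb, rfl⟩ := Submodule.mem_sup.1 hx
      rw [map_add, h1 a ha]
      rcases mem_line.1 hb with rfl | rfl
      · rw [map_zero]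
      · rw [h2]
    by_cases he : g v = v
    · exact ih g _ (hext g hM he) hd'
    set u := g v + v with hu
    have hu0 : u ≠ 0 := fun e => he (add_eq_zero.1 e)
    have hout : g v ∉ M ⊔ line u := by
      intro hc
      obtain ⟨a, ha, b, hb, hab⟩ := Submodule.mem_sup.1 hc
      rcases mem_line.1 hb with rfl | rfl
      · rw [add_zero] at hab; exact hgv (hab ▸ ha)
      · refine hv ?_
        have : a = v := by
          have h1 := add_eq_comm hab
          rw [hu, ← add_assoc, add_self, zero_add] at h1
          exact h1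
        exact this ▸ ha
    obtain ⟨φ, hφ, hφ1⟩ := (natPairing H).exists_form_ne_zero hout
    have hφ0 : φ ≠ 0 := fun e => by simp [e] at hφ1
    obtain ⟨t, ht⟩ := hH u φ hu0 hφ0
      (hφ u (Submodule.mem_sup_right (Submodule.mem_span_singleton_self u)))
    have hfix : ∀ x ∈ M ⊔ line v, ((t : V ≃ₗ[ZMod 2] V) * g) x = x := by
      refine hext _ (fun x hx => ?_) ?_
      · show (t : V ≃ₗ[ZMod 2] V) (g x) = x
        rw [hM x hx]
        have h1 : (natPairing H).form x φ = 0 := hφ x (Submodule.mem_sup_left hx)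
        have h2 := ht.2.2.2 x
        rw [h1, zero_smul, add_zero] at h2
        exact h2
      · show (t : V ≃ₗ[ZMod 2] V) (g v) = v
        have h2 := ht.2.2.2 (g v)
        rw [hφ1, one_smul, hu, ← add_assoc, add_self, zero_add] at h2
        exact h2
    have h3 := H.mul_mem (H.inv_mem t.2) (ih _ _ hfix hd')
    rwa [inv_mul_cancel_left] at h3

end full

end CfsgLib.TwoTransTwo
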