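import Cfsg.Agent.TwoTransTwo.Pairing

/-!
Orbit lemmas: odd index and two-power orbits, invariant subspaces of two-groups, and the equality
of the numbers of orbits on the two sides of a pairing.
-/

set_option autoImplicit false
set_option linter.unusedSectionVars false

namespace CfsgLib.TwoTransTwo

open MulAction Pointwise

variable {G : Type*} [Group G] [Finite G]

/-- A Sylow 2-subgroup, as a property of a subgroup. -/
def IsSyl (U : Subgroup G) : Prop := IsPGroup 2 U ∧ Odd U.index

theorem exists_isSyl {H : Subgroup G} (hH : Odd H.index) : ∃ U ≤ H, IsSyl U := by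
  obtain ⟨P⟩ := (inferInstance : Nonempty (Sylow 2 H))
  refine ⟨(P : Subgroup H).map H.subtype, Subgroup.map_subtype_le _, P.isPGroup'.map _, ?_⟩
  rw [Subgroup.index_map_subtype]
  refine Odd.mul ?_ hH
  rw [← Nat.not_even_iff_odd, even_iff_two_dvd]
  exact P.not_dvd_index

theorem IsSyl.odd_index_of_le {U H : Subgroup G} (hU : IsSyl U) (h : U ≤ H) : Odd H.index :=
  hU.2.of_dvd_nat (Subgroup.index_dvd_of_le h)

theorem IsSyl.conj {U U' : Subgroup G} (hU : IsSyl U) (hU' : IsSyl U') :
    ∃ g : G, ∀ u : G, u ∈ U → g * u * g⁻¹ ∈ U' := by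
  have h : ∀ {W : Subgroup G}, IsSyl W → ¬ 2 ∣ W.index := fun {W} hW h2 =>
    Nat.not_even_iff_odd.2 hW.2 (even_iff_two_dvd.2 h2)
  obtain ⟨g, hg⟩ := MulAction.exists_smul_eq G (hU.1.toSylow (h hU)) (hU'.1.toSylow (h hU'))
  refine ⟨g, fun u hu => ?_⟩
  have h1 : MulAut.conj g u ∈ ((g • hU.1.toSylow (h hU) : Sylow 2 G) : Subgroup G) := by
    show MulAut.conj g u ∈ MulAut.conj g • U
    exact Subgroup.smul_mem_pointwise_smul u (MulAut.conj g) _ hu
  rw [hg] at h1
  exact h1

theorem IsSyl.subgroupOf {U H : Subgroup G} (hU : IsSyl U) (h : U ≤ H) :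
    IsSyl (U.subgroupOf H) := by
  refine ⟨hU.1.of_equiv (Subgroup.subgroupOfEquivOfLe h).symm, ?_⟩
  have h2 := hU.2
  rw [← Subgroup.relIndex_mul_index h] at h2
  exact (Nat.odd_mul.1 h2).1

theorem IsSyl.map_subtype {H : Subgroup G} {U : Subgroup H} (hU : IsSyl U) (hH : Odd H.index) :
    IsSyl (U.map H.subtype) :=
  ⟨hU.1.map _, by rw [Subgroup.index_map_subtype]; exact hU.2.mul hH⟩

theorem IsSyl.conj_map {U : Subgroup G} (hU : IsSyl U) (g : G) :
    IsSyl (U.map (MulAut.conj g).toMonoidHom) :=
  ⟨hU.1.map _, by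
    rw [show (MulAut.conj g).toMonoidHom = ((MulAut.conj g : G ≃* G) : G →* G) from rfl,
      Subgroup.index_map_equiv]
    exact hU.2⟩

section transitive

variable {X : Type*} [MulAction G X]

/-- A Sylow 2-subgroup is transitive on an orbit of two-power size. -/
theorem IsSyl.orbit_eq [Finite X] {U : Subgroup G} (hU : IsSyl U) (x : X) {a : ℕ}
    (h : (orbit G x).ncard = 2 ^ a) : orbit U x = orbit G x := by
  have hsub : orbit U x ⊆ orbit G x := by
    rintro _ ⟨u, rfl⟩
    exact ⟨(u : G), rfl⟩
  refine Set.eq_of_subset_of_ncard_le hsub ?_ (Set.toFinite _)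
  have h1 : stabilizer U x = (stabilizer G x).subgroupOf U := by ext u; rfl
  have h2 : (orbit U x).ncard = (stabilizer G x).relIndex U := by
    rw [← MulAction.index_stabilizer, h1]; rfl
  have h3 : ((stabilizer G x) ⊓ U).index = (stabilizer G x).relIndex U * U.index := by
    rw [← Subgroup.relIndex_mul_index (inf_le_right : (stabilizer G x) ⊓ U ≤ U),
      Subgroup.inf_relIndex_right]
  have h4 : (orbit G x).ncard ∣ ((stabilizer G x) ⊓ U).index := by
    rw [← MulAction.index_stabilizer]; exact Subgroup.index_dvd_of_le inf_le_left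
  rw [h] at h4 ⊢
  rw [h3, ← h2] at h4
  have h5 : (2 ^ a).Coprime U.index :=
    Nat.Coprime.pow_left _ ((Nat.Prime.coprime_iff_not_dvd Nat.prime_two).2 fun h6 =>
      Nat.not_even_iff_odd.2 hU.2 (even_iff_two_dvd.2 h6))
  exact Nat.le_of_dvd ((Set.ncard_pos (Set.toFinite _)).2 ⟨x, mem_orbit_self x⟩)
    (h5.dvd_of_dvd_mul_right h4)

end transitive

section flagged

variable {V : Type*} [AddCommGroup V] [Module (ZMod 2) V] [DistribMulAction G V] [Finite V]

/-- A two-group fixes a nonzero vector. -/
theorem exists_fixed {U : Subgroup G} (hU : IsPGroup 2 U)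
    (h : 1 ≤ Module.finrank (ZMod 2) V) : ∃ v : V, v ≠ 0 ∧ ∀ g ∈ U, g • v = v := by
  obtain ⟨v, hv, hv0⟩ := hU.exists_fixed_point_of_prime_dvd_card_of_fixed_point V
    (by rw [card_space]; exact dvd_pow_self 2 (by omega)) (a := 0) (fun u => smul_zero _)
  exact ⟨v, hv0.symm, fun g hg => hv ⟨g, hg⟩⟩

/-- An invariant subspace of a two-group extends by one dimension. -/
theorem exists_invariant_succ {U : Subgroup G} (hU : IsPGroup 2 U) (M : Submodule (ZMod 2) V)
    (hM : ∀ g ∈ U, ∀ v ∈ M, g • v ∈ M)
    (h : Module.finrank (ZMod 2) M < Module.finrank (ZMod 2) V) :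
    ∃ N : Submodule (ZMod 2) V, M ≤ N ∧ (∀ g ∈ U, ∀ v ∈ N, g • v ∈ N) ∧
      Module.finrank (ZMod 2) N = Module.finrank (ZMod 2) M + 1 := by
  let _ : MulAction U (V ⧸ M) :=
    { smul := fun g => M.mapQ M (actLin (g : G)) (fun v hv => hM g g.2 v hv)
      one_smul := fun x => by
        induction x using Submodule.Quotient.induction_on with
        | _ v =>
          change Submodule.Quotient.mk ((1 : G) • v) = _
          rw [one_smul]
      mul_smul := fun g g' x => by
        induction x using Submodule.Quotient.induction_on with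
        | _ v =>
          change Submodule.Quotient.mk (((g * g' : U) : G) • v) =
            Submodule.Quotient.mk ((g : G) • ((g' : G) • v))
          rw [Subgroup.coe_mul, mul_smul] }
  haveI : Finite (V ⧸ M) := Finite.of_surjective _ M.mkQ_surjective
  have hq : Module.finrank (ZMod 2) (V ⧸ M) ≠ 0 := by
    have := M.finrank_quotient_add_finrank
    omega
  obtain ⟨x, hx, hx0⟩ := hU.exists_fixed_point_of_prime_dvd_card_of_fixed_point (V ⧸ M)
    (by rw [card_space]; exact dvd_pow_self 2 hq) (a := 0)
    (fun u => (M.mapQ M (actLin (u : G)) (fun v hv => hM u u.2 v hv)).map_zero)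
  induction x using Submodule.Quotient.induction_on with
  | _ v =>
    have hv : v ∉ M := fun hv => hx0 ((Submodule.Quotient.mk_eq_zero M).2 hv).symm
    have hv0 : v ≠ 0 := fun e => hv (e ▸ M.zero_mem)
    refine ⟨M ⊔ line v, le_sup_left, fun g hg w hw => ?_, ?_⟩
    · obtain ⟨a, ha, b, hb, rfl⟩ := Submodule.mem_sup.1 hw
      rw [smul_add]
      refine add_mem (Submodule.mem_sup_left (hM g hg a ha)) ?_
      have h1 : g • v - v ∈ M := (Submodule.Quotient.eq M).1 (hx ⟨g, hg⟩)
      have h2 : g • v ∈ M ⊔ line v := by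
        simpa using add_mem (Submodule.mem_sup_left h1 : g • v - v ∈ M ⊔ line v)
          (Submodule.mem_sup_right (Submodule.mem_span_singleton_self v))
      rcases mem_line.1 hb with rfl | rfl
      · rw [smul_zero]; exact zero_mem _
      · exact h2
    · have hd : M ⊓ line v = ⊥ := by
        rw [eq_bot_iff]
        rintro w ⟨hw, hw'⟩
        rcases mem_line.1 hw' with rfl | rfl
        · exact zero_mem _
        · exact (hv hw).elim
      have := Submodule.finrank_sup_add_finrank_inf_eq M (line v)
      rw [hd, finrank_bot, add_zero, finrank_line hv0] at this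
      exact this

/-- A two-group has invariant subspaces of every dimension, inside any invariant one. -/
theorem exists_invariant {U : Subgroup G} (hU : IsPGroup 2 U) (m : ℕ)
    (h : m ≤ Module.finrank (ZMod 2) V) :
    ∃ N : Submodule (ZMod 2) V, (∀ g ∈ U, ∀ v ∈ N, g • v ∈ N) ∧
      Module.finrank (ZMod 2) N = m := by
  induction m with
  | zero =>
    refine ⟨⊥, fun g _ v hv => ?_, finrank_bot _ _⟩
    rw [(Submodule.mem_bot _).1 hv, smul_zero]
    exact zero_mem _
  | succ m ih =>
    obtain ⟨M, hM, hMd⟩ := ih (by omega)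
    obtain ⟨N, -, hN, hNd⟩ := exists_invariant_succ hU M hM (by omega)
    exact ⟨N, hN, by omega⟩

/-- A two-group has invariant subspaces of every dimension inside an invariant subspace. -/
theorem exists_invariant_le {U : Subgroup G} (hU : IsPGroup 2 U) (S : Submodule (ZMod 2) V)
    (hS : ∀ g ∈ U, ∀ v ∈ S, g • v ∈ S) (m : ℕ) (h : m ≤ Module.finrank (ZMod 2) S) :
    ∃ N ≤ S, (∀ g ∈ U, ∀ v ∈ N, g • v ∈ N) ∧ Module.finrank (ZMod 2) N = m := by
  let _ : DistribMulAction U S :=
    { smul := fun g v => ⟨(g : G) • (v : V), hS g g.2 v v.2⟩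
      one_smul := fun v => Subtype.ext (one_smul G (v : V))
      mul_smul := fun g g' v => Subtype.ext (mul_smul (g : G) (g' : G) (v : V))
      smul_zero := fun g => Subtype.ext (smul_zero (g : G))
      smul_add := fun g v w => Subtype.ext (smul_add (g : G) (v : V) (w : V)) }
  have htop : IsPGroup 2 (⊤ : Subgroup U) := hU.to_subgroup _
  obtain ⟨N, hN, hNd⟩ := exists_invariant (V := S) htop m h
  refine ⟨N.map S.subtype, Submodule.map_subtype_le _ _, ?_, ?_⟩
  · rintro g hg _ ⟨v, hv, rfl⟩
    exact ⟨_, hN ⟨g, hg⟩ trivial v hv, rfl⟩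
  · rw [Submodule.finrank_map_subtype_eq, hNd]

end flagged

namespace Pairing

variable {V V' : Type*} [AddCommGroup V] [Module (ZMod 2) V]
  [AddCommGroup V'] [Module (ZMod 2) V'] [DistribMulAction G V] [DistribMulAction G V']
  [Finite V] [Finite V'] (D : Pairing G V V')

include D in
/-- An element fixes as many functionals as vectors. -/
theorem card_fixedBy (g : G) : Nat.card (fixedBy V g) = Nat.card (fixedBy V' g) := by
  set f : V →ₗ[ZMod 2] V := actLin g - LinearMap.id with hf
  have hker : (LinearMap.ker f : Set V) = fixedBy V g := by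
    ext v
    simp [hf, sub_eq_zero]
  have hperp : (D.flip.perp (LinearMap.range f : Set V) : Set V') = fixedBy V' g := by
    ext φ
    simp only [SetLike.mem_coe, Pairing.mem_perp, LinearMap.mem_range, forall_exists_index,
      forall_apply_eq_imp_iff, flip_form, MulAction.mem_fixedBy]
    constructor
    · intro h
      have h' : ∀ v, D.form v (g⁻¹ • φ) = D.form v φ := fun v => by
        rw [← D.form_smul_left, ← sub_eq_zero]
        have := h v
        simpa [hf] using this
      have : g⁻¹ • φ = φ := by
        rw [← sub_eq_zero]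
        exact D.right_sep _ fun v => by rw [map_sub, h' v, sub_self]
      conv_lhs => rw [← this]
      rw [smul_inv_smul]
    · intro h v
      simp only [hf, LinearMap.sub_apply, actLin_apply, LinearMap.id_coe, id_eq, map_sub,
        D.form_smul_left, inv_smul_eq_iff.2 h.symm, sub_self]
  rw [← hker, ← hperp, SetLike.coe_sort_coe, SetLike.coe_sort_coe, card_submodule, card_submodule]
  congr 1
  have h1 := D.flip.finrank_perp (LinearMap.range f)
  have h2 := LinearMap.finrank_range_add_finrank_ker f
  have h3 := D.finrank_eq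
  omega

include D in
/-- Any subgroup has as many orbits on functionals as on vectors. -/
theorem card_orbits (H : Subgroup G) :
    Nat.card (Quotient (orbitRel H V)) = Nat.card (Quotient (orbitRel H V')) := by
  classical
  let _ := Fintype.ofFinite H
  let _ := Fintype.ofFinite V
  let _ := Fintype.ofFinite V'
  have h1 := sum_card_fixedBy_eq_card_orbits_mul_card_group H V
  have h2 := sum_card_fixedBy_eq_card_orbits_mul_card_group H V'
  have h : ∀ g : H, Fintype.card (fixedBy V g) = Fintype.card (fixedBy V' g) := fun g => by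
    rw [← Nat.card_eq_fintype_card, ← Nat.card_eq_fintype_card]
    exact D.card_fixedBy (g : G)
  rw [Finset.sum_congr rfl fun g _ => h g, h2] at h1
  rw [Nat.card_eq_fintype_card, Nat.card_eq_fintype_card]
  exact (Nat.eq_of_mul_eq_mul_right Fintype.card_pos h1).symm

end Pairing

/-- Three invariant classes meeting exactly three orbits are the orbits. -/
theorem orbit_of_three {H X : Type*} [Group H] [MulAction H X] [Finite X]
    (h3 : Nat.card (Quotient (orbitRel H X)) = 3) (c : X → Fin 3)
    (hc : ∀ (g : H) (x : X), c (g • x) = c x) (hs : Function.Surjective c) {x y : X}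
    (hxy : c x = c y) : ∃ g : H, g • x = y := by
  let f : Quotient (orbitRel H X) → Fin 3 := Quotient.lift c fun a b hab => by
    obtain ⟨g, rfl⟩ := hab
    exact hc g b
  have hf : Function.Surjective f := fun i => by
    obtain ⟨a, rfl⟩ := hs i
    exact ⟨Quotient.mk _ a, rfl⟩
  have hb : Function.Bijective f := by
    let _ := Fintype.ofFinite (Quotient (orbitRel H X))
    refine (Fintype.bijective_iff_surjective_and_card f).2 ⟨hf, ?_⟩
    rw [← Nat.card_eq_fintype_card, h3, Fintype.card_fin]
  obtain ⟨g, hg⟩ := Quotient.exact (hb.1 (a₁ := Quotient.mk _ y) (a₂ := Quotient.mk _ x) hxy.symm)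
  exact ⟨g, hg⟩

/-- Three orbit representatives give three orbits. -/
theorem card_orbits_eq_three {H X : Type*} [Group H] [MulAction H X] [Finite X]
    (c : X → Fin 3) (hc : ∀ (g : H) (x : X), c (g • x) = c x) (hs : Function.Surjective c)
    (ho : ∀ x y, c x = c y → ∃ g : H, g • x = y) :
    Nat.card (Quotient (orbitRel H X)) = 3 := by
  let f : Quotient (orbitRel H X) → Fin 3 := Quotient.lift c fun a b hab => by
    obtain ⟨g, rfl⟩ := hab
    exact hc g b
  have hb : Function.Bijective f := by
    refine ⟨fun a b => ?_, fun i => ?_⟩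
    · induction a using Quotient.inductionOn with
      | _ a =>
        induction b using Quotient.inductionOn with
        | _ b =>
          intro h
          obtain ⟨g, hg⟩ := ho b a h.symm
          exact Quotient.sound ⟨g, hg⟩
    · obtain ⟨a, rfl⟩ := hs i
      exact ⟨Quotient.mk _ a, rfl⟩
  rw [Nat.card_eq_of_bijective f hb, Nat.card_eq_fintype_card, Fintype.card_fin]

end CfsgLib.TwoTransTwo
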