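import Mathlib

/-!
# Groups acting on a dual pair of spaces over the field with two elements

The setting for the proof that a group of linear maps over `GF(2)` which is doubly transitive on
the nonzero vectors contains a transvection (or is the exception in dimension four).
-/

set_option autoImplicit false
set_option linter.unusedSectionVars false

namespace CfsgLib.TwoTransTwo

open MulAction

theorem zmod_two_cases (a : ZMod 2) : a = 0 ∨ a = 1 := by
  fin_cases a
  · exact Or.inl rfl
  · exact Or.inr rfl

theorem zmod_two_add_self (a : ZMod 2) : a + a = 0 := CharTwo.add_self_eq_zero a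

section vec

variable {V : Type*} [AddCommGroup V] [Module (ZMod 2) V]

theorem add_self (v : V) : v + v = 0 := ZModModule.add_self v

theorem add_eq_zero {v w : V} : v + w = 0 ↔ v = w := by
  constructor
  · intro h
    calc v = v + (w + w) := by rw [add_self, add_zero]
      _ = (v + w) + w := by abel
      _ = w := by rw [h, zero_add]
  · rintro rfl; exact add_self v

theorem add_eq_comm {v w x : V} (h : v + w = x) : v = x + w := by
  rw [← h, add_assoc, add_self, add_zero]

/-- The line through a vector. -/
abbrev line (v : V) : Submodule (ZMod 2) V := Submodule.span (ZMod 2) {v}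

theorem mem_line {v x : V} : x ∈ line v ↔ x = 0 ∨ x = v := by
  rw [Submodule.mem_span_singleton]
  constructor
  · rintro ⟨a, rfl⟩
    rcases zmod_two_cases a with h | h <;> simp [h]
  · rintro (rfl | rfl)
    · exact ⟨0, zero_smul _ _⟩
    · exact ⟨1, one_smul _ _⟩

theorem card_submodule [Finite V] (M : Submodule (ZMod 2) V) :
    Nat.card M = 2 ^ Module.finrank (ZMod 2) M := by
  rw [Module.natCard_eq_pow_finrank (K := ZMod 2), Nat.card_zmod]

theorem card_space [Finite V] : Nat.card V = 2 ^ Module.finrank (ZMod 2) V := by
  rw [Module.natCard_eq_pow_finrank (K := ZMod 2), Nat.card_zmod]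

theorem ncard_submodule [Finite V] (M : Submodule (ZMod 2) V) :
    (M : Set V).ncard = 2 ^ Module.finrank (ZMod 2) M := by
  rw [← Nat.card_coe_set_eq]; exact card_submodule M

theorem ncard_univ_space [Finite V] :
    (Set.univ : Set V).ncard = 2 ^ Module.finrank (ZMod 2) V := by
  rw [Set.ncard_univ]; exact card_space

theorem ncard_nonzero [Finite V] (M : Submodule (ZMod 2) V) :
    ((M : Set V) \ {0}).ncard = 2 ^ Module.finrank (ZMod 2) M - 1 := by
  rw [Set.ncard_diff (by simp), Set.ncard_singleton, ncard_submodule]

theorem ncard_compl_submodule [Finite V] (M : Submodule (ZMod 2) V) :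
    {v : V | v ∉ M}.ncard = 2 ^ Module.finrank (ZMod 2) V - 2 ^ Module.finrank (ZMod 2) M := by
  rw [show {v : V | v ∉ M} = Set.univ \ (M : Set V) by ext; simp,
    Set.ncard_diff (Set.subset_univ _), ncard_univ_space, ncard_submodule]

theorem finrank_line {v : V} (hv : v ≠ 0) : Module.finrank (ZMod 2) (line v) = 1 :=
  finrank_span_singleton hv

theorem exists_not_mem [Finite V] {M : Submodule (ZMod 2) V}
    (h : Module.finrank (ZMod 2) M < Module.finrank (ZMod 2) V) : ∃ v, v ∉ M := by
  by_contra hc
  simp only [not_exists, not_not] at hc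
  rw [show M = ⊤ from eq_top_iff.2 fun v _ => hc v, finrank_top] at h
  exact lt_irrefl _ h

theorem exists_ne_zero [Finite V] {M : Submodule (ZMod 2) V}
    (h : 1 ≤ Module.finrank (ZMod 2) M) : ∃ v ∈ M, v ≠ 0 := by
  refine M.exists_mem_ne_zero_of_ne_bot fun e => ?_
  rw [e, finrank_bot] at h
  omega

theorem eq_line [Finite V] {M : Submodule (ZMod 2) V} (h : Module.finrank (ZMod 2) M ≤ 1) {v : V}
    (hv : v ∈ M) (hv0 : v ≠ 0) : M = line v :=
  (Submodule.eq_of_le_of_finrank_le ((Submodule.span_singleton_le_iff_mem _ _).2 hv)
    (by rw [finrank_line hv0]; exact h)).symm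

end vec

/-- A group acting on two spaces over `GF(2)` preserving a perfect pairing between them. -/
structure Pairing (G V V' : Type*) [Group G] [AddCommGroup V] [Module (ZMod 2) V]
    [AddCommGroup V'] [Module (ZMod 2) V'] [DistribMulAction G V] [DistribMulAction G V'] where
  /-- The pairing. -/
  form : V →ₗ[ZMod 2] V' →ₗ[ZMod 2] ZMod 2
  smul_form : ∀ (g : G) (v : V) (φ : V'), form (g • v) (g • φ) = form v φ
  left_sep : ∀ v : V, (∀ φ : V', form v φ = 0) → v = 0
  right_sep : ∀ φ : V', (∀ v : V, form v φ = 0) → φ = 0

theorem finrank_le {A A' : Type*} [AddCommGroup A] [Module (ZMod 2) A] [AddCommGroup A']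
    [Module (ZMod 2) A'] [Finite A] [Finite A'] (f : A →ₗ[ZMod 2] A' →ₗ[ZMod 2] ZMod 2)
    (hf : ∀ v, (∀ φ, f v φ = 0) → v = 0) :
    Module.finrank (ZMod 2) A ≤ Module.finrank (ZMod 2) A' := by
  rw [← Subspace.dual_finrank_eq (K := ZMod 2) (V := A')]
  exact LinearMap.finrank_le_finrank_of_injective (f := f)
    ((injective_iff_map_eq_zero f).2 fun v hv => hf v fun φ => by rw [hv]; rfl)

/-- The linear map of a group element. -/
def actLin {G V : Type*} [Group G] [AddCommGroup V] [Module (ZMod 2) V] [DistribMulAction G V]
    (g : G) : V →ₗ[ZMod 2] V :=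
  (DistribSMul.toAddMonoidHom V g).toZModLinearMap 2

@[simp] theorem actLin_apply {G V : Type*} [Group G] [AddCommGroup V] [Module (ZMod 2) V]
    [DistribMulAction G V] (g : G) (v : V) : actLin g v = g • v := rfl

namespace Pairing

variable {G V V' : Type*} [Group G] [AddCommGroup V] [Module (ZMod 2) V]
  [AddCommGroup V'] [Module (ZMod 2) V'] [DistribMulAction G V] [DistribMulAction G V']
  (D : Pairing G V V')

/-- The pairing with the two sides exchanged. -/
def flip : Pairing G V' V where
  form := D.form.flip
  smul_form g φ v := D.smul_form g v φ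
  left_sep := D.right_sep
  right_sep := D.left_sep

@[simp] theorem flip_form (φ : V') (v : V) : D.flip.form φ v = D.form v φ := rfl

@[simp] theorem flip_flip : D.flip.flip = D := rfl

theorem form_smul_left (g : G) (v : V) (φ : V') : D.form (g • v) φ = D.form v (g⁻¹ • φ) := by
  conv_lhs => rw [← smul_inv_smul g φ]
  exact D.smul_form _ _ _

theorem form_smul_right (g : G) (v : V) (φ : V') : D.form v (g • φ) = D.form (g⁻¹ • v) φ := by
  conv_lhs => rw [← smul_inv_smul g v]
  exact D.smul_form _ _ _

/-- The annihilator in `V` of a set of functionals. -/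
def perp (s : Set V') : Submodule (ZMod 2) V where
  carrier := {v | ∀ φ ∈ s, D.form v φ = 0}
  zero_mem' := fun φ _ => by simp
  add_mem' := fun {a b} ha hb φ hφ => by
    simp only [map_add, LinearMap.add_apply, ha φ hφ, hb φ hφ, add_zero]
  smul_mem' := fun c v hv φ hφ => by
    simp only [map_smul, LinearMap.smul_apply, hv φ hφ, smul_zero]

theorem mem_perp {s : Set V'} {v : V} : v ∈ D.perp s ↔ ∀ φ ∈ s, D.form v φ = 0 := Iff.rfl

theorem mem_perp_singleton {φ : V'} {v : V} : v ∈ D.perp {φ} ↔ D.form v φ = 0 := by
  simp [mem_perp]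

theorem perp_anti {s t : Set V'} (h : s ⊆ t) : D.perp t ≤ D.perp s :=
  fun _ hv φ hφ => hv φ (h hφ)

variable [Finite V] [Finite V']

include D in
theorem finrank_eq : Module.finrank (ZMod 2) V = Module.finrank (ZMod 2) V' :=
  le_antisymm (finrank_le D.form D.left_sep) (finrank_le D.form.flip D.right_sep)

theorem finrank_perp (M : Submodule (ZMod 2) V') :
    Module.finrank (ZMod 2) (D.perp (M : Set V')) + Module.finrank (ZMod 2) M =
      Module.finrank (ZMod 2) V := by
  set f : V →ₗ[ZMod 2] Module.Dual (ZMod 2) M := (M.subtype.dualMap).comp D.form with hf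
  have hker : LinearMap.ker f = D.perp (M : Set V') := by
    ext v
    simp only [LinearMap.mem_ker, mem_perp, hf, LinearMap.ext_iff, SetLike.mem_coe, Subtype.forall]
    rfl
  have hinj : Function.Injective D.form := (injective_iff_map_eq_zero D.form).2 fun v hv =>
    D.left_sep v fun φ => by rw [hv]; rfl
  have hsur : Function.Surjective D.form := by
    rw [← LinearMap.injective_iff_surjective_of_finrank_eq_finrank (by
      rw [Subspace.dual_finrank_eq, D.finrank_eq])]
    exact hinj
  have hf' : Function.Surjective f :=
    (LinearMap.dualMap_surjective_of_injective M.injective_subtype).comp hsur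
  have := LinearMap.finrank_range_add_finrank_ker f
  rw [LinearMap.range_eq_top.2 hf', finrank_top, Subspace.dual_finrank_eq, hker] at this
  omega

theorem finrank_perp_singleton {φ : V'} (hφ : φ ≠ 0) :
    Module.finrank (ZMod 2) (D.perp {φ}) + 1 = Module.finrank (ZMod 2) V := by
  have e : D.perp {φ} = D.perp (line φ : Set V') := by
    ext v
    rw [mem_perp_singleton]
    simp only [mem_perp, SetLike.mem_coe]
    constructor
    · intro h ψ hψ
      rcases mem_line.1 hψ with rfl | rfl
      · simp
      · exact h
    · exact fun h => h φ (Submodule.mem_span_singleton_self φ)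
  rw [e, ← finrank_line hφ]
  exact D.finrank_perp _

theorem perp_perp (M : Submodule (ZMod 2) V) : D.perp (D.flip.perp (M : Set V) : Set V') = M := by
  refine (Submodule.eq_of_le_of_finrank_le (fun v hv => ?_) ?_).symm
  · exact fun φ hφ => hφ v hv
  · have h1 := D.finrank_perp (D.flip.perp (M : Set V))
    have h2 := D.flip.finrank_perp M
    have h3 := D.finrank_eq
    omega

theorem exists_form_eq_one {v : V} (hv : v ≠ 0) : ∃ φ, D.form v φ = 1 := by
  by_contra hc
  simp only [not_exists] at hc
  exact hv (D.left_sep v fun φ => (zmod_two_cases _).resolve_right (hc φ))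

theorem ncard_form_eq_one {φ : V'} (hφ : φ ≠ 0) :
    {v : V | D.form v φ = 1}.ncard = 2 ^ (Module.finrank (ZMod 2) V - 1) := by
  have e : {v : V | D.form v φ = 1} = {v | v ∉ D.perp {φ}} := by
    ext v
    simp only [Set.mem_ofPred_eq, mem_perp_singleton]
    rcases zmod_two_cases (D.form v φ) with h | h <;> simp [h]
  rw [e, ncard_compl_submodule]
  have h := D.finrank_perp_singleton hφ
  rw [← h, Nat.add_sub_cancel, pow_succ]
  omega

/-- A space not contained in a hyperplane lies outside some functional of a given subspace. -/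
theorem exists_form_ne_zero {M : Submodule (ZMod 2) V} {v : V} (hv : v ∉ M) :
    ∃ φ ∈ D.flip.perp (M : Set V), D.form v φ = 1 := by
  by_contra hc
  simp only [not_exists, not_and] at hc
  refine hv ?_
  rw [← D.perp_perp M]
  exact fun φ hφ => (zmod_two_cases _).resolve_right (hc φ hφ)

end Pairing

end CfsgLib.TwoTransTwo
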