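import Cfsg.Agent.TwoTransTwo.Local

/-!
Dimensions three and four, and the case where the point stabilizer is doubly transitive on the
quotient.
-/

set_option autoImplicit false
set_option linter.unusedSectionVars false

namespace CfsgLib.TwoTransTwo

open MulAction Module

variable {G : Type*} [Group G] [Finite G] {V V' : Type*} [AddCommGroup V] [Module (ZMod 2) V]
  [AddCommGroup V'] [Module (ZMod 2) V'] [DistribMulAction G V] [DistribMulAction G V']
  [Finite V] [Finite V']

namespace Pairing

variable {D : Pairing G V V'}

theorem AFT.even_card (hA : D.AFT) (hd : 2 ≤ finrank (ZMod 2) V) : 2 ∣ Nat.card G := by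
  obtain ⟨P, -, hP⟩ := exists_ne_zero (M := (⊤ : Submodule (ZMod 2) V))
    (by rw [finrank_top]; omega)
  obtain ⟨φ, hφ⟩ := D.exists_form_eq_one hP
  have ho : orbit (stabilizer G P) φ = {ψ | D.flip.form ψ P = 1} := by
    ext ψ
    constructor
    · rintro ⟨⟨g, hg⟩, rfl⟩
      show D.form P (g • φ) = 1
      rw [← mem_stabilizer_iff.1 hg, D.smul_form, hφ]
    · intro hψ
      obtain ⟨g, hg, hg'⟩ := hA P φ P ψ hφ hψ
      exact ⟨⟨g, hg⟩, hg'⟩
  refine Dvd.dvd.trans ?_ ((Subgroup.index_dvd_card _).trans
    (Subgroup.card_subgroup_dvd_card (stabilizer G P)))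
    (b := (stabilizer (stabilizer G P) φ).index)
  rw [MulAction.index_stabilizer, ho, D.flip.ncard_form_eq_one hP]
  exact dvd_pow_self 2 (by have := D.finrank_eq; omega)

/-- In dimension three an involution is a transvection. -/
theorem TwoTrans.dim_three (h : D.TwoTrans) (hF : D.Faithful)
    (hn : finrank (ZMod 2) V = 3) : D.HasTransvection := by
  by_contra ht
  haveI := Fact.mk Nat.prime_two
  obtain ⟨g, hg⟩ := exists_prime_orderOf_dvd_card' 2 ((h.aft (by omega)).even_card (by omega))
  have hg1 : g ≠ 1 := fun e => by rw [e, orderOf_one] at hg; omega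
  have hgg : ∀ v : V, g • g • v = v := fun v => by
    rw [← mul_smul, ← pow_two, ← hg, pow_orderOf_eq_one, one_smul]
  set f : V →ₗ[ZMod 2] V := actLin g - LinearMap.id with hf
  have hff : LinearMap.range f ≤ LinearMap.ker f := by
    rintro _ ⟨v, rfl⟩
    rw [LinearMap.mem_ker]
    simp only [hf, LinearMap.sub_apply, actLin_apply, LinearMap.id_coe, id_eq, smul_sub, hgg]
    rw [ZModModule.sub_eq_add, ZModModule.sub_eq_add, ZModModule.sub_eq_add]
    rw [add_comm (g • v) v]
    exact add_self _
  obtain ⟨v, hv⟩ : ∃ v : V, g • v ≠ v := by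
    by_contra hc
    exact hg1 (hF g fun v => by_contra fun e => hc ⟨v, e⟩)
  set P := f v with hP
  have hP0 : P ≠ 0 := by simpa [hP, hf, sub_eq_zero] using hv
  have hgP : g • P = P := by
    have := LinearMap.mem_ker.1 (hff ⟨v, rfl⟩ : P ∈ LinearMap.ker f)
    simpa [hf, sub_eq_zero] using this
  have hr : LinearMap.range f = line P := eq_line
    (by
      have h1 := Submodule.finrank_mono hff
      have h2 := LinearMap.finrank_range_add_finrank_ker f
      omega) ⟨v, rfl⟩ hP0
  have := TwoTrans.loc_faithful hF ht hP0 ⟨g, hgP⟩ fun x => by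
    induction x using Submodule.Quotient.induction_on with
    | _ w =>
      rw [smul_mk, Submodule.Quotient.eq, ← hr]
      exact ⟨w, by simp [hf]⟩
  exact hg1 (congrArg Subtype.val this)

theorem card_dvd_168 {H W W' : Type*} [Group H] [Finite H] [AddCommGroup W] [Module (ZMod 2) W]
    [AddCommGroup W'] [Module (ZMod 2) W'] [DistribMulAction H W] [DistribMulAction H W']
    [Finite W] [Finite W'] {E : Pairing H W W'} (hE : E.Faithful)
    (hd : finrank (ZMod 2) W = 3) : Nat.card H ∣ 168 := by
  classical
  haveI := Fact.mk Nat.prime_two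
  let ρ : H →* Module.End (ZMod 2) W :=
    { toFun := fun g => actLin g
      map_one' := LinearMap.ext fun v => one_smul H v
      map_mul' := fun a b => LinearMap.ext fun v => mul_smul a b v }
  let e := (LinearMap.toMatrixAlgEquiv
    (Module.finBasisOfFinrankEq (ZMod 2) W hd)).toMulEquiv
  let f : H →* GL (Fin 3) (ZMod 2) := (Units.mapEquiv e).toMonoidHom.comp ρ.toHomUnits
  have hf : Function.Injective f := by
    refine (injective_iff_map_eq_one f).2 fun g hg => hE g fun v => ?_
    have h1 : ρ.toHomUnits g = 1 :=
      (Units.mapEquiv e).injective (hg.trans (map_one _).symm)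
    have h2 : ρ g = 1 := congrArg Units.val h1
    exact LinearMap.congr_fun h2 v
  have h168 : Nat.card (GL (Fin 3) (ZMod 2)) = 168 := by
    rw [Matrix.card_GL_field]
    simp [Fin.prod_univ_three, ZMod.card]
  rw [← h168]
  exact Subgroup.card_dvd_of_injective f hf

/-- In dimension four a group without transvections has order not divisible by sixteen. -/
theorem TwoTrans.dim_four (h : D.TwoTrans) (hF : D.Faithful) (ht : ¬ D.HasTransvection)
    (hn : finrank (ZMod 2) V = 4) : ¬ 16 ∣ Nat.card G := by
  obtain ⟨P, -, hP⟩ := exists_ne_zero (M := (⊤ : Submodule (ZMod 2) V))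
    (by rw [finrank_top]; omega)
  intro h16
  have h1 := card_dvd_168 (TwoTrans.loc_faithful hF ht hP) (by rw [finrank_loc hP, hn])
  have h2 : (stabilizer G P).index = 15 := by
    rw [MulAction.index_stabilizer, (h.aft (by omega)).orbit_eq hP, ncard_ne_zero, hn]
    norm_num
  rw [← Subgroup.card_mul_index (stabilizer G P), h2] at h16
  have h3 : 16 ∣ Nat.card (stabilizer G P) :=
    (Nat.Coprime.dvd_mul_right (by norm_num : Nat.Coprime 16 15)).1 h16
  exact absurd (h3.trans h1) (by norm_num)

/-- The stabilizer of a point is doubly transitive on the quotient when the parameter is one. -/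
theorem TwoTrans.loc_twoTrans (h : D.TwoTrans) (hn : 3 ≤ finrank (ZMod 2) V) {P : V} (hP : P ≠ 0)
    (hk : (D.loc P).rk = 1) : (D.loc P).TwoTrans := by
  have hA := h.loc_aft (by omega) hP
  refine ⟨fun v w => hA.trans, fun v x y hv hx hxv hy hyv => hA.trans_off ?_ ?_⟩
  · rw [eq_line (le_of_eq ((hA.finrank_S hv).trans hk))
      (hA.self_mem_S (by rw [finrank_loc hP]; omega) v) hv, mem_line]
    tauto
  · rw [eq_line (le_of_eq ((hA.finrank_S hv).trans hk))
      (hA.self_mem_S (by rw [finrank_loc hP]; omega) v) hv, mem_line]
    tauto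

theorem TwoTrans.dvd_card_stab (h : D.TwoTrans) (hn : 2 ≤ finrank (ZMod 2) V) {P : V}
    (hP : P ≠ 0) : 2 ^ (finrank (ZMod 2) V - 1) ∣ Nat.card (stabilizer G P) := by
  obtain ⟨φ, hφ⟩ := D.exists_form_eq_one hP
  have ho : orbit (stabilizer G P) φ = {ψ | D.flip.form ψ P = 1} := by
    ext ψ
    constructor
    · rintro ⟨⟨g, hg⟩, rfl⟩
      show D.form P (g • φ) = 1
      rw [← mem_stabilizer_iff.1 hg, D.smul_form, hφ]
    · intro hψ
      obtain ⟨g, hg, hg'⟩ := (h.aft hn) P φ P ψ hφ hψ
      exact ⟨⟨g, hg⟩, hg'⟩
  rw [D.finrank_eq, ← D.flip.ncard_form_eq_one hP, ← ho, ← MulAction.index_stabilizer]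
  exact Subgroup.index_dvd_card _

/-- Transvections on the quotient lift to transvections. -/
theorem TwoTrans.no_loc_transvection (h : D.TwoTrans) (hF : D.Faithful)
    (ht : ¬ D.HasTransvection) (hn : 5 ≤ finrank (ZMod 2) V) {P : V} (hP : P ≠ 0)
    (h2 : (D.loc P).TwoTrans) : ¬ (D.loc P).HasTransvection := by
  intro htl
  have hlf := TwoTrans.loc_faithful hF ht hP
  have hd : 2 ≤ finrank (ZMod 2) (V ⧸ line P) := by rw [finrank_loc hP]; omega
  have hVV := D.finrank_eq
  obtain ⟨g, u, φ, hu, hφ, hu0, hg⟩ := htl
  have hflip : (D.loc P).flip.IsTransvection g φ u :=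
    IsTransvection.flip (D := D.loc P) ⟨hu, hφ, hu0, hg⟩
  induction u using Submodule.Quotient.induction_on with
  | _ u =>
    have hfl : ∀ ψ : D.flip.perp {P}, (g : G) • (ψ : V') = (ψ : V') + D.form u (ψ : V') • (φ : V') :=
      fun ψ => by
        have := congrArg Subtype.val (hflip.2.2.2 ψ)
        simpa [coe_smul_ann] using this
    obtain ⟨κ, hκ⟩ := D.exists_form_eq_one hP
    set τ := (g : G) • κ + κ with hτ
    have hτP : τ ∈ D.flip.perp {P} := by
      rw [mem_perp_singleton, flip_form, hτ, map_add]
      have := D.smul_form (g : G) P κ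
      rw [mem_stabilizer_iff.1 g.2] at this
      rw [this, hκ]
      exact zmod_two_add_self 1
    have hgφ : (g : G) • (φ : V') = φ := by
      rw [hfl φ]
      have : D.form u (φ : V') = 0 := hu0
      rw [this, zero_smul, add_zero]
    have hφ0 : (φ : V') ≠ 0 := fun e => hφ (Subtype.ext e)
    by_cases hline : τ ∈ line (φ : V')
    · have h1 := TwoTrans.loc_faithful (D := D.flip) hF.flip (fun e => ht e.flip) hφ0
        ⟨(g : G), hgφ⟩ fun x => by
          induction x using Submodule.Quotient.induction_on with
          | _ ψ =>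
            rw [smul_mk, Submodule.Quotient.eq]
            rcases zmod_two_cases (D.form P ψ) with e | e
            · change (g : G) • ψ - ψ ∈ _
              have h1 : (g : G) • ψ = ψ + D.form u ψ • (φ : V') :=
                hfl ⟨ψ, D.flip.mem_perp_singleton.2 e⟩
              rw [h1, add_sub_cancel_left]
              exact Submodule.smul_mem _ _ (Submodule.mem_span_singleton_self _)
            · change (g : G) • ψ - ψ ∈ _
              have hmem : ψ + κ ∈ D.flip.perp {P} := by
                rw [mem_perp_singleton, flip_form, map_add, e, hκ]; exact zmod_two_add_self 1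
              have h1 : (g : G) • (ψ + κ) = (ψ + κ) + D.form u (ψ + κ) • (φ : V') :=
                hfl ⟨ψ + κ, hmem⟩
              have h2 : (g : G) • ψ - ψ = D.form u (ψ + κ) • (φ : V') + τ := by
                rw [smul_add] at h1
                rw [ZModModule.sub_eq_add, add_eq_comm h1, hτ]
                abel_nf
                simp [two_smul, two_zsmul, add_self]
              rw [h2]
              exact add_mem (Submodule.smul_mem _ _ (Submodule.mem_span_singleton_self _)) hline
      have hg1 : g = 1 := Subtype.ext
        (show (g : G) = ((1 : stabilizer G P) : G) from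
          congrArg (fun z : stabilizer G (φ : V') => (z : G)) h1)
      obtain ⟨x, hx⟩ := (D.loc P).flip.exists_form_eq_one hφ
      have := hg x
      rw [hg1, one_smul, show (D.loc P).form x φ = 1 from hx, one_smul] at this
      exact hu (add_left_cancel ((add_zero x).trans this)).symm
    · obtain ⟨v, hv, hvτ⟩ := D.flip.exists_form_ne_zero hline
      have hvτ' : D.form v τ = 1 := hvτ
      have hvφ : D.form v (φ : V') = 0 := hv _ (Submodule.mem_span_singleton_self _)
      have hvP : v ∉ line P := by
        intro e
        rcases mem_line.1 e with rfl | rfl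
        · simp at hvτ'
        · rw [show D.form v τ = 0 from hτP v rfl] at hvτ'; exact zero_ne_one hvτ'
      set M := line P ⊔ line u ⊔ line v with hM
      have hMd : finrank (ZMod 2) M ≤ 3 := by
        have := Submodule.finrank_add_le_finrank_add_finrank (line P ⊔ line u) (line v)
        have := Submodule.finrank_add_le_finrank_add_finrank (line P) (line u)
        have := finrank_line hP
        have hvv : finrank (ZMod 2) (line v) ≤ 1 := by
          rw [finrank_line (fun e => hvP (by rw [e]; exact zero_mem _))]
        have huu : finrank (ZMod 2) (line u) ≤ 1 := by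
          rw [finrank_line (mk_ne_zero.1 hu).1]
        rw [hM]
        omega
      obtain ⟨ψ, hψM, hψφ⟩ : ∃ ψ ∈ D.flip.perp (M : Set V), ψ ∉ line (φ : V') := by
        by_contra hc
        simp only [not_exists, not_and, not_not] at hc
        have h1 := Submodule.finrank_mono (show D.flip.perp (M : Set V) ≤ line (φ : V') from hc)
        have h2 := D.flip.finrank_perp M
        rw [finrank_line hφ0] at h1
        omega
      have hψP : ψ ∈ D.flip.perp {P} := D.flip.mem_perp_singleton.2
        (hψM P (Submodule.mem_sup_left (Submodule.mem_sup_left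
          (Submodule.mem_span_singleton_self P))))
      have huψ : D.form u ψ = 0 :=
        hψM u (Submodule.mem_sup_left (Submodule.mem_sup_right (Submodule.mem_span_singleton_self u)))
      have hvψ : D.form v ψ = 0 :=
        hψM v (Submodule.mem_sup_right (Submodule.mem_span_singleton_self v))
      have hψ0 : ψ ≠ 0 := fun e => hψφ (e ▸ zero_mem _)
      obtain ⟨s, hs⟩ := h2.all_transvections hd ⟨g, _, φ, hu, hφ, hu0, hg⟩
        (P := Submodule.Quotient.mk v) (φ := ⟨ψ, hψP⟩)
        (fun e => hvP ((Submodule.Quotient.mk_eq_zero _).1 e))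
        (fun e => hψ0 (congrArg Subtype.val e)) hvψ
      have hcomm : g * s = s * g := by
        refine inv_mul_eq_one.1 (hlf ((g * s)⁻¹ * (s * g)) fun x => ?_)
        rw [mul_smul, inv_smul_eq_iff]
        simp only [mul_smul, hg, hs.2.2.2, map_add, LinearMap.add_apply, map_smul,
          LinearMap.smul_apply, smul_add]
        have e1 : (D.loc P).form (Submodule.Quotient.mk v) φ = 0 := hvφ
        have e2 : (D.loc P).form (Submodule.Quotient.mk u) ⟨ψ, hψP⟩ = 0 := huψ
        simp only [e1, e2, smul_zero, add_zero]
        abel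
      have hsfl : (s : G) • τ = τ + ψ := by
        have := congrArg Subtype.val (hs.flip.2.2.2 ⟨τ, hτP⟩)
        simpa [coe_smul_ann, hvτ'] using this
      set σ := (s : G) • κ + κ with hσ
      have hσP : σ ∈ D.flip.perp {P} := by
        rw [mem_perp_singleton, flip_form, hσ, map_add]
        have := D.smul_form (s : G) P κ
        rw [mem_stabilizer_iff.1 s.2] at this
        rw [this, hκ]
        exact zmod_two_add_self 1
      have hmain : (s : G) • τ = τ + D.form u σ • (φ : V') := by
        have h1 : (g : G) • σ = σ + D.form u σ • (φ : V') := hfl ⟨σ, hσP⟩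
        have hc : (s : G) * (g : G) = (g : G) * (s : G) := congrArg Subtype.val hcomm.symm
        have h2 : (s : G) • τ = (g : G) • ((s : G) • κ) + (s : G) • κ := by
          rw [hτ, smul_add, ← mul_smul, hc, mul_smul]
        have h3 : (s : G) • κ = σ + κ := by rw [hσ, add_assoc, add_self, add_zero]
        have h5 : (g : G) • σ = D.form u σ • (φ : V') + σ := by rw [h1, add_comm]
        rw [h2, h3, smul_add, h5, hτ]
        abel_nf
        simp [two_smul, two_zsmul, add_self]
      rw [hsfl] at hmain
      exact hψφ (add_left_cancel hmain ▸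
        Submodule.smul_mem _ _ (Submodule.mem_span_singleton_self _))

end Pairing

end CfsgLib.TwoTransTwo
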