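import Cfsg.Agent.TwoTransTwo.Lines
import Cfsg.Agent.TwoTransTwo.Small
import Cfsg.Agent.TwoTransTwo.Dual

/-!
The spread case: the blocks through a point would give an abelian set of slopes centralized by
transvections.
-/

set_option autoImplicit false
set_option linter.unusedSectionVars false

namespace CfsgLib.TwoTransTwo

open MulAction Module

variable {G : Type*} [Group G] [Finite G] {V V' : Type*} [AddCommGroup V] [Module (ZMod 2) V]
  [AddCommGroup V'] [Module (ZMod 2) V'] [DistribMulAction G V] [DistribMulAction G V']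
  [Finite V] [Finite V']

namespace Pairing

/-- The subspaces of a spread. -/
def InSpread (E : Pairing G V V') (A : Submodule (ZMod 2) V) : Prop :=
  ∃ w : V, w ≠ 0 ∧ E.S w = A

/-- A map between two spread subspaces whose graph is again one. -/
def IsGraph (E : Pairing G V V') {A B : Submodule (ZMod 2) V} (f : A →ₗ[ZMod 2] B) : Prop :=
  Function.Injective f ∧
    ∀ a a' : A, a ≠ 0 → a' ≠ 0 → E.S ((a : V) + f a) = E.S ((a' : V) + f a')

/-- Right multiplication by `δ` preserves graphs. -/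
def Slope (E : Pairing G V V') {A : Submodule (ZMod 2) V} (δ : A →ₗ[ZMod 2] A) : Prop :=
  ∀ (B : Submodule (ZMod 2) V) (f : A →ₗ[ZMod 2] B), E.InSpread B → B ≠ A → E.IsGraph f →
    E.IsGraph (f.comp δ)

/-- The hypotheses on a spread. -/
structure Spreadlike (E : Pairing G V V') : Prop where
  aft : E.AFT
  small : 2 * E.rk < finrank (ZMod 2) V
  three : 3 ≤ E.rk

variable {E : Pairing G V V'}

namespace Spreadlike

theorem two_le (H : E.Spreadlike) : 2 ≤ finrank (ZMod 2) V := by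
  have := H.small; have := H.three; omega

theorem finrank_eq_rk (H : E.Spreadlike) {A : Submodule (ZMod 2) V} (hA : E.InSpread A) :
    finrank (ZMod 2) A = E.rk := by
  obtain ⟨w, hw, rfl⟩ := hA
  exact H.aft.finrank_S hw

theorem S_eq_of_mem (H : E.Spreadlike) {A : Submodule (ZMod 2) V} (hA : E.InSpread A) {v : V}
    (hv : v ∈ A) (hv0 : v ≠ 0) : E.S v = A := by
  obtain ⟨w, hw, rfl⟩ := hA
  exact H.aft.S_eq_of_small H.two_le H.small.le hw hv hv0

theorem inf_eq_bot (H : E.Spreadlike) {A B : Submodule (ZMod 2) V} (hA : E.InSpread A)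
    (hB : E.InSpread B) (hne : A ≠ B) : A ⊓ B = ⊥ := by
  by_contra h
  obtain ⟨v, hv, hv0⟩ := Submodule.exists_mem_ne_zero_of_ne_bot h
  exact hne ((H.S_eq_of_mem hA hv.1 hv0).symm.trans (H.S_eq_of_mem hB hv.2 hv0))

theorem inSpread_S {v : V} (hv : v ≠ 0) : E.InSpread (E.S v) := ⟨v, hv, rfl⟩

/-- The sum of two members is a union of members. -/
theorem S_le_sup (H : E.Spreadlike) {A B : Submodule (ZMod 2) V} (hA : E.InSpread A)
    (hB : E.InSpread B) {v : V} (hv : v ∈ A ⊔ B) (hv0 : v ≠ 0) : E.S v ≤ A ⊔ B := by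
  intro x hx
  rw [← E.perp_perp (A ⊔ B)]
  intro φ hφ
  by_cases hφ0 : φ = 0
  · simp [hφ0]
  have hle : A ⊔ B ≤ E.perp {φ} := fun w hw => E.mem_perp_singleton.2 (hφ w hw)
  have key : ∀ {C : Submodule (ZMod 2) V}, E.InSpread C → C ≤ E.perp {φ} → C ≤ E.L φ := by
    intro C hC hCφ c hc
    refine (H.aft.mem_L H.two_le hφ0).2 ?_
    by_cases hc0 : c = 0
    · exact Or.inl hc0
    · exact Or.inr ((H.S_eq_of_mem hC hc hc0).le.trans hCφ)
  have hm : v ∈ E.L φ :=
    sup_le (key hA (le_sup_left.trans hle)) (key hB (le_sup_right.trans hle)) hv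
  exact E.mem_perp_singleton.1 (((H.aft.mem_L H.two_le hφ0).1 hm).resolve_left hv0 hx)

theorem graph_ne (H : E.Spreadlike) {A B : Submodule (ZMod 2) V} (hA : E.InSpread A)
    (hB : E.InSpread B) (hne : A ≠ B) {a b : V} (ha : a ∈ A) (ha0 : a ≠ 0) (hb : b ∈ B)
    (hb0 : b ≠ 0) : a + b ≠ 0 ∧ E.S (a + b) ≠ A ∧ E.S (a + b) ≠ B := by
  have h := H.inf_eq_bot hA hB hne
  have h0 : a + b ≠ 0 := fun e => ha0 (by
    have : a ∈ A ⊓ B := ⟨ha, by rw [add_eq_zero.1 e]; exact hb⟩
    rw [h] at this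
    exact (Submodule.mem_bot _).1 this)
  refine ⟨h0, fun e => hb0 ?_, fun e => ha0 ?_⟩
  · have h1 := H.aft.self_mem_S H.two_le (a + b)
    rw [e] at h1
    have : b ∈ A ⊓ B := ⟨by simpa using sub_mem h1 ha, hb⟩
    rw [h] at this
    exact (Submodule.mem_bot _).1 this
  · have h1 := H.aft.self_mem_S H.two_le (a + b)
    rw [e] at h1
    have : a ∈ A ⊓ B := ⟨ha, by simpa using sub_mem h1 hb⟩
    rw [h] at this
    exact (Submodule.mem_bot _).1 this

theorem exists_graph (H : E.Spreadlike) {A B : Submodule (ZMod 2) V} (hA : E.InSpread A)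
    (hB : E.InSpread B) (hne : A ≠ B) (a : A) (b : B) (ha : a ≠ 0) (hb : b ≠ 0) :
    ∃ f : A →ₗ[ZMod 2] B, E.IsGraph f ∧ f a = b := by
  have ha' : (a : V) ≠ 0 := fun e => ha (Subtype.ext e)
  have hb' : (b : V) ≠ 0 := fun e => hb (Subtype.ext e)
  obtain ⟨h0, hMA, hMB⟩ := H.graph_ne hA hB hne a.2 ha' b.2 hb'
  set M := E.S ((a : V) + b) with hM
  have hMs : E.InSpread M := inSpread_S h0
  have hle : M ≤ A ⊔ B := H.S_le_sup hA hB (Submodule.add_mem_sup a.2 b.2) h0
  have hsup : B ⊔ M = A ⊔ B := by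
    refine Submodule.eq_of_le_of_finrank_le (sup_le le_sup_right hle) ?_
    have h1 := Submodule.finrank_sup_add_finrank_inf_eq B M
    have h2 := Submodule.finrank_sup_add_finrank_inf_eq A B
    rw [H.inf_eq_bot hB hMs (Ne.symm hMB), finrank_bot, add_zero, H.finrank_eq_rk hB,
      H.finrank_eq_rk hMs] at h1
    rw [H.inf_eq_bot hA hB hne, finrank_bot, add_zero, H.finrank_eq_rk hA,
      H.finrank_eq_rk hB] at h2
    omega
  have hex : ∀ x : A, ∃ y : B, (x : V) + y ∈ M := fun x => by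
    have hx : (x : V) ∈ B ⊔ M := by rw [hsup]; exact Submodule.mem_sup_left x.2
    obtain ⟨p, hp, q, hq, he⟩ := Submodule.mem_sup.1 hx
    refine ⟨⟨p, hp⟩, ?_⟩
    show (x : V) + p ∈ M
    rw [← he, add_comm p q, add_assoc, add_self, add_zero]
    exact hq
  choose f hf using hex
  have huniq : ∀ (y y' : B) (p : V), p + (y : V) ∈ M → p + (y' : V) ∈ M → y = y' := by
    intro y y' p h1 h2
    have h3 : ((y + y' : B) : V) ∈ B ⊓ M := ⟨(y + y').2, by
      have := add_mem h1 h2
      rwa [add_add_add_comm, add_self, zero_add] at this⟩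
    rw [H.inf_eq_bot hB hMs (Ne.symm hMB)] at h3
    exact add_eq_zero.1 (Subtype.ext ((Submodule.mem_bot _).1 h3))
  have hadd : ∀ x y, f (x + y) = f x + f y := fun x y => huniq _ _ _ (hf _) (by
    have := add_mem (hf x) (hf y)
    rwa [add_add_add_comm] at this)
  have hfa : f a = b := huniq _ _ _ (hf a) (H.aft.self_mem_S H.two_le _)
  refine ⟨(AddMonoidHom.mk' f hadd).toZModLinearMap 2, ⟨?_, fun x x' hx hx' => ?_⟩, hfa⟩
  · refine (injective_iff_map_eq_zero _).2 fun x hx => ?_
    have hx' : f x = 0 := hx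
    have h1 : (x : V) ∈ A ⊓ M := ⟨x.2, by simpa [hx'] using hf x⟩
    rw [H.inf_eq_bot hA hMs (Ne.symm hMA)] at h1
    exact Subtype.ext ((Submodule.mem_bot _).1 h1)
  · have key : ∀ x : A, x ≠ 0 → E.S ((x : V) + f x) = M := fun x hx =>
      H.S_eq_of_mem hMs (hf x) fun e => hx (Subtype.ext (by
        have h1 : (x : V) ∈ A ⊓ B := ⟨x.2, by rw [add_eq_zero.1 e]; exact (f x).2⟩
        rw [H.inf_eq_bot hA hB hne] at h1
        exact (Submodule.mem_bot _).1 h1))
    exact (key x hx).trans (key x' hx').symm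

theorem graph_unique (H : E.Spreadlike) {A B : Submodule (ZMod 2) V} (hA : E.InSpread A)
    (hB : E.InSpread B) (hne : A ≠ B) {f g : A →ₗ[ZMod 2] B} (hf : E.IsGraph f)
    (hg : E.IsGraph g) {a : A} (ha : a ≠ 0) (h : f a = g a) : f = g := by
  refine LinearMap.ext fun x => ?_
  by_cases hx : x = 0
  · rw [hx, map_zero, map_zero]
  have ha' : (a : V) ≠ 0 := fun e => ha (Subtype.ext e)
  have hfa : (f a : V) ≠ 0 := fun e =>
    ha (hf.1 ((Subtype.ext e : f a = 0).trans (map_zero f).symm))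
  obtain ⟨h0, -, hMB⟩ := H.graph_ne hA hB hne a.2 ha' (f a).2 hfa
  have h1 : (x : V) + f x ∈ E.S ((a : V) + f a) := by
    rw [← hf.2 x a hx ha]; exact H.aft.self_mem_S H.two_le _
  have h2 : (x : V) + g x ∈ E.S ((a : V) + f a) := by
    rw [h, ← hg.2 x a hx ha]; exact H.aft.self_mem_S H.two_le _
  have h3 : ((f x + g x : B) : V) ∈ B ⊓ E.S ((a : V) + f a) := ⟨(f x + g x).2, by
    have := add_mem h1 h2
    rwa [add_add_add_comm, add_self, zero_add] at this⟩
  rw [H.inf_eq_bot hB (inSpread_S h0) (Ne.symm hMB)] at h3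
  exact add_eq_zero.1 (Subtype.ext ((Submodule.mem_bot _).1 h3))

theorem indep (H : E.Spreadlike) {A B C : Submodule (ZMod 2) V} (hA : E.InSpread A)
    (hB : E.InSpread B) (hne : A ≠ B) (hC : C ⊓ (A ⊔ B) = ⊥) {a b c : V} (ha : a ∈ A) (hb : b ∈ B)
    (hc : c ∈ C) (h : a + b + c = 0) : a = 0 ∧ b = 0 ∧ c = 0 := by
  have hc0 : c = 0 := by
    have : c ∈ C ⊓ (A ⊔ B) := ⟨hc, by rw [← add_eq_zero.1 h]; exact Submodule.add_mem_sup ha hb⟩
    rw [hC] at this
    exact (Submodule.mem_bot _).1 this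
  rw [hc0, add_zero] at h
  have hab := add_eq_zero.1 h
  have : a ∈ A ⊓ B := ⟨ha, by rw [hab]; exact hb⟩
  rw [H.inf_eq_bot hA hB hne] at this
  exact ⟨(Submodule.mem_bot _).1 this, by rw [← hab]; exact (Submodule.mem_bot _).1 this, hc0⟩

/-- Graphs compose, for three members in general position. -/
theorem graph_comp (H : E.Spreadlike) {A B C : Submodule (ZMod 2) V} (hA : E.InSpread A)
    (hB : E.InSpread B) (hC' : E.InSpread C) (hne : A ≠ B) (hC : C ⊓ (A ⊔ B) = ⊥)
    {f : A →ₗ[ZMod 2] B} {g : B →ₗ[ZMod 2] C} (hf : E.IsGraph f) (hg : E.IsGraph g) :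
    E.IsGraph (g.comp f) := by
  refine ⟨hg.1.comp hf.1, ?_⟩
  -- the sum of the three coordinates runs over one member
  let t : A →ₗ[ZMod 2] V := A.subtype + B.subtype.comp f + C.subtype.comp (g.comp f)
  have ht : ∀ x : A, t x = (x : V) + f x + g (f x) := fun x => rfl
  have hindep := fun {a b c : V} => H.indep hA hB hne hC (a := a) (b := b) (c := c)
  have hinj : ∀ x : A, t x = 0 → x = 0 := fun x e =>
    Subtype.ext (hindep x.2 (f x).2 (g (f x)).2 (ht x ▸ e)).1
  have hrange : finrank (ZMod 2) (LinearMap.range t) = E.rk := by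
    rw [LinearMap.finrank_range_of_inj ((injective_iff_map_eq_zero t).2 hinj), H.finrank_eq_rk hA]
  have hu : ∀ x : A, x ≠ 0 → (x : V) + f x ≠ 0 := fun x hx e =>
    hx (Subtype.ext (hindep x.2 (f x).2 C.zero_mem (by rw [add_zero]; exact e)).1)
  have hM : ∀ x : A, x ≠ 0 → E.S (t x) = LinearMap.range t := by
    intro x hx
    have hfx : f x ≠ 0 := fun e => hx (hf.1 (e.trans (map_zero f).symm))
    have hux := hu x hx
    have hvx : (f x : V) + g (f x) ≠ 0 := fun e =>
      hfx (Subtype.ext (hindep A.zero_mem (f x).2 (g (f x)).2 (by rw [zero_add]; exact e)).2.1)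
    have h1 : E.S (t x) ≤ E.S ((x : V) + f x) ⊔ C :=
      H.S_le_sup (inSpread_S hux) hC'
        (by rw [ht]; exact Submodule.add_mem_sup (H.aft.self_mem_S H.two_le _) (g (f x)).2)
        (fun e => hx (hinj x e))
    have h2 : E.S (t x) ≤ A ⊔ E.S ((f x : V) + g (f x)) :=
      H.S_le_sup hA (inSpread_S hvx)
        (by rw [ht, add_assoc]; exact Submodule.add_mem_sup x.2 (H.aft.self_mem_S H.two_le _))
        (fun e => hx (hinj x e))
    have hgraph1 : E.S ((x : V) + f x) = LinearMap.range (A.subtype + B.subtype.comp f) := by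
      refine (Submodule.eq_of_le_of_finrank_le ?_ ?_).symm
      · rintro _ ⟨y, rfl⟩
        by_cases hy : y = 0
        · rw [hy, map_zero]; exact zero_mem _
        · rw [hf.2 x y hx hy]; exact H.aft.self_mem_S H.two_le _
      · rw [H.aft.finrank_S hux, LinearMap.finrank_range_of_inj, H.finrank_eq_rk hA]
        refine (injective_iff_map_eq_zero _).2 fun y hy => by_contra fun hy0 => hu y hy0 hy
    have hgraph2 : E.S ((f x : V) + g (f x)) = LinearMap.range (B.subtype + C.subtype.comp g) := by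
      refine (Submodule.eq_of_le_of_finrank_le ?_ ?_).symm
      · rintro _ ⟨y, rfl⟩
        by_cases hy : y = 0
        · rw [hy, map_zero]; exact zero_mem _
        · rw [hg.2 (f x) y hfx hy]; exact H.aft.self_mem_S H.two_le _
      · rw [H.aft.finrank_S hvx, LinearMap.finrank_range_of_inj, H.finrank_eq_rk hB]
        refine (injective_iff_map_eq_zero _).2 fun y hy => ?_
        exact Subtype.ext (hindep A.zero_mem y.2 (g y).2 (by rw [zero_add]; exact hy)).2.1
    refine Submodule.eq_of_le_of_finrank_le (fun m hm => ?_)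
      (by rw [hrange, H.aft.finrank_S (fun e => hx (hinj x e))])
    obtain ⟨p, hp, c, hc, hm1⟩ := Submodule.mem_sup.1 (h1 hm)
    obtain ⟨a, ha, q, hq, hm2⟩ := Submodule.mem_sup.1 (h2 hm)
    rw [hgraph1] at hp
    rw [hgraph2] at hq
    obtain ⟨y, rfl⟩ := hp
    obtain ⟨b, rfl⟩ := hq
    have hyv : (y : V) + f y + c = a + ((b : V) + g b) := hm1.trans hm2.symm
    obtain ⟨e1, e2, e3⟩ := hindep (a := (y : V) + a) (b := (f y : V) + b) (c := c + g b)
      (add_mem y.2 ha) (add_mem (f y).2 b.2) (add_mem hc (g b).2) (by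
        calc (y : V) + a + ((f y : V) + b) + (c + g b)
            = ((y : V) + f y + c) + (a + ((b : V) + g b)) := by abel
          _ = 0 := by rw [hyv]; exact add_self _)
    refine ⟨y, ?_⟩
    rw [ht, ← hm1]
    show (y : V) + f y + g (f y) = (y : V) + f y + c
    rw [show f y = b from Subtype.ext (add_eq_zero.1 e2), add_eq_zero.1 e3]
  -- drop the middle coordinate
  intro a a' ha ha'
  let s : A →ₗ[ZMod 2] V := A.subtype + C.subtype.comp (g.comp f)
  have hs : ∀ x : A, s x = (x : V) + g (f x) := fun x => rfl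
  have hsinj : ∀ x : A, s x = 0 → x = 0 := fun x e =>
    Subtype.ext (hindep x.2 B.zero_mem (g (f x)).2 (by rw [add_zero]; exact hs x ▸ e)).1
  have key : ∀ x : A, x ≠ 0 → E.S (s x) = LinearMap.range s := by
    intro x hx
    have hsx : s x ≠ 0 := fun e => hx (hsinj x e)
    have htx : t x ≠ 0 := fun e => hx (hinj x e)
    have hAC : A ≠ C := fun e => by
      rw [← e, inf_eq_left.2 le_sup_left] at hC
      have := H.finrank_eq_rk hA
      rw [hC, finrank_bot] at this
      have := H.three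
      omega
    have h1 : E.S (s x) ≤ E.S (t x) ⊔ B := H.S_le_sup (inSpread_S htx) hB (by
      have h : s x = t x + (f x : V) := by
        rw [hs, ht, add_assoc, add_assoc, add_comm (g (f x) : V) (f x), ← add_assoc (f x : V),
          add_self, zero_add]
      rw [h]
      exact Submodule.add_mem_sup (H.aft.self_mem_S H.two_le _) (f x).2) hsx
    have h2 : E.S (s x) ≤ A ⊔ C :=
      H.S_le_sup hA hC' (Submodule.add_mem_sup x.2 (g (f x)).2) hsx
    refine Submodule.eq_of_le_of_finrank_le (fun m hm => ?_) ?_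
    · obtain ⟨p, hp, b, hb, hm1⟩ := Submodule.mem_sup.1 (h1 hm)
      obtain ⟨a, ha, c, hc, hm2⟩ := Submodule.mem_sup.1 (h2 hm)
      rw [hM x hx] at hp
      obtain ⟨y, rfl⟩ := hp
      obtain ⟨e1, e2, e3⟩ := hindep (a := (y : V) + a) (b := (f y : V) + b) (c := g (f y) + c)
        (add_mem y.2 ha) (add_mem (f y).2 hb) (add_mem (g (f y)).2 hc) (by
          have hyv : t y + b = a + c := hm1.trans hm2.symm
          calc (y : V) + a + ((f y : V) + b) + (g (f y) + c)
              = (t y + b) + (a + c) := by rw [ht]; abel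
            _ = 0 := by rw [hyv]; exact add_self _)
      refine ⟨y, ?_⟩
      rw [hs, ← hm2, add_eq_zero.1 e1, add_eq_zero.1 e3]
    · rw [H.aft.finrank_S hsx, LinearMap.finrank_range_of_inj
        ((injective_iff_map_eq_zero s).2 hsinj), H.finrank_eq_rk hA]
  exact (key a ha).trans (key a' ha').symm

theorem comp_of_disjoint (H : E.Spreadlike) {A B C : Submodule (ZMod 2) V} (hA : E.InSpread A)
    (hB : E.InSpread B) (hC : E.InSpread C) (hne : A ≠ B) (hd : C ⊓ (A ⊔ B) = ⊥)
    {δ : A →ₗ[ZMod 2] A} {f : A →ₗ[ZMod 2] B} (hf : E.IsGraph f) (hfδ : E.IsGraph (f.comp δ))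
    {g : A →ₗ[ZMod 2] C} (hg : E.IsGraph g) : E.IsGraph (g.comp δ) := by
  obtain ⟨a, haA, ha0⟩ := exists_ne_zero (M := A)
    (by rw [H.finrank_eq_rk hA]; have := H.three; omega)
  have ha : (⟨a, haA⟩ : A) ≠ 0 := fun e => ha0 (congrArg Subtype.val e)
  have hBC : B ≠ C := fun e => by
    rw [← e, inf_eq_left.2 le_sup_right] at hd
    have := H.finrank_eq_rk hB
    rw [hd, finrank_bot] at this
    have := H.three
    omega
  have hAC : A ≠ C := fun e => by
    rw [← e, inf_eq_left.2 le_sup_left] at hd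
    have := H.finrank_eq_rk hA
    rw [hd, finrank_bot] at this
    have := H.three
    omega
  obtain ⟨ψ, hψ, hψa⟩ := H.exists_graph hB hC hBC (f ⟨a, haA⟩) (g ⟨a, haA⟩)
    (fun e => ha (hf.1 (e.trans (map_zero f).symm))) (fun e => ha (hg.1 (e.trans (map_zero g).symm)))
  have hgψ : ψ.comp f = g :=
    H.graph_unique hA hC hAC (H.graph_comp hA hB hC hne hd hf hψ) hg ha hψa
  rw [← hgψ, LinearMap.comp_assoc]
  exact H.graph_comp hA hB hC hne hd hfδ hψ

theorem exists_third (H : E.Spreadlike) {A B : Submodule (ZMod 2) V} (hA : E.InSpread A)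
    (hB : E.InSpread B) : ∃ C, E.InSpread C ∧ C ⊓ (A ⊔ B) = ⊥ := by
  obtain ⟨v, hv⟩ := exists_not_mem (M := A ⊔ B) (by
    have h := Submodule.finrank_add_le_finrank_add_finrank A B
    rw [H.finrank_eq_rk hA, H.finrank_eq_rk hB] at h
    have := H.small
    omega)
  have hv0 : v ≠ 0 := fun e => hv (e ▸ zero_mem _)
  refine ⟨E.S v, inSpread_S hv0, ?_⟩
  by_contra hne
  obtain ⟨u, hu, hu0⟩ := Submodule.exists_mem_ne_zero_of_ne_bot hne
  have h1 := H.S_le_sup hA hB hu.2 hu0
  rw [H.S_eq_of_mem (inSpread_S hv0) hu.1 hu0] at h1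
  exact hv (h1 (H.aft.self_mem_S H.two_le v))

theorem exists_slope (H : E.Spreadlike) {A : Submodule (ZMod 2) V} (hA : E.InSpread A) :
    ∃ δ : A →ₗ[ZMod 2] A, E.Slope δ ∧ Function.Injective δ ∧ δ ≠ LinearMap.id := by
  obtain ⟨B, hB, hBA⟩ := H.exists_third hA hA
  rw [sup_idem] at hBA
  have hne : A ≠ B := fun e => by
    rw [← e, inf_idem] at hBA
    have := H.finrank_eq_rk hA
    rw [hBA, finrank_bot] at this
    have := H.three
    omega
  obtain ⟨a, haA, ha0⟩ := exists_ne_zero (M := A)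
    (by rw [H.finrank_eq_rk hA]; have := H.three; omega)
  have ha : (⟨a, haA⟩ : A) ≠ 0 := fun e => ha0 (congrArg Subtype.val e)
  obtain ⟨b, hbB, hb0⟩ := exists_ne_zero (M := B)
    (by rw [H.finrank_eq_rk hB]; have := H.three; omega)
  obtain ⟨b', hb'B, hbb'⟩ : ∃ b' ∈ B, b' ∉ line b := by
    by_contra hc
    simp only [not_exists, not_and, not_not] at hc
    have h1 := Submodule.finrank_mono (show B ≤ line b from hc)
    rw [finrank_line hb0, H.finrank_eq_rk hB] at h1
    have := H.three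
    omega
  rw [mem_line, not_or] at hbb'
  obtain ⟨f, hf, hfa⟩ := H.exists_graph hA hB hne ⟨a, haA⟩ ⟨b, hbB⟩ ha
    (fun e => hb0 (congrArg Subtype.val e))
  obtain ⟨f', hf', hfa'⟩ := H.exists_graph hA hB hne ⟨a, haA⟩ ⟨b', hb'B⟩ ha
    (fun e => hbb'.1 (congrArg Subtype.val e))
  let e := LinearEquiv.ofBijective f ⟨hf.1, (LinearMap.injective_iff_surjective_of_finrank_eq_finrank
    (by rw [H.finrank_eq_rk hA, H.finrank_eq_rk hB])).1 hf.1⟩
  let δ : A →ₗ[ZMod 2] A := (e.symm : B →ₗ[ZMod 2] A).comp f'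
  have hfδ : f.comp δ = f' := LinearMap.ext fun x => e.apply_symm_apply (f' x)
  refine ⟨δ, ?_, e.symm.injective.comp hf'.1, fun he => ?_⟩
  · intro C g hC hCA hg
    by_cases hd : C ⊓ (A ⊔ B) = ⊥
    · exact H.comp_of_disjoint hA hB hC hne hd hf (hfδ ▸ hf') hg
    obtain ⟨C', hC', hd'⟩ := H.exists_third hA hB
    have hAC' : A ≠ C' := fun e => by
      rw [← e, inf_eq_left.2 le_sup_left] at hd'
      have := H.finrank_eq_rk hA
      rw [hd', finrank_bot] at this
      have := H.three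
      omega
    obtain ⟨c, hcC, hc0⟩ := exists_ne_zero (M := C')
      (by rw [H.finrank_eq_rk hC']; have := H.three; omega)
    obtain ⟨g', hg', -⟩ := H.exists_graph hA hC' hAC' ⟨a, haA⟩ ⟨c, hcC⟩ ha
      (fun e => hc0 (congrArg Subtype.val e))
    refine H.comp_of_disjoint hA hC' hC hAC' ?_ hg'
      (H.comp_of_disjoint hA hB hC' hne hd' hf (hfδ ▸ hf') hg') hg
    by_contra hne'
    obtain ⟨u, hu, hu0⟩ := Submodule.exists_mem_ne_zero_of_ne_bot hd
    have hCle : C ≤ A ⊔ B := by
      rw [← H.S_eq_of_mem hC hu.1 hu0]; exact H.S_le_sup hA hB hu.2 hu0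
    obtain ⟨u', hu', hu0'⟩ := Submodule.exists_mem_ne_zero_of_ne_bot hne'
    have hCle' : C ≤ A ⊔ C' := by
      rw [← H.S_eq_of_mem hC hu'.1 hu0']; exact H.S_le_sup hA hC' hu'.2 hu0'
    have hdim : ∀ {X Y : Submodule (ZMod 2) V}, E.InSpread X → E.InSpread Y → X ≠ Y →
        finrank (ZMod 2) (X ⊔ Y : Submodule (ZMod 2) V) = E.rk + E.rk := fun {X Y} hX hY hXY => by
      have h := Submodule.finrank_sup_add_finrank_inf_eq X Y
      rw [H.inf_eq_bot hX hY hXY, finrank_bot, add_zero, H.finrank_eq_rk hX,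
        H.finrank_eq_rk hY] at h
      exact h
    have h1 : A ⊔ C = A ⊔ C' := Submodule.eq_of_le_of_finrank_le (sup_le le_sup_left hCle')
      (by rw [hdim hA hC' hAC', hdim hA hC (Ne.symm hCA)])
    have h2 : C' ≤ A ⊔ B := (le_sup_right.trans_eq h1.symm).trans (sup_le le_sup_left hCle)
    rw [inf_eq_left.2 h2] at hd'
    have := H.finrank_eq_rk hC'
    rw [hd', finrank_bot] at this
    have := H.three
    omega
  · rw [he, LinearMap.comp_id] at hfδ
    rw [hfδ] at hfa
    exact hbb'.2 (congrArg Subtype.val (hfa'.symm.trans hfa))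

/-- A transvection-like element on `A`, with centre `u`. -/
def LocalTransv (E : Pairing G V V') (A : Submodule (ZMod 2) V) (g : G) (u : V) : Prop :=
  (∀ a ∈ A, g • a ∈ A) ∧ u ∈ A ∧ u ≠ 0 ∧ (∀ a ∈ A, g • a = a ∨ g • a = a + u) ∧
    ∃ a ∈ A, g • a = a + u

theorem absurd' (H : E.Spreadlike) {A : Submodule (ZMod 2) V} (hA : E.InSpread A) {g : G} {u : V}
    (hg : LocalTransv E A g u) : False := by
  obtain ⟨δ, hδ, hinj, hne⟩ := H.exists_slope hA
  refine hne (LinearMap.ext fun w => ?_)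
  by_cases hw : w = 0
  · rw [hw, map_zero, map_zero]
  have hw' : (w : V) ≠ 0 := fun e => hw (Subtype.ext e)
  -- move the centre to the vector
  obtain ⟨x, hx⟩ := H.aft.trans hg.2.2.1 hw'
  have hxA : ∀ a ∈ A, x • a ∈ A ∧ x⁻¹ • a ∈ A := by
    have hA1 : E.S u = A := H.S_eq_of_mem hA hg.2.1 hg.2.2.1
    have hA2 : E.S (w : V) = A := H.S_eq_of_mem hA w.2 hw'
    intro a ha
    constructor
    · have := smul_mem_S x (hA1.symm ▸ ha : a ∈ E.S u)
      rw [hx, hA2] at this
      exact this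
    · rw [← hA1, ← smul_mem_S_iff x, smul_inv_smul, hx, hA2]
      exact ha
  set h := x * g * x⁻¹ with hh
  have hh1 : ∀ a ∈ A, h • a = a ∨ h • a = a + (w : V) := by
    intro a ha
    rw [hh, mul_smul, mul_smul]
    rcases hg.2.2.2.1 _ (hxA a ha).2 with e | e <;> rw [e]
    · exact Or.inl (smul_inv_smul x a)
    · exact Or.inr (by rw [smul_add, smul_inv_smul, hx])
  have hh2 : ∃ a ∈ A, h • a = a + (w : V) := by
    obtain ⟨a, ha, e⟩ := hg.2.2.2.2
    exact ⟨x • a, (hxA a ha).1, by rw [hh, mul_smul, mul_smul, inv_smul_smul, e, smul_add, hx]⟩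
  have hhA : ∀ a ∈ A, h • a ∈ A := fun a ha => by
    rcases hh1 a ha with e | e <;> rw [e]
    · exact ha
    · exact add_mem ha w.2
  have hinv : ∀ a ∈ A, h⁻¹ • a ∈ A := fun a ha => by
    have hmap : A.map (actLin h) = A := Submodule.eq_of_le_of_finrank_le
      (by rintro _ ⟨y, hy, rfl⟩; exact hhA y hy)
      (le_of_eq (LinearEquiv.finrank_eq
        (Submodule.equivMapOfInjective (actLin h) (MulAction.injective h) A)))
    obtain ⟨y, hy, e⟩ : a ∈ A.map (actLin h) := by rw [hmap]; exact ha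
    rw [← e, actLin_apply, inv_smul_smul]
    exact hy
  let t : A →ₗ[ZMod 2] A := (actLin h).restrict hhA
  let t' : A →ₗ[ZMod 2] A := (actLin h⁻¹).restrict hinv
  have htt' : ∀ a, t (t' a) = a := fun a => Subtype.ext (smul_inv_smul h (a : V))
  have ht't : ∀ a, t' (t a) = a := fun a => Subtype.ext (inv_smul_smul h (a : V))
  -- conjugation preserves slopes
  have hsl : E.Slope (t.comp (δ.comp t')) := by
    intro C f hC hCA hf
    obtain ⟨c, hc, rfl⟩ := hC
    set C' := E.S (h⁻¹ • c) with hC'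
    have hc' : h⁻¹ • c ≠ 0 := (smul_ne_zero_iff_ne _).2 hc
    have hto : ∀ v ∈ E.S c, h⁻¹ • v ∈ C' := fun v hv => smul_mem_S _ hv
    have hfrom : ∀ v ∈ C', h • v ∈ E.S c := fun v hv => by
      have := smul_mem_S h hv
      rwa [smul_inv_smul] at this
    let f' : A →ₗ[ZMod 2] C' := ((actLin h⁻¹).restrict hto).comp (f.comp t)
    have key : ∀ (z : G) {v v' : V}, E.S v = E.S v' → E.S (z • v) = E.S (z • v') := by
      intro z v v' e
      ext y
      rw [← smul_inv_smul z y, smul_mem_S_iff, smul_mem_S_iff, e]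
    have hf' : E.IsGraph f' := by
      refine ⟨fun a b e => ?_, fun a a' ha ha' => ?_⟩
      · have e1 : (f (t a) : V) = f (t b) :=
          MulAction.injective h⁻¹ (congrArg Subtype.val e)
        rw [← ht't a, ← ht't b, hf.1 (Subtype.ext e1)]
      · have e : ∀ y : A, (y : V) + f' y = h⁻¹ • ((t y : V) + f (t y)) := fun y => by
          rw [smul_add]
          exact congrArg (· + (f' y : V)) (congrArg Subtype.val (ht't y)).symm
        rw [e, e]
        exact key _ (hf.2 _ _ (fun e' => ha (by rw [← ht't a, e', map_zero]))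
          (fun e' => ha' (by rw [← ht't a', e', map_zero])))
    have hC'A : C' ≠ A := fun e => hCA (by
      rw [← H.S_eq_of_mem hA (hhA _ (e ▸ H.aft.self_mem_S H.two_le (h⁻¹ • c) : h⁻¹ • c ∈ A))
        (by rw [smul_inv_smul]; exact hc), smul_inv_smul])
    have h1 := hδ C' f' (inSpread_S hc') hC'A hf'
    have hback : ∀ y, (f (t (δ (t' y))) : V) = h • (f' (δ (t' y)) : V) := fun y =>
      (smul_inv_smul h _).symm
    refine ⟨fun a b e => ?_, fun a a' ha ha' => ?_⟩
    · have e1 := congrArg t' (hf.1 e)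
      simp only [LinearMap.comp_apply, ht't] at e1
      rw [← htt' a, ← htt' b, hinj e1]
    · have e : ∀ y : A, (y : V) + f (t (δ (t' y))) =
          h • (((t' y : A) : V) + f' (δ (t' y))) := fun y => by
        rw [smul_add, hback]
        exact congrArg (· + h • (f' (δ (t' y)) : V)) (congrArg Subtype.val (htt' y)).symm
      show E.S ((a : V) + f (t (δ (t' a)))) = E.S ((a' : V) + f (t (δ (t' a'))))
      rw [e, e]
      exact key _ (h1.2 _ _ (fun e' => ha (by rw [← htt' a, e', map_zero]))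
        (fun e' => ha' (by rw [← htt' a', e', map_zero])))
  -- a vector where the two slopes agree
  set T := t + LinearMap.id with hT
  have hTr : ∀ a, (T a : V) ∈ line (w : V) := fun a => by
    show h • (a : V) + (a : V) ∈ _
    rcases hh1 _ a.2 with e | e <;> rw [e]
    · rw [add_self]; exact zero_mem _
    · rw [add_comm (a : V) w, add_assoc, add_self, add_zero]
      exact Submodule.mem_span_singleton_self _
  have hTd : E.rk ≤ finrank (ZMod 2) (LinearMap.ker T) + 1 := by
    have h1 := LinearMap.finrank_range_add_finrank_ker T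
    have h2 : finrank (ZMod 2) (LinearMap.range T) ≤ 1 := by
      rw [← Submodule.finrank_map_subtype_eq, ← finrank_line hw']
      exact Submodule.finrank_mono (by rintro _ ⟨_, ⟨a, rfl⟩, rfl⟩; exact hTr a)
    rw [H.finrank_eq_rk hA] at h1
    omega
  have hTd' : finrank (ZMod 2) (LinearMap.ker (T.comp δ)) + 1 ≥ E.rk := by
    have h1 := LinearMap.finrank_range_add_finrank_ker (T.comp δ)
    have h2 : finrank (ZMod 2) (LinearMap.range (T.comp δ)) ≤ 1 := by
      rw [← Submodule.finrank_map_subtype_eq, ← finrank_line hw']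
      exact Submodule.finrank_mono (by rintro _ ⟨_, ⟨a, rfl⟩, rfl⟩; exact hTr _)
    rw [H.finrank_eq_rk hA] at h1
    omega
  obtain ⟨a, ha, ha0⟩ := exists_ne_zero (M := LinearMap.ker T ⊓ LinearMap.ker (T.comp δ)) (by
    have h1 := Submodule.finrank_sup_add_finrank_inf_eq (LinearMap.ker T) (LinearMap.ker (T.comp δ))
    have h2 := Submodule.finrank_le (LinearMap.ker T ⊔ LinearMap.ker (T.comp δ))
    rw [H.finrank_eq_rk hA] at h2
    have := H.three
    omega)
  have hta : t a = a := add_eq_zero.1 (LinearMap.mem_ker.1 ha.1)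
  have htδa : t (δ a) = δ a := add_eq_zero.1 (LinearMap.mem_ker.1 ha.2)
  have ht'a : t' a = a := by conv_lhs => rw [← hta, ht't]
  obtain ⟨B, hB, hBA⟩ := H.exists_third hA hA
  have hBne : B ≠ A := fun e => by
    rw [e, sup_idem, inf_idem] at hBA
    have := H.finrank_eq_rk hA
    rw [hBA, finrank_bot] at this
    have := H.three
    omega
  obtain ⟨b, hbB, hb0⟩ := exists_ne_zero (M := B)
    (by rw [H.finrank_eq_rk hB]; have := H.three; omega)
  obtain ⟨f₀, hf₀, -⟩ := H.exists_graph hA hB (Ne.symm hBne) a ⟨b, hbB⟩ ha0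
    (fun e => hb0 (congrArg Subtype.val e))
  have heq : f₀.comp (t.comp (δ.comp t')) = f₀.comp δ :=
    H.graph_unique hA hB (Ne.symm hBne) (hsl B f₀ hB hBne hf₀) (hδ B f₀ hB hBne hf₀) ha0
      (show f₀ (t (δ (t' a))) = f₀ (δ a) by rw [ht'a, htδa])
  have hcomm : ∀ y, t (δ y) = δ (t y) := fun y => by
    have := hf₀.1 (LinearMap.congr_fun heq (t y))
    rw [LinearMap.comp_apply, LinearMap.comp_apply, ht't] at this
    exact this
  -- so the centre is fixed
  obtain ⟨z, hz, hze⟩ := hh2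
  have htz : t ⟨z, hz⟩ = ⟨z, hz⟩ + w := Subtype.ext hze
  have h3 := hcomm ⟨z, hz⟩
  rw [htz, map_add] at h3
  have h4 : t (δ ⟨z, hz⟩) = δ ⟨z, hz⟩ ∨ t (δ ⟨z, hz⟩) = δ ⟨z, hz⟩ + w :=
    (hh1 _ (δ ⟨z, hz⟩).2).imp (fun e => Subtype.ext e) (fun e => Subtype.ext e)
  rcases h4 with e | e <;> rw [e] at h3
  · exact absurd (hinj ((add_eq_left.1 h3.symm).trans (map_zero δ).symm)) hw
  · exact (add_left_cancel h3).symm

end Spreadlike

end Pairing

end CfsgLib.TwoTransTwo
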